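import Mathlib
import Cfsg.Prelude.Def_Transfer
import Cfsg.Agent.Lib.Grp.Signalizer
import Cfsg.Agent.Lib.Grp.Frattini
import Cfsg.Agent.Lib.Grp.FlavellPair
import Cfsg.Agent.Lib.Grp.HallHigmanAction

/-!
Basic facts for the bound on the Fitting height by that of the fixed points of an operator of
prime order.
-/

set_option autoImplicit false
set_option linter.unusedSectionVars false
set_option linter.style.haveILetI false

namespace Cfsg.Agent.Grp.Turull

open Subgroup
open scoped Pointwise commutatorElement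

variable {G : Type*} [Group G]

theorem normalizer_commutator {H K L : Subgroup G} (h1 : H ≤ normalizer (K : Set G))
    (h2 : H ≤ normalizer (L : Set G)) : H ≤ normalizer ((⁅K, L⁆ : Subgroup G) : Set G) := fun g hg => by
  rw [mem_normalizer_iff_smul, ← map_conj_eq_smul, Subgroup.map_commutator, map_conj_eq_smul,
    map_conj_eq_smul, mem_normalizer_iff_smul.mp (h1 hg), mem_normalizer_iff_smul.mp (h2 hg)]

theorem le_normalizer_of_commute {H K : Subgroup G} (h : ∀ g ∈ H, ∀ k ∈ K, g * k = k * g) :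
    H ≤ normalizer (K : Set G) :=
  (le_centralizer_iff.mp fun k hk => mem_centralizer_iff.mpr fun g hg => h g hg k hk).trans
    (Subgroup.centralizer_le_normalizer _)

theorem zpowers_le_normalizer {H : Subgroup G} {g : G} (h : g ∈ normalizer (H : Set G)) :
    zpowers g ≤ normalizer (H : Set G) :=
  zpowers_le.mpr h

theorem centralizer_zpowers (a : G) :
    centralizer ((zpowers a : Subgroup G) : Set G) = centralizer ({a} : Set G) :=
  (centralizer_singleton_eq_zpowers a).symm

theorem commute_zpowers' {a x : G} (h : a * x = x * a) {t : G} (ht : t ∈ zpowers a) : t * x = x * t := by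
  obtain ⟨i, rfl⟩ := mem_zpowers_iff.mp ht
  exact ((show Commute a x from h).zpow_left i).eq

theorem mem_fixed {H : Subgroup G} {a x : G} :
    x ∈ H ⊓ centralizer ((zpowers a : Subgroup G) : Set G) ↔ x ∈ H ∧ a * x = x * a := by
  rw [centralizer_zpowers, mem_inf_centralizer]

theorem card_zpowers_dvd {a : G} {r : ℕ} (har : a ^ r = 1) : Nat.card (zpowers a) ∣ r := by
  rw [Nat.card_zpowers]; exact orderOf_dvd_of_pow_eq_one har

theorem coprime_zpowers {a : G} {r : ℕ} (har : a ^ r = 1) (hr : r.Prime) {H : Subgroup G}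
    (h : ¬ r ∣ Nat.card H) : (Nat.card (zpowers a)).Coprime (Nat.card H) :=
  (hr.coprime_iff_not_dvd.mpr h).coprime_dvd_left (card_zpowers_dvd har)

theorem not_dvd_card_of_pGroup [Finite G] {p r : ℕ} (hp : p.Prime) (hr : r.Prime) (hpr : p ≠ r)
    {H : Subgroup G} (hH : IsPGroup p H) : ¬ r ∣ Nat.card H := by
  haveI := Fact.mk hp
  obtain ⟨n, hn⟩ := hH.exists_card_eq
  rw [hn]
  exact fun h => hpr ((Nat.prime_dvd_prime_iff_eq hr hp).mp (hr.dvd_of_dvd_pow h)).symm

/-- An element of prime order has a fixed point on an invariant set of order prime to it. -/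
theorem exists_fixed_of_invariant [Finite G] {a : G} {r : ℕ} (hr : r.Prime) (har : a ^ r = 1)
    (s : Set G) (hinv : ∀ x ∈ s, a * x * a⁻¹ ∈ s) (hcard : ¬ r ∣ Nat.card ↥s) :
    ∃ x ∈ s, a * x = x * a := by
  classical
  haveI := Fact.mk hr
  haveI : Fintype ↥s := Fintype.ofFinite _
  let f : ↥s → ↥s := fun x => ⟨a * x * a⁻¹, hinv x x.2⟩
  have hiter : ∀ (n : ℕ) (x : ↥s), ((f^[n] x : ↥s) : G) = a ^ n * x * (a ^ n)⁻¹ := by
    intro n
    induction n with
    | zero => intro x; simp
    | succ n ih =>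
      intro x
      rw [Function.iterate_succ_apply']
      show a * _ * a⁻¹ = _
      rw [ih, pow_succ']; group
  have hfr : ∀ x, f^[r] x = x := fun x => Subtype.ext (by rw [hiter, har]; simp)
  let σ : Equiv.Perm ↥s :=
    { toFun := f
      invFun := f^[r - 1]
      left_inv := fun x => by
        rw [← Function.iterate_succ_apply, show (r - 1).succ = r by have := hr.pos; omega, hfr]
      right_inv := fun x => by
        rw [← Function.iterate_succ_apply' f, show (r - 1).succ = r by have := hr.pos; omega, hfr] }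
  have hσ : σ ^ r ^ 1 = 1 := by
    rw [pow_one]
    refine Equiv.ext fun x => ?_
    rw [Equiv.Perm.coe_pow]
    exact hfr x
  obtain ⟨x, hx⟩ := Equiv.Perm.exists_fixed_point_of_prime (p := r) (n := 1)
    (by rwa [← Nat.card_eq_fintype_card]) hσ
  exact ⟨x, x.2, mul_inv_eq_iff_eq_mul.mp (congrArg Subtype.val hx)⟩

/-- An invariant left coset contains a fixed element. -/
theorem exists_fixed_in_coset [Finite G] {a u : G} {r : ℕ} (hr : r.Prime) (har : a ^ r = 1)
    (T : Subgroup G) (haT : a ∈ normalizer (T : Set G)) (hcard : ¬ r ∣ Nat.card T)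
    (hu : u⁻¹ * (a * u * a⁻¹) ∈ T) : ∃ c, u⁻¹ * c ∈ T ∧ a * c = c * a := by
  obtain ⟨c, hc, hac⟩ := exists_fixed_of_invariant hr har {x : G | u⁻¹ * x ∈ T}
    (fun x hx => by
      have h1 := T.mul_mem hu (mem_conj_normalizer haT (show u⁻¹ * x ∈ T from hx))
      show u⁻¹ * (a * x * a⁻¹) ∈ T
      convert h1 using 1; group)
    (by
      rwa [Nat.card_congr (show ↥{x : G | u⁻¹ * x ∈ T} ≃ ↥T from
        { toFun := fun x => ⟨u⁻¹ * x, x.2⟩
          invFun := fun t => ⟨u * t, by simp⟩
          left_inv := fun x => Subtype.ext (by simp)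
          right_inv := fun t => Subtype.ext (by simp) })])
  exact ⟨c, hc, hac⟩

/-- An operator of prime order without fixed points on a module centralizes the image of an odd or
abelian coprime group acting on it. -/
theorem fpf_commutator_le [Finite G] {p q r : ℕ} (hp : p.Prime) (hq : q.Prime) (hr : r.Prime)
    (hpq : p ≠ q) (hpr : p ≠ r) (hqr : q ≠ r) {a : G} (har : a ^ r = 1) {Q W : Subgroup G}
    (hQ : IsPGroup q Q) (haQ : a ∈ normalizer (Q : Set G)) (hW : Cfsg.IsElementaryAbelian p W)
    (haW : a ∈ normalizer (W : Set G)) (hQW : Q ≤ normalizer (W : Set G))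
    (hexc : q ≠ 2 ∨ IsMulCommutative Q)
    (hfix : ∀ w ∈ W, a * w = w * a → w = 1) : ⁅Q, zpowers a⁆ ≤ centralizer (W : Set G) := by
  haveI := Fact.mk hp
  haveI := Fact.mk hq
  haveI := Fact.mk hr
  by_cases ha : a = 1
  · subst ha
    rw [zpowers_one_eq_bot, commutator_bot_right]
    exact bot_le
  have hX : Nat.card (zpowers a) = r := by
    rw [Nat.card_zpowers]; exact orderOf_eq_prime har ha
  by_contra hne
  refine exists_fixed_of_not_centralizing hpq hpr hqr (zpowers a) Q W hX hQ
    (zpowers_le_normalizer haQ) hW (zpowers_le_normalizer haW) hQW hne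
    (fun h2 _ => hexc.resolve_left (not_not_intro h2)) ?_
  refine (Subgroup.eq_bot_iff_forall _).mpr fun w hw => ?_
  obtain ⟨hw1, hw2⟩ := mem_fixed.mp hw
  exact hfix w hw1 hw2

/-- For an abelian fixed-point-free group the previous statement gives a trivial action. -/
theorem fpf_abelian_le [Finite G] {p q r : ℕ} (hp : p.Prime) (hq : q.Prime) (hr : r.Prime)
    (hpq : p ≠ q) (hpr : p ≠ r) (hqr : q ≠ r) {a : G} (har : a ^ r = 1) {Q W : Subgroup G}
    (hQ : IsPGroup q Q) [IsMulCommutative Q] (haQ : a ∈ normalizer (Q : Set G))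
    (hQfix : ∀ y ∈ Q, a * y = y * a → y = 1) (hW : Cfsg.IsElementaryAbelian p W)
    (haW : a ∈ normalizer (W : Set G)) (hQW : Q ≤ normalizer (W : Set G))
    (hfix : ∀ w ∈ W, a * w = w * a → w = 1) : Q ≤ centralizer (W : Set G) := by
  have h := fpf_commutator_le hp hq hr hpq hpr hqr har hQ haQ hW haW hQW (Or.inr inferInstance) hfix
  refine le_trans ?_ h
  intro y hy
  obtain ⟨m, hm, c, hc, rfl⟩ := exists_commutator_mul_fixed (zpowers a) Q (zpowers_le_normalizer haQ)
    (coprime_zpowers har hr (not_dvd_card_of_pGroup hq hr hqr hQ))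
    (Or.inl (Group.isSolvable_of_comm mul_comm')) hy
  obtain ⟨hc1, hc2⟩ := mem_fixed.mp hc
  rwa [hQfix c hc1 hc2, mul_one]

/-- `[V, z] ∩ C(z) = 1` for an element of coprime order on an elementary abelian group. -/
theorem eq_one_of_mem_commutator [Finite G] {p q : ℕ} (hp : p.Prime) (hq : q.Prime) (hpq : p ≠ q)
    {Q V : Subgroup G} (hQ : IsPGroup q Q) (hV : Cfsg.IsElementaryAbelian p V)
    (hQV : Q ≤ normalizer (V : Set G)) {v : G} (hv : v ∈ ⁅V, Q⁆) (hc : ∀ y ∈ Q, y * v = v * y) :
    v = 1 := by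
  haveI := Fact.mk hp
  haveI := Fact.mk hq
  haveI := hV.1
  have h := abelian_commutator_inf_fixed Q V hQV
    (IsPGroup.coprime_card_of_ne q p hpq.symm _ _ hQ (elemAb_isPGroup hV))
  have hm : v ∈ (V ⊓ centralizer (Q : Set G)) ⊓ ⁅V, Q⁆ :=
    ⟨⟨commutator_le_left_of_le_normalizer hQV hv, mem_centralizer_iff.mpr hc⟩, hv⟩
  rwa [h, mem_bot] at hm

/-- An element centralizing a fixed-point-free abelian group and the operator, trivial on the fixed
points of the commutator part, is trivial on the commutator part. -/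
theorem centralize_commutator_part [Finite G] {p q s r : ℕ} (hp : p.Prime) (hq : q.Prime) (hs : s.Prime)
    (hr : r.Prime) (hpq : p ≠ q) (hps : p ≠ s) (hpr : p ≠ r) (hqr : q ≠ r) {a : G} (har : a ^ r = 1)
    {Y V : Subgroup G} (hY : IsPGroup q Y) [IsMulCommutative Y] (haY : a ∈ normalizer (Y : Set G))
    (hYfix : ∀ y ∈ Y, a * y = y * a → y = 1) (hV : Cfsg.IsElementaryAbelian p V)
    (haV : a ∈ normalizer (V : Set G)) (hYV : Y ≤ normalizer (V : Set G))
    {z : G} (hzs : IsPGroup s (zpowers z)) (hzV : z ∈ normalizer (V : Set G))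
    (hza : a * z = z * a) (hzY : ∀ y ∈ Y, z * y = y * z)
    (hz : ∀ v ∈ ⁅V, Y⁆, a * v = v * a → z * v = v * z) : ∀ v ∈ ⁅V, Y⁆, z * v = v * z := by
  haveI := Fact.mk hp
  set V' := ⁅V, Y⁆ with hV'
  have hV'le : V' ≤ V := commutator_le_left_of_le_normalizer hYV
  have hV'el := elemAb_mono hV hV'le
  have hzY' : zpowers z ≤ normalizer (Y : Set G) :=
    le_normalizer_of_commute fun g hg k hk => by
      obtain ⟨i, rfl⟩ := mem_zpowers_iff.mp hg
      exact ((show Commute z k from hzY k hk).zpow_left i).eq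
  have hzV' : zpowers z ≤ normalizer (V' : Set G) :=
    normalizer_commutator (zpowers_le_normalizer hzV) hzY'
  have haV' : a ∈ normalizer (V' : Set G) :=
    normalizer_commutator (zpowers_le_normalizer haV) (zpowers_le_normalizer haY) (mem_zpowers a)
  have hYV' : Y ≤ normalizer (V' : Set G) := normalizer_commutator hYV le_normalizer
  set W := ⁅V', zpowers z⁆ with hW
  have hWle : W ≤ V' := commutator_le_left_of_le_normalizer hzV'
  have haz : a ∈ normalizer ((zpowers z : Subgroup G) : Set G) :=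
    le_normalizer_of_commute (H := zpowers a) (fun g hg k hk => by
      obtain ⟨i, rfl⟩ := mem_zpowers_iff.mp hg
      obtain ⟨j, rfl⟩ := mem_zpowers_iff.mp hk
      exact ((show Commute a z from hza).zpow_zpow i j).eq) (mem_zpowers a)
  have haW : a ∈ normalizer (W : Set G) :=
    normalizer_commutator (zpowers_le_normalizer haV') (zpowers_le_normalizer haz) (mem_zpowers a)
  have hYW : Y ≤ normalizer (W : Set G) :=
    normalizer_commutator hYV' (le_normalizer_of_commute fun g hg k hk => by
      obtain ⟨i, rfl⟩ := mem_zpowers_iff.mp hk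
      exact ((show Commute z g from hzY g hg).zpow_left i).symm.eq)
  have hWfix : ∀ w ∈ W, a * w = w * a → w = 1 := fun w hw haw =>
    eq_one_of_mem_commutator hp hs hps hzs hV'el hzV' hw fun y hy => by
      obtain ⟨i, rfl⟩ := mem_zpowers_iff.mp hy
      exact ((show Commute z w from hz w (hWle hw) haw).zpow_left i).eq
  have hYc := fpf_abelian_le hp hq hr hpq hpr hqr har hY haY hYfix (elemAb_mono hV'el hWle) haW hYW hWfix
  have hW1 : W = ⊥ := (Subgroup.eq_bot_iff_forall _).mpr fun w hw =>
    eq_one_of_mem_commutator hp hq hpq hY hV hYV (hWle hw) fun y hy =>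
      (mem_centralizer_iff.mp (hYc hy) w hw).symm
  intro v hv
  have h1 : ⁅v, z⁆ ∈ W := commutator_mem_commutator hv (mem_zpowers z)
  rw [hW1, mem_bot, commutatorElement_eq_one_iff_mul_comm] at h1
  exact h1.symm

/-- The Frattini subgroup of a subgroup, as a subgroup of the ambient group. -/
def phi (H : Subgroup G) : Subgroup G := (frattini ↥H).map H.subtype

theorem phi_le (H : Subgroup G) : phi H ≤ H := map_subtype_le _

theorem normalizer_le_phi (H : Subgroup G) : normalizer (H : Set G) ≤ normalizer (phi H : Set G) :=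
  FlavellPair.normalizer_le_map_char H _

theorem commutator_le_phi [Finite G] {p : ℕ} (hp : p.Prime) {H : Subgroup G} (hH : IsPGroup p H) :
    ⁅H, H⁆ ≤ phi H := by
  haveI := Fact.mk hp
  have h := Subgroup.map_mono (f := H.subtype) (pGroup_commutator_le_frattini hH)
  rwa [commutator_def, Subgroup.map_commutator, ← MonoidHom.range_eq_map, range_subtype] at h

theorem pow_mem_phi [Finite G] {p : ℕ} (hp : p.Prime) {H : Subgroup G} (hH : IsPGroup p H) {x : G}
    (hx : x ∈ H) : x ^ p ∈ phi H := by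
  haveI := Fact.mk hp
  exact ⟨(⟨x, hx⟩ : ↥H) ^ p, pGroup_pow_mem_frattini hH _, rfl⟩

theorem phi_map_le {G' : Type*} [Group G'] (f : G →* G') (H : Subgroup G) :
    (phi H).map f ≤ phi (H.map f) := by
  rintro _ ⟨_, ⟨x, hx, rfl⟩, rfl⟩
  exact ⟨f.subgroupMap H x, frattini_le_comap_frattini_of_surjective (f.subgroupMap_surjective H) hx, rfl⟩

theorem phi_le_of [Finite G] {p : ℕ} (hp : p.Prime) {H N : Subgroup G} (hNH : N ≤ H)
    (hn : H ≤ normalizer (N : Set G)) (hcomm : ⁅H, H⁆ ≤ N) (hpow : ∀ x ∈ H, x ^ p ∈ N) :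
    phi H ≤ N := by
  rintro _ ⟨x, hx, rfl⟩
  haveI := (Subgroup.normal_subgroupOf_iff_le_normalizer hNH).mpr hn
  refine frattini_le_of_elementary (N := N.subgroupOf H) hp ?_ (fun y => hpow y y.2) hx
  rw [_root_.commutator_def, Subgroup.commutator_le]
  exact fun g _ h _ => hcomm (commutator_mem_commutator g.2 h.2)

theorem eq_of_sup_phi [Finite G] {T H : Subgroup G} (hT : T ≤ H) (h : H ≤ T ⊔ phi H) : T = H := by
  refine le_antisymm hT ?_
  have e : T.subgroupOf H ⊔ frattini ↥H = ⊤ := by
    refine Subgroup.map_injective H.subtype_injective ?_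
    rw [Subgroup.map_sup, map_subgroupOf_eq_of_le hT, ← MonoidHom.range_eq_map, range_subtype]
    exact le_antisymm (sup_le hT (phi_le H)) h
  exact subgroupOf_eq_top.mp (frattini_nongenerating e)

end Cfsg.Agent.Grp.Turull
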