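import Mathlib
import Cfsg.Agent.Lib.Grp.TurullHeight.Basic
import Cfsg.Agent.Lib.Transfer.SFT.FittingLength

/-!
Iterated commutators of coprime subgroups and the length of a series.
-/

set_option autoImplicit false
set_option linter.unusedSectionVars false
set_option linter.style.haveILetI false

namespace Cfsg.Agent.Grp.Turull

open Subgroup
open Cfsg.Agent.Transfer.SFT.Height (Series)
open scoped commutatorElement

variable {G : Type*} [Group G]

/-- `R` is reached by `k` alternating coprime steps inside `C`. -/
inductive Reach (C : Subgroup G) : ℕ → Subgroup G → ℕ → Prop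
  | base {S : Subgroup G} {q : ℕ} (hq : q.Prime) (hS : IsPGroup q S) (hSC : S ≤ C) : Reach C 1 S q
  | step {k : ℕ} {R : Subgroup G} {q : ℕ} {S : Subgroup G} {p : ℕ} (h : Reach C k R q) (hp : p.Prime)
      (hpq : p ≠ q) (hS : IsPGroup p S) (hSC : S ≤ C) (hRS : R ≤ normalizer (S : Set G)) :
      Reach C (k + 1) ⁅S, R⁆ p

namespace Reach

variable {C R : Subgroup G} {k q : ℕ}

theorem prime (h : Reach C k R q) : q.Prime := by cases h <;> assumption

theorem pgroup (h : Reach C k R q) : IsPGroup q R := by
  cases h with
  | base hq hS hSC => exact hS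
  | step h hp hpq hS hSC hRS => exact hS.to_le (commutator_le_left_of_le_normalizer hRS)

theorem le (h : Reach C k R q) : R ≤ C := by
  cases h with
  | base hq hS hSC => exact hSC
  | step h hp hpq hS hSC hRS => exact (commutator_le_left_of_le_normalizer hRS).trans hSC

theorem pos (h : Reach C k R q) : 1 ≤ k := by cases h <;> omega

/-- A group reached in `k` steps lies below the top `k - 1` terms of a series. -/
theorem le_series [Finite G] {n : ℕ} {F : Fin (n + 1) → Subgroup G} (h0 : F 0 = ⊥) (hl : F (Fin.last n) = C)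
    (hn : ∀ i, C ≤ normalizer (F i : Set G))
    (hk : ∀ i : Fin n, ∃ k : ℕ, (F i.succ).lowerCentralSeries k ≤ F i.castSucc) (h : Reach C k R q) :
    ∀ i : Fin (n + 1), n + 1 - k ≤ i → (k ≤ n + 1 → (i : ℕ) = n + 1 - k) → R ≤ F i := by
  induction h with
  | base hq hS hSC =>
    intro i h1 h2
    rw [show i = Fin.last n from Fin.ext (by have := h2 (by omega); simpa using this), hl]
    exact hSC
  | @step k R q S p h hp hpq hS hSC hRS ih =>
    intro i h1 h2
    haveI := Fact.mk hp
    haveI := Fact.mk h.prime
    have hle := commutator_le_left_of_le_normalizer hRS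
    by_cases hk1 : k ≤ n
    · have hi := h2 (by omega)
      have hlt : (i : ℕ) < n := by have := h.pos; omega
      have hR : R ≤ F (Fin.succ ⟨i, hlt⟩) := ih _ (by simp; omega) (fun _ => by simp; omega)
      have hSF : ⁅S, R⁆ ≤ F (Fin.succ ⟨i, hlt⟩) :=
        (commutator_mono le_rfl hR).trans (by
          rw [commutator_comm]
          exact commutator_le_left_of_le_normalizer (hSC.trans (hn _)))
      have hRR : ⁅⁅S, R⁆, R⁆ = ⁅S, R⁆ :=
        commutator_commutator_eq R S hRS (IsPGroup.coprime_card_of_ne q p hpq.symm _ _ h.pgroup hS)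
          (Or.inl (Grp.isSolvable_of_le le_rfl (haveI := h.pgroup.isNilpotent; inferInstance)))
      have hall : ∀ j, ⁅S, R⁆ ≤ (F (Fin.succ ⟨i, hlt⟩)).lowerCentralSeries j := by
        intro j
        induction j with
        | zero => exact hSF
        | succ j ihj => exact hRR.ge.trans (commutator_mono ihj hR)
      obtain ⟨c, hc⟩ := hk ⟨i, hlt⟩
      have e : (Fin.castSucc ⟨(i : ℕ), hlt⟩ : Fin (n + 1)) = i := Fin.ext rfl
      rw [e] at hc
      exact (hall c).trans hc
    · have hR : R ≤ F 0 := ih 0 (by simp; omega) (fun _ => by simp; omega)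
      rw [h0, le_bot_iff] at hR
      rw [hR, commutator_bot_right]
      exact bot_le

/-- The steps exceed the length of a series only trivially. -/
theorem eq_bot [Finite G] {n : ℕ} (hs : Series n C) (h : Reach C k R q) (hk : n + 1 ≤ k) : R = ⊥ := by
  obtain ⟨F, h0, hl, -, hn, hk'⟩ := hs
  exact le_bot_iff.mp (h0 ▸ h.le_series h0 hl hn hk' 0 (by simp; omega) fun _ => by simp; omega)

end Reach

end Cfsg.Agent.Grp.Turull
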