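import Mathlib
import Cfsg.Agent.Lib.Grp.TurullHeight.Basic

/-!
Coprime operators of prime order: fixed elements in commutator parts and groups with abelian images.
-/

set_option autoImplicit false
set_option linter.unusedSectionVars false
set_option linter.style.haveILetI false

namespace Cfsg.Agent.Grp.Turull

open Subgroup
open scoped commutatorElement

variable {G : Type*} [Group G]

/-- A fixed element of `[K, a]` lies in every invariant subgroup with abelian quotient. -/
theorem mem_of_commutator_fixed [Finite G] {a : G} {r : ℕ} (hr : r.Prime) (har : a ^ r = 1)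
    {K N : Subgroup G} (haK : a ∈ normalizer (K : Set G)) (hKN : K ≤ normalizer (N : Set G))
    (hNK : N ≤ K) (hcomm : ⁅K, K⁆ ≤ N) (hcard : ¬ r ∣ Nat.card K)
    {x : G} (hx : x ∈ ⁅K, zpowers a⁆) (hax : a * x = x * a) : x ∈ N := by
  classical
  haveI : (N.subgroupOf K).Normal := (Subgroup.normal_subgroupOf_iff_le_normalizer hNK).mpr hKN
  set Q := ↥K ⧸ N.subgroupOf K with hQ
  letI : CommGroup Q :=
    { (inferInstance : Group Q) with
      mul_comm := by
        intro u v
        obtain ⟨u, rfl⟩ := QuotientGroup.mk_surjective u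
        obtain ⟨v, rfl⟩ := QuotientGroup.mk_surjective v
        rw [← QuotientGroup.mk_mul, ← QuotientGroup.mk_mul, QuotientGroup.eq]
        have h1 := hcomm (commutator_mem_commutator (K.inv_mem v.2) (K.inv_mem u.2))
        show ((((u * v)⁻¹ * (v * u) : ↥K)) : G) ∈ N
        convert h1 using 1
        simp [commutatorElement_def, mul_assoc] }
  have hpowK : ∀ (i : ℕ), a ^ i ∈ normalizer (K : Set G) := fun i => Subgroup.pow_mem _ haK i
  let c : ℕ → (↥K →* Q) := fun i =>
    { toFun := fun g => ((⟨a ^ i * (g : G) * (a ^ i)⁻¹, mem_conj_normalizer (hpowK i) g.2⟩ : ↥K) : Q)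
      map_one' := by
        refine (QuotientGroup.eq_one_iff _).mpr ?_
        show a ^ i * ((1 : ↥K) : G) * (a ^ i)⁻¹ ∈ N
        simp
      map_mul' := fun g h => by
        rw [← QuotientGroup.mk_mul]
        congr 1
        exact Subtype.ext (by simp [mul_assoc]) }
  let ν : ↥K →* Q := ∏ i ∈ Finset.range r, c i
  have hν : ∀ g, ν g = ∏ i ∈ Finset.range r, c i g := fun g => MonoidHom.finsetProd_apply _ _ g
  have hle : ⁅K, zpowers a⁆ ≤ ν.ker.map K.subtype := by
    rw [Subgroup.commutator_le]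
    intro g hg t ht
    obtain ⟨i, rfl⟩ := mem_powers_iff_mem_zpowers.mpr ht
    have hmem : ⁅g, a ^ i⁆ ∈ K :=
      commutator_le_left_of_le_normalizer (zpowers_le_normalizer haK) (commutator_mem_commutator hg ht)
    refine ⟨⟨_, hmem⟩, ?_, rfl⟩
    have hshift : ∀ (g : ↥K) (i : ℕ), ν ⟨a ^ i * (g : G) * (a ^ i)⁻¹, mem_conj_normalizer (hpowK i) g.2⟩ = ν g := by
      intro g i
      induction i with
      | zero => congr 1; exact Subtype.ext (by simp)
      | succ i ih =>
        rw [← ih, hν, hν]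
        set w : ↥K := ⟨a ^ i * (g : G) * (a ^ i)⁻¹, mem_conj_normalizer (hpowK i) g.2⟩ with hw
        have e : ∀ n, c n ⟨a ^ (i + 1) * (g : G) * (a ^ (i + 1))⁻¹, mem_conj_normalizer (hpowK _) g.2⟩ =
            c (n + 1) w := fun n => by
          show (((⟨_, _⟩ : ↥K)) : Q) = ((⟨_, _⟩ : ↥K) : Q)
          congr 1
          refine Subtype.ext ?_
          show a ^ n * (a ^ (i + 1) * (g : G) * (a ^ (i + 1))⁻¹) * (a ^ n)⁻¹ =
            a ^ (n + 1) * (a ^ i * (g : G) * (a ^ i)⁻¹) * (a ^ (n + 1))⁻¹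
          simp only [pow_succ]
          rw [(Commute.pow_self a i).eq]
          group
        rw [Finset.prod_congr rfl fun n _ => e n]
        have hcr : c r w = c 0 w := by
          show (((⟨_, _⟩ : ↥K)) : Q) = ((⟨_, _⟩ : ↥K) : Q)
          congr 1
          refine Subtype.ext ?_
          show a ^ r * (w : G) * (a ^ r)⁻¹ = a ^ 0 * (w : G) * (a ^ 0)⁻¹
          rw [har, pow_zero]
        have h1 := (Finset.prod_range_succ (fun n => c n w) r).symm.trans (Finset.prod_range_succ' (fun n => c n w) r)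
        rw [hcr] at h1
        exact (mul_right_cancel h1).symm
    show ν _ = 1
    have e : (⟨⁅g, a ^ i⁆, hmem⟩ : ↥K) =
        ⟨g, hg⟩ * ⟨a ^ i * ((⟨g, hg⟩ : ↥K)⁻¹ : ↥K) * (a ^ i)⁻¹, mem_conj_normalizer (hpowK i) ((⟨g, hg⟩ : ↥K)⁻¹).2⟩ :=
      Subtype.ext (by simp [commutatorElement_def, mul_assoc])
    rw [e, map_mul, hshift, map_inv, mul_inv_cancel]
  obtain ⟨xk, hxk, hxe⟩ := hle hx
  have hfix : ∀ i, c i xk = (xk : Q) := fun i => by
    show (((⟨_, _⟩ : ↥K)) : Q) = (xk : Q)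
    congr 1
    refine Subtype.ext ?_
    show a ^ i * (xk : G) * (a ^ i)⁻¹ = (xk : G)
    rw [show (xk : G) = x from hxe, ((show Commute a x from hax).pow_left i).eq, mul_inv_cancel_right]
  have hpow : (xk : Q) ^ r = 1 := by
    have h2 := hν xk
    rw [Finset.prod_congr rfl fun i _ => hfix i, Finset.prod_const, Finset.card_range] at h2
    rw [← h2]
    exact hxk
  have hord : orderOf (xk : Q) ∣ 1 := by
    have hco : r.Coprime (Nat.card Q) := hr.coprime_iff_not_dvd.mpr fun h =>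
      hcard (h.trans (Subgroup.card_quotient_dvd_card _))
    rw [← hco.gcd_eq_one]
    exact Nat.dvd_gcd (orderOf_dvd_of_pow_eq_one hpow) (orderOf_dvd_natCard _)
  rw [Nat.dvd_one, orderOf_eq_one_iff, QuotientGroup.eq_one_iff] at hord
  rw [← hxe]
  exact hord

/-- An operator of prime order without fixed points on a module centralizes the image of a coprime
group with abelian image. -/
theorem fpf_image_abelian_le [Finite G] {p q r : ℕ} (hp : p.Prime) (hq : q.Prime) (hr : r.Prime)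
    (hpq : p ≠ q) (hpr : p ≠ r) (hqr : q ≠ r) {a : G} (har : a ^ r = 1) {Q W : Subgroup G}
    (hQ : IsPGroup q Q) (haQ : a ∈ normalizer (Q : Set G)) (hW : Cfsg.IsElementaryAbelian p W)
    (haW : a ∈ normalizer (W : Set G)) (hQW : Q ≤ normalizer (W : Set G))
    (hab : ⁅Q, Q⁆ ≤ centralizer (W : Set G))
    (hfix : ∀ w ∈ W, a * w = w * a → w = 1) : ⁅Q, zpowers a⁆ ≤ centralizer (W : Set G) := by
  classical
  haveI := Fact.mk hp
  haveI := Fact.mk hq
  set K₀ := Q ⊓ centralizer (W : Set G) with hK₀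
  set H := normalizer (K₀ : Set G) ⊓ normalizer (W : Set G) with hH
  have hcW : normalizer (W : Set G) ≤ normalizer ((centralizer (W : Set G) : Subgroup G) : Set G) := by
    refine invariant_iff.mp fun g hg x hx => mem_centralizer_iff.mpr fun w hw => ?_
    have h1 := mem_centralizer_iff.mp hx _ (mem_conj_normalizer' hg hw)
    calc w * (g * x * g⁻¹) = g * ((g⁻¹ * w * g) * x) * g⁻¹ := by group
      _ = g * (x * (g⁻¹ * w * g)) * g⁻¹ := by rw [h1]
      _ = g * x * g⁻¹ * w := by group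
  have hQH : Q ≤ H := le_inf (le_normalizer_inf' le_normalizer (hQW.trans hcW)) hQW
  have haH : a ∈ H := Subgroup.mem_inf.mpr ⟨le_normalizer_inf' (zpowers_le_normalizer haQ)
    ((zpowers_le_normalizer haW).trans hcW) (mem_zpowers a), haW⟩
  have hWH : W ≤ H := le_inf (le_normalizer_of_commute fun w hw k hk => mem_centralizer_iff.mp hk.2 w hw)
    le_normalizer
  have hK₀H : K₀ ≤ H := inf_le_left.trans hQH
  haveI : (K₀.subgroupOf H).Normal := (Subgroup.normal_subgroupOf_iff_le_normalizer hK₀H).mpr inf_le_left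
  set f := QuotientGroup.mk' (K₀.subgroupOf H) with hf
  have hker : ∀ x : ↥H, f x = 1 ↔ (x : G) ∈ K₀ := fun x => (QuotientGroup.eq_one_iff x).trans Iff.rfl
  have hinf : ∀ x, x ∈ W → x ∈ K₀ → x = 1 := fun x hxW hxK => by
    have h := inf_eq_bot_of_coprime (IsPGroup.coprime_card_of_ne q p hpq.symm _ _ hQ (elemAb_isPGroup hW))
    have hm : x ∈ Q ⊓ W := ⟨hxK.1, hxW⟩
    rwa [h, mem_bot] at hm
  set Qi := (Q.subgroupOf H).map f with hQi
  set Wi := (W.subgroupOf H).map f with hWi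
  haveI : IsMulCommutative Qi := ⟨⟨by
    rintro ⟨_, u, hu, rfl⟩ ⟨_, v, hv, rfl⟩
    refine Subtype.ext ?_
    show f u * f v = f v * f u
    rw [← map_mul, ← map_mul, ← inv_mul_eq_one, ← map_inv, ← map_mul, hker]
    have hu' : (u : G) ∈ Q := mem_subgroupOf.mp hu
    have hv' : (v : G) ∈ Q := mem_subgroupOf.mp hv
    refine ⟨?_, ?_⟩
    · simpa using Q.mul_mem (Q.mul_mem (Q.inv_mem hv') (Q.inv_mem hu')) (Q.mul_mem hv' hu')
    · have h1 := hab (commutator_mem_commutator (Q.inv_mem hv') (Q.inv_mem hu'))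
      convert h1 using 1
      simp [commutatorElement_def, mul_assoc]⟩⟩
  haveI := hW.1
  have hWel : Cfsg.IsElementaryAbelian p Wi := by
    refine ⟨⟨⟨?_⟩⟩, ?_⟩
    · rintro ⟨_, u, hu, rfl⟩ ⟨_, v, hv, rfl⟩
      refine Subtype.ext ?_
      show f u * f v = f v * f u
      rw [← map_mul, ← map_mul]
      congr 1
      exact Subtype.ext (elemAb_comm hW _ (mem_subgroupOf.mp hu) _ (mem_subgroupOf.mp hv))
    · rintro _ ⟨u, hu, rfl⟩
      rw [← map_pow, show u ^ p = 1 from Subtype.ext (by simpa using hW.2 _ (mem_subgroupOf.mp hu)), map_one]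
  set ai := f ⟨a, haH⟩
  have har' : ai ^ r = 1 := by
    rw [← map_pow, show (⟨a, haH⟩ : ↥H) ^ r = 1 from Subtype.ext (by simpa using har), map_one]
  have hnorm : ∀ (X : Subgroup G) (g : ↥H), (g : G) ∈ normalizer (X : Set G) →
      f g ∈ normalizer (((X.subgroupOf H).map f : Subgroup _) : Set _) := fun X g hg =>
    Subgroup.le_normalizer_map f ⟨g, Subgroup.mem_normalizer_iff.mpr fun h =>
      Subgroup.mem_normalizer_iff.mp hg (h : G), rfl⟩
  have h := fpf_commutator_le hp hq hr hpq hpr hqr har' (Q := Qi) (W := Wi)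
    ((hQ.comap_subtype (K := H)).map f) (hnorm Q _ haQ) hWel (hnorm W _ haW)
    (by rintro _ ⟨u, hu, rfl⟩; exact hnorm W u (hQW (mem_subgroupOf.mp hu)))
    (Or.inr inferInstance) (by
      rintro _ ⟨w, hw, rfl⟩ hc
      have hw' : (w : G) ∈ W := mem_subgroupOf.mp hw
      have h1 : f (⟨a, haH⟩ * w * (⟨a, haH⟩ : ↥H)⁻¹ * w⁻¹) = 1 := by
        rw [map_mul, map_mul, map_mul, map_inv, map_inv, hc, mul_inv_cancel_right, mul_inv_cancel]
      have h2 : a * (w : G) * a⁻¹ * (w : G)⁻¹ = 1 :=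
        hinf _ (W.mul_mem (mem_conj_normalizer haW hw') (W.inv_mem hw')) ((hker _).mp h1)
      have h3 : (w : G) = 1 := hfix _ hw' (mul_inv_eq_iff_eq_mul.mp (mul_inv_eq_one.mp h2))
      rw [show w = 1 from Subtype.ext h3, map_one])
  refine Subgroup.commutator_le.mpr fun g hg t ht => ?_
  obtain ⟨i, rfl⟩ := mem_powers_iff_mem_zpowers.mpr ht
  have hti : a ^ i ∈ H := pow_mem haH i
  have h4 : f ⁅(⟨g, hQH hg⟩ : ↥H), ⟨a ^ i, hti⟩⁆ ∈ centralizer (Wi : Set _) := by
    rw [map_commutatorElement]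
    refine h (commutator_mem_commutator (mem_map_of_mem f (mem_subgroupOf.mpr hg)) ?_)
    rw [show (⟨a ^ i, hti⟩ : ↥H) = ⟨a, haH⟩ ^ i from Subtype.ext (by simp), map_pow]
    exact Subgroup.pow_mem _ (mem_zpowers _) i
  rw [mem_centralizer_iff]
  intro w hw
  set e : ↥H := ⁅(⟨g, hQH hg⟩ : ↥H), ⟨a ^ i, hti⟩⁆ with he
  have h5 := mem_centralizer_iff.mp h4 _ (mem_map_of_mem f (mem_subgroupOf.mpr hw : (⟨w, hWH hw⟩ : ↥H) ∈ W.subgroupOf H))
  have h6 : f (⟨w, hWH hw⟩ * e * (⟨w, hWH hw⟩ : ↥H)⁻¹ * e⁻¹) = 1 := by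
    rw [map_mul, map_mul, map_mul, map_inv, map_inv, h5, mul_inv_cancel_right, mul_inv_cancel]
  have heW : (e : G) ∈ normalizer (W : Set G) := e.2.2
  have h7 : w * (e : G) * w⁻¹ * (e : G)⁻¹ = 1 := by
    refine hinf _ ?_ ((hker _).mp h6)
    have h8 := W.mul_mem hw (mem_conj_normalizer heW (W.inv_mem hw))
    convert h8 using 1; group
  exact mul_inv_eq_iff_eq_mul.mp (mul_inv_eq_one.mp h7)

end Cfsg.Agent.Grp.Turull
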