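import Mathlib
import Cfsg.Agent.Lib.Grp.TurullHeight.Coprime

/-!
Images of subgroups in a section `H / K`.
-/

set_option autoImplicit false
set_option linter.unusedSectionVars false
set_option linter.style.haveILetI false

namespace Cfsg.Agent.Grp.Turull

open Subgroup
open scoped commutatorElement

variable {G : Type*} [Group G] (H K : Subgroup G) [(K.subgroupOf H).Normal]

/-- The image of a subgroup in the section `H / K`. -/
def img (X : Subgroup G) : Subgroup (↥H ⧸ K.subgroupOf H) :=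
  (X.subgroupOf H).map (QuotientGroup.mk' (K.subgroupOf H))

/-- The image of an element. -/
def el (x : G) (hx : x ∈ H) : ↥H ⧸ K.subgroupOf H := ((⟨x, hx⟩ : ↥H) : ↥H ⧸ K.subgroupOf H)

variable {H K}

theorem el_congr {x y : G} (h : x = y) (hx : x ∈ H) : el H K x hx = el H K y (h ▸ hx) := by subst h; rfl

theorem el_mul {x y : G} (hx : x ∈ H) (hy : y ∈ H) : el H K (x * y) (mul_mem hx hy) = el H K x hx * el H K y hy :=
  rfl

theorem el_inv {x : G} (hx : x ∈ H) : el H K x⁻¹ (inv_mem hx) = (el H K x hx)⁻¹ := rfl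

theorem el_pow {x : G} (hx : x ∈ H) (n : ℕ) : el H K (x ^ n) (pow_mem hx n) = el H K x hx ^ n := rfl

theorem el_eq_one {x : G} (hx : x ∈ H) : el H K x hx = 1 ↔ x ∈ K :=
  (QuotientGroup.eq_one_iff _).trans Iff.rfl

theorem el_eq_el {x y : G} (hx : x ∈ H) (hy : y ∈ H) : el H K x hx = el H K y hy ↔ x⁻¹ * y ∈ K :=
  QuotientGroup.eq.trans Iff.rfl

theorem el_commutator {x y : G} (hx : x ∈ H) (hy : y ∈ H) :
    ⁅el H K x hx, el H K y hy⁆ =
      el H K ⁅x, y⁆ (mul_mem (mul_mem (mul_mem hx hy) (inv_mem hx)) (inv_mem hy)) := rfl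

theorem el_commute_iff {x y : G} (hx : x ∈ H) (hy : y ∈ H) :
    el H K x hx * el H K y hy = el H K y hy * el H K x hx ↔ ⁅x, y⁆ ∈ K := by
  rw [← commutatorElement_eq_one_iff_mul_comm, el_commutator, el_eq_one]

theorem el_commute {x y : G} (hx : x ∈ H) (hy : y ∈ H) (h : x * y = y * x) :
    el H K x hx * el H K y hy = el H K y hy * el H K x hx := by
  rw [el_commute_iff, commutatorElement_eq_one_iff_mul_comm.mpr h]
  exact one_mem K

theorem el_surjective (g : ↥H ⧸ K.subgroupOf H) : ∃ x, ∃ hx : x ∈ H, el H K x hx = g := by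
  obtain ⟨⟨x, hx⟩, rfl⟩ := QuotientGroup.mk_surjective g
  exact ⟨x, hx, rfl⟩

theorem el_mem_img {X : Subgroup G} {x : G} (hx : x ∈ H) (h : x ∈ X) : el H K x hx ∈ img H K X :=
  mem_map_of_mem _ (mem_subgroupOf.mpr h)

theorem exists_of_mem_img {X : Subgroup G} {g : ↥H ⧸ K.subgroupOf H} (h : g ∈ img H K X) :
    ∃ x, ∃ hx : x ∈ H, x ∈ X ∧ el H K x hx = g := by
  obtain ⟨⟨x, hx⟩, hxX, rfl⟩ := h
  exact ⟨x, hx, mem_subgroupOf.mp hxX, rfl⟩

theorem el_mem_img_iff {X : Subgroup G} {x : G} (hx : x ∈ H) :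
    el H K x hx ∈ img H K X ↔ ∃ y ∈ X, y ∈ H ∧ y⁻¹ * x ∈ K := by
  constructor
  · intro h
    obtain ⟨y, hy, hyX, e⟩ := exists_of_mem_img h
    exact ⟨y, hyX, hy, (el_eq_el hy hx).mp e⟩
  · rintro ⟨y, hyX, hy, hyx⟩
    rw [← (el_eq_el hy hx).mpr hyx]
    exact el_mem_img hy hyX

theorem img_mono {X Y : Subgroup G} (h : X ≤ Y) : img H K X ≤ img H K Y :=
  map_mono fun _ hx => h hx

theorem el_mem_normalizer {X : Subgroup G} {x : G} (hx : x ∈ H) (h : x ∈ normalizer (X : Set G)) :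
    el H K x hx ∈ normalizer (img H K X : Set _) :=
  Subgroup.le_normalizer_map _ ⟨⟨x, hx⟩, Subgroup.mem_normalizer_iff.mpr fun g =>
    Subgroup.mem_normalizer_iff.mp h (g : G), rfl⟩

theorem img_le_normalizer {X Y : Subgroup G} (h : X ≤ normalizer (Y : Set G)) :
    img H K X ≤ normalizer (img H K Y : Set _) := by
  intro g hg
  obtain ⟨x, hx, hxX, rfl⟩ := exists_of_mem_img hg
  exact el_mem_normalizer hx (h hxX)

theorem img_zpowers {x : G} (hx : x ∈ H) : img H K (zpowers x) = zpowers (el H K x hx) := by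
  refine le_antisymm (fun g hg => ?_) (zpowers_le.mpr (el_mem_img hx (mem_zpowers x)))
  obtain ⟨y, hy, hyx, rfl⟩ := exists_of_mem_img hg
  obtain ⟨i, rfl⟩ := mem_zpowers_iff.mp hyx
  exact ⟨i, rfl⟩

theorem img_commutator {X Y : Subgroup G} (hX : X ≤ H) (hY : Y ≤ H) :
    img H K ⁅X, Y⁆ = ⁅img H K X, img H K Y⁆ := by
  unfold img
  rw [← Subgroup.map_commutator]
  congr 1
  refine Subgroup.map_injective H.subtype_injective ?_
  rw [Subgroup.map_commutator, map_subgroupOf_eq_of_le hX, map_subgroupOf_eq_of_le hY,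
    map_subgroupOf_eq_of_le]
  rw [Subgroup.commutator_le]
  exact fun x hx y hy => mul_mem (mul_mem (mul_mem (hX hx) (hY hy)) (inv_mem (hX hx))) (inv_mem (hY hy))

theorem img_isPGroup {p : ℕ} {X : Subgroup G} (h : IsPGroup p X) : IsPGroup p (img H K X) :=
  (h.comap_subtype (K := H)).map _

theorem img_elemAb {p : ℕ} {X : Subgroup G} (hpow : ∀ x ∈ X, x ∈ H → x ^ p ∈ K)
    (hcomm : ∀ x ∈ X, ∀ y ∈ X, ⁅x, y⁆ ∈ K) : Cfsg.IsElementaryAbelian p (img H K X) := by
  refine ⟨⟨⟨fun u v => Subtype.ext ?_⟩⟩, fun u hu => ?_⟩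
  · obtain ⟨x, hx, hxX, e⟩ := exists_of_mem_img u.2
    obtain ⟨y, hy, hyY, e'⟩ := exists_of_mem_img v.2
    show (u : ↥H ⧸ K.subgroupOf H) * v = v * u
    rw [← e, ← e', el_commute_iff]
    exact hcomm x hxX y hyY
  · obtain ⟨x, hx, hxX, rfl⟩ := exists_of_mem_img hu
    rw [← el_pow, el_eq_one]
    exact hpow x hxX hx

theorem card_img {X : Subgroup G} (hX : X ≤ H) : Nat.card (img H K X) = K.relIndex X := by
  have h := Subgroup.relIndex_comap (⊥ : Subgroup (↥H ⧸ K.subgroupOf H)) (QuotientGroup.mk' (K.subgroupOf H))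
    (X.subgroupOf H)
  rw [MonoidHom.comap_bot, QuotientGroup.ker_mk', Subgroup.relIndex_bot_left] at h
  rw [img, ← h, Subgroup.relIndex_subgroupOf hX]

theorem el_fixed_img {X : Subgroup G} {a : G} {r : ℕ} [Finite G] (hr : r.Prime) (har : a ^ r = 1) (ha : a ∈ H)
    (haX : a ∈ normalizer (X : Set G)) (haK : a ∈ normalizer (K : Set G))
    (hcard : ¬ r ∣ Nat.card ↥(X ⊓ K)) {x : G} (hxX : x ∈ X) (hx : x ∈ H)
    (h : el H K a ha * el H K x hx = el H K x hx * el H K a ha) :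
    ∃ c ∈ X, x⁻¹ * c ∈ K ∧ a * c = c * a := by
  have h1 : x⁻¹ * (a * x * a⁻¹) ∈ X ⊓ K := by
    refine ⟨X.mul_mem (X.inv_mem hxX) (mem_conj_normalizer haX hxX), ?_⟩
    have h2 : el H K x hx = el H K (a * x * a⁻¹) (mul_mem (mul_mem ha hx) (inv_mem ha)) := by
      rw [el_mul (mul_mem ha hx) (inv_mem ha), el_mul ha hx, el_inv ha, h, mul_inv_cancel_right]
    exact (el_eq_el hx _).mp h2
  obtain ⟨c, hc, hac⟩ := exists_fixed_in_coset hr har (X ⊓ K)
    (le_normalizer_inf' (zpowers_le_normalizer haX) (zpowers_le_normalizer haK) (mem_zpowers a)) hcard h1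
  refine ⟨c, ?_, hc.2, hac⟩
  have := X.mul_mem hxX hc.1
  rwa [mul_inv_cancel_left] at this

end Cfsg.Agent.Grp.Turull
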