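import Mathlib
import Cfsg.Agent.Lib.Grp.TurullHeight.Section
import Cfsg.Agent.Lib.Transfer.FrobeniusFormula

/-!
An operator of order `r = 2 ^ n + 1` moving only an irreducible part of dimension `2 n` of a symplectic
space centralizes every invariant odd group of isometries of order prime to it.
-/

set_option autoImplicit false
set_option linter.unusedSectionVars false
set_option linter.style.haveILetI false

namespace Cfsg.Agent.Grp.Turull

open Subgroup
open scoped commutatorElement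

universe u

variable {G : Type u} [Group G]

theorem zmod_two_cases : ∀ c : ZMod 2, c = 0 ∨ c = 1 := by decide

theorem eq_zero_or_of_dvd {n d : ℕ} (hd : d ≤ 2 * n) (h : 2 ^ n + 1 ∣ 2 ^ d - 1) : d = 0 ∨ d = 2 * n := by
  by_contra hne
  push Not at hne
  obtain ⟨h0, h2⟩ := hne
  rcases le_or_gt d n with hle | hgt
  · have h1 : 2 ^ d ≤ 2 ^ n := Nat.pow_le_pow_right (by norm_num) hle
    have h3 : 2 ≤ 2 ^ d := by
      calc 2 = 2 ^ 1 := by norm_num
        _ ≤ 2 ^ d := Nat.pow_le_pow_right (by norm_num) (Nat.pos_of_ne_zero h0)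
    have h4 := Nat.le_of_dvd (by omega) h
    omega
  · obtain ⟨e, rfl⟩ : ∃ e, d = n + e := ⟨d - n, by omega⟩
    have he : e < n := by omega
    have h1 : 2 ^ e < 2 ^ n := Nat.pow_lt_pow_right (by norm_num) he
    have h3 : 2 ^ n + 1 ∣ 2 ^ e + 1 := by
      have e1 : (2 ^ n + 1) * 2 ^ e = (2 ^ (n + e) - 1) + (2 ^ e + 1) := by
        have : 1 ≤ 2 ^ (n + e) := Nat.one_le_two_pow
        rw [add_mul, one_mul, ← pow_add]; omega
      exact (Nat.dvd_add_right h).mp (e1 ▸ dvd_mul_right _ _)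
    have h4 := Nat.le_of_dvd (Nat.succ_pos _) h3
    omega

/-- An invariant subgroup of a fixed-point-free part of order `2 ^ (2 n)` is trivial or everything. -/
theorem eq_bot_or_eq [Finite G] {a : G} {r n : ℕ} (hr : r.Prime) (har : a ^ r = 1) (hrn : r = 2 ^ n + 1)
    {X U : Subgroup G} (hX : Nat.card X = 2 ^ n * 2 ^ n) (hUX : U ≤ X) (haU : a ∈ normalizer (U : Set G))
    (hfix : ∀ x ∈ X, a * x = x * a → x = 1) : U = ⊥ ∨ U = X := by
  classical
  haveI := Fact.mk Nat.prime_two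
  have hXp : IsPGroup 2 X := IsPGroup.of_card (n := n + n) (by rw [hX, pow_add])
  obtain ⟨d, hd⟩ := (hXp.to_le hUX).exists_card_eq
  have hdn : d ≤ 2 * n := by
    refine (Nat.pow_le_pow_iff_right (le_refl 2)).mp ?_
    rw [← hd, show 2 * n = n + n by omega, pow_add, ← hX]
    exact card_le_of_le hUX
  have hdvd : r ∣ 2 ^ d - 1 := by
    by_contra hnd
    obtain ⟨x, hx, hax⟩ := exists_fixed_of_invariant hr har ((U : Set G) \ {1}) (by
      rintro x ⟨hx, hx1⟩
      refine ⟨mem_conj_normalizer haU hx, fun h => hx1 ?_⟩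
      simpa using h) (by
      rw [Nat.card_coe_set_eq, Set.ncard_sdiff (Set.singleton_subset_iff.mpr U.one_mem), Set.ncard_singleton,
        ← Nat.card_coe_set_eq]
      rw [show Nat.card ↥(U : Set G) = 2 ^ d from hd]
      exact hnd)
    exact hx.2 (hfix x (hUX hx.1) hax)
  rcases eq_zero_or_of_dvd hdn (hrn ▸ hdvd) with rfl | rfl
  · exact Or.inl (Subgroup.card_eq_one.mp (by rw [hd, pow_zero]))
  · refine Or.inr (Subgroup.eq_of_le_of_card_ge hUX ?_)
    rw [hX, hd, two_mul, pow_add]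

/-- An isometry of odd prime power order different from `r` commuting with an irreducible fixed-point-free
operator of order `r = 2 ^ n + 1` is trivial. -/
theorem trivial_of_commute [Finite G] {a d : G} {r n q : ℕ} (hr : r.Prime) (hq : q.Prime) (hqr : q ≠ r)
    (har : a ^ r = 1) (hrn : r = 2 ^ n + 1) {X : Subgroup G} (hXel : Cfsg.IsElementaryAbelian 2 X)
    (hXcard : Nat.card X = 2 ^ n * 2 ^ n) (haX : a ∈ normalizer (X : Set G))
    (hdX : d ∈ normalizer (X : Set G)) (hfix : ∀ x ∈ X, a * x = x * a → x = 1)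
    (hcomm : ∀ x ∈ X, d * (a * x * a⁻¹) * d⁻¹ = a * (d * x * d⁻¹) * a⁻¹)
    (hdq : ∃ k, d ^ q ^ k = 1) (b : G → G → ZMod 2)
    (hadd : ∀ x ∈ X, ∀ y ∈ X, ∀ w ∈ X, b (x * y) w = b x w + b y w)
    (hadd' : ∀ x ∈ X, ∀ y ∈ X, ∀ w ∈ X, b w (x * y) = b w x + b w y)
    (hba : ∀ x ∈ X, ∀ y ∈ X, b (a * x * a⁻¹) (a * y * a⁻¹) = b x y)
    (hbd : ∀ x ∈ X, ∀ y ∈ X, b (d * x * d⁻¹) (d * y * d⁻¹) = b x y)
    (hnd : ∀ x ∈ X, (∀ y ∈ X, b y x = 0) → x = 1) : ∀ x ∈ X, d * x = x * d := by
  classical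
  haveI := Fact.mk Nat.prime_two
  haveI := hXel.1
  intro x₀ hx₀
  by_cases hx1 : x₀ = 1
  · rw [hx1, mul_one, one_mul]
  letI : CommGroup ↥X := { (inferInstance : Group ↥X) with mul_comm := fun u v => IsMulCommutative.is_comm.comm u v }
  letI : Module (ZMod 2) (Additive ↥X) := AddCommGroup.zmodModule (fun w => by
    refine Additive.toMul.injective (Subtype.ext ?_)
    rw [toMul_nsmul, toMul_zero, SubmonoidClass.coe_pow, hXel.2 _ (Additive.toMul w).2, Subgroup.coe_one])
  let mk : ∀ g : G, g ∈ normalizer (X : Set G) → Module.End (ZMod 2) (Additive ↥X) := fun g hg =>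
    ((X.normalizerMonoidHom ⟨g, hg⟩).toMonoidHom.toAdditive).toZModLinearMap 2
  set A := mk a haX with hA
  set D := mk d hdX with hD
  have hmk : ∀ g hg (w : Additive ↥X),
      ((Additive.toMul (mk g hg w) : ↥X) : G) = g * (Additive.toMul w : ↥X) * g⁻¹ := fun g hg w => rfl
  have hmkpow : ∀ g hg (i : ℕ) (w : Additive ↥X),
      ((Additive.toMul ((mk g hg ^ i) w) : ↥X) : G) = g ^ i * (Additive.toMul w : ↥X) * (g ^ i)⁻¹ := by
    intro g hg i
    induction i with
    | zero => intro w; simp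
    | succ i ih =>
      intro w
      rw [pow_succ', Module.End.mul_apply, hmk, ih, pow_succ']; group
  have hAr : A ^ r = 1 := LinearMap.ext fun w => Additive.toMul.injective (Subtype.ext (by
    rw [hA, hmkpow, har]; simp))
  have hDA : D * A = A * D := LinearMap.ext fun w => Additive.toMul.injective (Subtype.ext (by
    show ((Additive.toMul (D (A w)) : ↥X) : G) = ((Additive.toMul (A (D w)) : ↥X) : G)
    rw [hD, hA, hmk, hmk, hmk, hmk]
    exact hcomm _ (Additive.toMul w).2))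
  -- irreducibility
  have hirr : ∀ U : Submodule (ZMod 2) (Additive ↥X), (∀ w ∈ U, A w ∈ U) → U ≠ ⊥ → U = ⊤ := by
    intro U hU hU0
    let S : Subgroup G := (AddSubgroup.toSubgroup' U.toAddSubgroup).map X.subtype
    have hS : ∀ w : Additive ↥X, ((Additive.toMul w : ↥X) : G) ∈ S ↔ w ∈ U := by
      intro w
      refine ⟨fun h => ?_, fun hw => ⟨Additive.toMul w, hw, rfl⟩⟩
      obtain ⟨v, hv, e⟩ := h
      obtain rfl : v = Additive.toMul w := Subtype.ext e
      exact hv
    have hSX : S ≤ X := map_subtype_le _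
    have haS : a ∈ normalizer (S : Set G) := by
      suffices h : ∀ t ∈ zpowers a, ∀ x ∈ S, t * x * t⁻¹ ∈ S from invariant_iff.mp h (mem_zpowers a)
      intro t ht x hx
      obtain ⟨i, rfl⟩ := mem_powers_iff_mem_zpowers.mpr ht
      obtain ⟨w, hw, rfl⟩ := hx
      have hpow : ∀ i : ℕ, (A ^ i) (Additive.ofMul w) ∈ U := by
        intro i
        induction i with
        | zero => exact hw
        | succ i ih => rw [pow_succ', Module.End.mul_apply]; exact hU _ ih
      have h1 := (hS _).mpr (hpow i)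
      rw [hA, hmkpow] at h1
      exact h1
    rcases eq_bot_or_eq hr har hrn hXcard hSX haS hfix with h | h
    · refine absurd ((Submodule.eq_bot_iff U).mpr fun w hw => ?_) hU0
      have h1 := (hS w).mpr hw
      rw [h, mem_bot] at h1
      exact Additive.toMul.injective (Subtype.ext h1)
    · exact top_le_iff.mp fun w _ => (hS w).mp (h.ge (Additive.toMul w).2)
  set v : Additive ↥X := Additive.ofMul ⟨x₀, hx₀⟩ with hv
  have hv0 : v ≠ 0 := fun e => hx1 (congrArg (fun w : Additive ↥X => ((Additive.toMul w : ↥X) : G)) e)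
  obtain ⟨f, hf⟩ : ∃ f : Polynomial (ZMod 2), Polynomial.aeval A f v = D v := by
    let L : Polynomial (ZMod 2) →ₗ[ZMod 2] Additive ↥X :=
      (LinearMap.applyₗ v).comp (Polynomial.aeval A).toLinearMap
    have hL : LinearMap.range L = ⊤ := by
      refine hirr _ ?_ fun e => hv0 ?_
      · rintro _ ⟨g, rfl⟩
        exact ⟨Polynomial.X * g, by simp [L]⟩
      · have h1 : L 1 ∈ LinearMap.range L := ⟨1, rfl⟩
        rw [e, Submodule.mem_bot] at h1
        simpa [L] using h1
    obtain ⟨f, hf⟩ := (hL ▸ Submodule.mem_top : D v ∈ LinearMap.range L)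
    exact ⟨f, hf⟩
  have hDf : D = Polynomial.aeval A f := by
    have hk : LinearMap.eqLocus D (Polynomial.aeval A f) = ⊤ := by
      refine hirr _ (fun w hw => ?_) fun e => hv0 ?_
      · rw [LinearMap.mem_eqLocus] at hw ⊢
        rw [← Module.End.mul_apply, hDA, Module.End.mul_apply, hw, ← Module.End.mul_apply,
          ← Module.End.mul_apply (Polynomial.aeval A f)]
        congr 1
        have h2 : Polynomial.aeval A (Polynomial.X * f) = Polynomial.aeval A (f * Polynomial.X) := by rw [mul_comm]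
        simpa using h2
      · have h1 : v ∈ LinearMap.eqLocus D (Polynomial.aeval A f) := hf.symm
        rwa [e, Submodule.mem_bot] at h1
    exact LinearMap.eqLocus_eq_top.mp hk
  -- the form
  let β : Additive ↥X → Additive ↥X → ZMod 2 := fun u w => b ((Additive.toMul u : ↥X) : G) ((Additive.toMul w : ↥X) : G)
  have hβ1 : ∀ u v w, β (u + v) w = β u w + β v w := fun u v w =>
    hadd _ (Additive.toMul u).2 _ (Additive.toMul v).2 _ (Additive.toMul w).2
  have hβ2 : ∀ u v w, β w (u + v) = β w u + β w v := fun u v w =>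
    hadd' _ (Additive.toMul u).2 _ (Additive.toMul v).2 _ (Additive.toMul w).2
  have hβA : ∀ u w, β (A u) (A w) = β u w := fun u w => hba _ (Additive.toMul u).2 _ (Additive.toMul w).2
  have hβD : ∀ u w, β (D u) (D w) = β u w := fun u w => hbd _ (Additive.toMul u).2 _ (Additive.toMul w).2
  have hr1 : r - 1 + 1 = r := by have := hr.pos; omega
  have hswap : ∀ u w, β (A u) w = β u ((A ^ (r - 1)) w) := by
    intro u w
    conv_lhs => rw [show w = A ((A ^ (r - 1)) w) by
      rw [← Module.End.mul_apply, ← pow_succ', hr1, hAr, Module.End.one_apply]]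
    rw [hβA]
  have hswap' : ∀ (i : ℕ) u w, β ((A ^ i) u) w = β u (((A ^ (r - 1)) ^ i) w) := by
    intro i
    induction i with
    | zero => intro u w; rfl
    | succ i ih =>
      intro u w
      rw [pow_succ, Module.End.mul_apply, ih, hswap, pow_succ', Module.End.mul_apply]
  have hβ0 : ∀ w, β 0 w = 0 ∧ β w 0 = 0 := fun w => by
    have h1 := hβ1 0 0 w
    have h2 := hβ2 0 0 w
    rw [add_zero] at h1 h2
    exact ⟨left_eq_add.mp h1, left_eq_add.mp h2⟩
  have hadj : ∀ (g : Polynomial (ZMod 2)) u w,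
      β (Polynomial.aeval A g u) w = β u (Polynomial.aeval (A ^ (r - 1)) g w) := by
    intro g
    induction g using Polynomial.induction_on' with
    | add g g' h h' =>
      intro u w
      rw [map_add, map_add, LinearMap.add_apply, LinearMap.add_apply, hβ1, hβ2, h, h']
    | monomial i c =>
      intro u w
      rw [Polynomial.aeval_monomial, Polynomial.aeval_monomial]
      rcases zmod_two_cases c with rfl | rfl
      · simp only [map_zero, zero_mul, LinearMap.zero_apply, (hβ0 _).1, (hβ0 _).2]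
      · simp only [map_one, one_mul]
        exact hswap' i u w
  have hfrob : D ^ 2 ^ n = Polynomial.aeval (A ^ (r - 1)) f := by
    have h1 : ∀ m, f ^ 2 ^ m = Polynomial.expand (ZMod 2) (2 ^ m) f := by
      intro m
      induction m with
      | zero => simp
      | succ m ih =>
        rw [pow_succ, pow_mul, ih, ← ZMod.expand_card, ← Polynomial.expand_mul, mul_comm]
    rw [hDf, ← map_pow, h1 n, Polynomial.expand_aeval, show r - 1 = 2 ^ n by omega]
  have hDr : D ^ r = 1 := by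
    refine LinearMap.ext fun w => ?_
    have key : ∀ u, β u ((D ^ r) w - w) = 0 := by
      intro u
      have h2 : β u ((D ^ r) w) = β u w := by
        rw [hrn, pow_succ, Module.End.mul_apply, hfrob, ← hadj, ← hDf, hβD]
      have h3 := hβ2 ((D ^ r) w - w) w u
      rw [sub_add_cancel, h2] at h3
      exact right_eq_add.mp h3
    rw [Module.End.one_apply]
    refine sub_eq_zero.mp (Additive.toMul.injective (Subtype.ext ?_))
    exact hnd _ (Additive.toMul ((D ^ r) w - w)).2 fun y hy => key (Additive.ofMul ⟨y, hy⟩)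
  obtain ⟨k, hk⟩ := hdq
  have hDq : D ^ q ^ k = 1 := LinearMap.ext fun w => Additive.toMul.injective (Subtype.ext (by
    rw [hD, hmkpow, hk]; simp))
  have hD1 : D = 1 := by
    have h1 := pow_gcd_eq_one.mpr ⟨hDr, hDq⟩
    rwa [Nat.Coprime.pow_right k ((Nat.coprime_primes hr hq).mpr hqr.symm), pow_one] at h1
  have h2 : ((Additive.toMul (D v) : ↥X) : G) = x₀ := by rw [hD1]; rfl
  rw [hD, hmk] at h2
  exact mul_inv_eq_iff_eq_mul.mp h2

set_option maxHeartbeats 1000000 in
/-- An odd group of isometries normalized by an operator moving only an irreducible part of order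
`2 ^ (2 n)`, `r = 2 ^ n + 1`, is centralized by it. -/
theorem symplectic_commutator_le [Finite G] {a : G} {r n q : ℕ} (hr : r.Prime) (hq : q.Prime) (hq2 : q ≠ 2)
    (hqr : q ≠ r) (har : a ^ r = 1) (hn : 1 ≤ n) (hrn : r = 2 ^ n + 1) {M Q : Subgroup G}
    (hM : Cfsg.IsElementaryAbelian 2 M) (hQ : IsPGroup q Q) (haM : a ∈ normalizer (M : Set G))
    (haQ : a ∈ normalizer (Q : Set G)) (hQM : Q ≤ normalizer (M : Set G))
    (hX : Nat.card ↥⁅M, zpowers a⁆ = 2 ^ n * 2 ^ n) (b : G → G → ZMod 2)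
    (hadd : ∀ x ∈ M, ∀ y ∈ M, ∀ w ∈ M, b (x * y) w = b x w + b y w)
    (hadd' : ∀ x ∈ M, ∀ y ∈ M, ∀ w ∈ M, b w (x * y) = b w x + b w y)
    (halt : ∀ x ∈ M, b x x = 0)
    (hinv : ∀ g, g = a ∨ g ∈ Q → ∀ x ∈ M, ∀ y ∈ M, b (g * x * g⁻¹) (g * y * g⁻¹) = b x y)
    (hperp : ∀ x ∈ ⁅M, zpowers a⁆, ∀ c ∈ M, a * c = c * a → b x c = 0 ∧ b c x = 0)
    (hnd : ∀ x ∈ M, (∀ y ∈ M, b y x = 0) → x = 1) :
    ⁅Q, zpowers a⁆ ≤ centralizer (M : Set G) := by
  classical
  haveI := Fact.mk Nat.prime_two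
  haveI := Fact.mk hq
  haveI := hM.1
  by_contra hne
  obtain ⟨Q₀, ⟨hQ₀Q, haQ₀, hQ₀ne⟩, hmin⟩ := (wellFounded_lt (α := Subgroup G)).has_min
    {R : Subgroup G | R ≤ Q ∧ a ∈ normalizer (R : Set G) ∧ ¬ ⁅R, zpowers a⁆ ≤ centralizer (M : Set G)}
    ⟨Q, le_rfl, haQ, hne⟩
  have hAM := zpowers_le_normalizer haM
  have hAQ₀ := zpowers_le_normalizer haQ₀
  have hQ₀p : IsPGroup q Q₀ := hQ.to_le hQ₀Q
  have hQ₀M : Q₀ ≤ normalizer (M : Set G) := hQ₀Q.trans hQM
  have hQcard := not_dvd_card_of_pGroup hq hr hqr hQ₀p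
  have hcQ : (Nat.card (zpowers a)).Coprime (Nat.card Q₀) := coprime_zpowers har hr hQcard
  have hQQ : ⁅Q₀, zpowers a⁆ = Q₀ := by
    have hle := commutator_le_left_of_le_normalizer hAQ₀
    refine hle.eq_or_lt.resolve_right fun hlt => hmin _ ⟨hle.trans hQ₀Q,
      normalizer_commutator hAQ₀ le_normalizer (mem_zpowers a), ?_⟩ hlt
    rwa [commutator_commutator_eq (zpowers a) Q₀ hAQ₀ hcQ (Or.inl (Group.isSolvable_of_comm mul_comm'))]
  set X := ⁅M, zpowers a⁆ with hXdef
  have hXM : X ≤ M := commutator_le_left_of_le_normalizer hAM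
  have haX : a ∈ normalizer (X : Set G) := normalizer_commutator hAM le_normalizer (mem_zpowers a)
  have h2r : (2 : ℕ) ≠ r := by
    have := Nat.pow_le_pow_right (show 0 < 2 by norm_num) hn
    omega
  have hcM : (Nat.card (zpowers a)).Coprime (Nat.card M) :=
    coprime_zpowers har hr (not_dvd_card_of_pGroup Nat.prime_two hr h2r (elemAb_isPGroup hM))
  have hXfix : ∀ x ∈ X, a * x = x * a → x = 1 := by
    intro x hx hax
    have h1 : x ∈ (M ⊓ centralizer (zpowers a : Set G)) ⊓ ⁅M, zpowers a⁆ :=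
      ⟨mem_fixed.mpr ⟨hXM hx, hax⟩, hx⟩
    rwa [abelian_commutator_inf_fixed (zpowers a) M hAM hcM, mem_bot] at h1
  have hdec : ∀ m ∈ M, ∃ x ∈ X, ∃ c ∈ M, a * c = c * a ∧ m = x * c := fun m hm => by
    obtain ⟨x, hx, c, hc, e⟩ := exists_commutator_mul_fixed (zpowers a) M hAM hcM
      (Or.inl (Group.isSolvable_of_comm mul_comm')) hm
    exact ⟨x, hx, c, (mem_fixed.mp hc).1, (mem_fixed.mp hc).2, e⟩
  -- the derived subgroup acts trivially
  set D := ⁅Q₀, Q₀⁆ with hD
  have hDQ : D ≤ Q₀ := Subgroup.commutator_le_self Q₀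
  have hQ₀1 : Q₀ ≠ ⊥ := fun e => hQ₀ne (by rw [e, commutator_bot_left]; exact bot_le)
  have hDlt : D < Q₀ := by
    haveI := hQ₀p.isNilpotent
    refine lt_of_le_of_ne hDQ fun e => ?_
    haveI : Nontrivial ↥Q₀ := (nontrivial_iff_ne_bot Q₀).mpr hQ₀1
    refine (Group.IsSolvable.commutator_lt_top_of_nontrivial (G := ↥Q₀)).ne ?_
    refine Subgroup.map_injective Q₀.subtype_injective ?_
    rw [← MonoidHom.range_eq_map, range_subtype, commutator_def, Subgroup.map_commutator,
      ← MonoidHom.range_eq_map, range_subtype]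
    exact e
  have haD : a ∈ normalizer (D : Set G) := normalizer_commutator hAQ₀ hAQ₀ (mem_zpowers a)
  have hDa : ⁅D, zpowers a⁆ ≤ centralizer (M : Set G) :=
    not_not.mp fun h => hmin D ⟨hDQ.trans hQ₀Q, haD, h⟩ hDlt
  have hDcomm : ∀ δ ∈ D, ∀ t ∈ zpowers a, ∀ m ∈ M,
      δ * (t * m * t⁻¹) * δ⁻¹ = t * (δ * m * δ⁻¹) * t⁻¹ := by
    intro δ hδ t ht m hm
    have hm' : t * (δ * m * δ⁻¹) * t⁻¹ ∈ M :=
      mem_conj_normalizer (hAM ht) (mem_conj_normalizer (hQ₀M (hDQ hδ)) hm)
    have h1 := mem_centralizer_iff.mp (hDa (commutator_mem_commutator hδ ht)) _ hm'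
    calc δ * (t * m * t⁻¹) * δ⁻¹
        = ⁅δ, t⁆ * (t * (δ * m * δ⁻¹) * t⁻¹) * ⁅δ, t⁆⁻¹ := by rw [commutatorElement_def]; group
      _ = (t * (δ * m * δ⁻¹) * t⁻¹) * ⁅δ, t⁆ * ⁅δ, t⁆⁻¹ := by rw [← h1]
      _ = t * (δ * m * δ⁻¹) * t⁻¹ := mul_inv_cancel_right _ _
  have hDX : D ≤ normalizer (X : Set G) := by
    refine invariant_iff.mp fun δ hδ x hx => ?_
    suffices hle : X ≤ (⁅M, zpowers a⁆).comap (MulAut.conj δ).toMonoidHom from hle hx
    rw [hXdef, Subgroup.commutator_le]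
    intro m hm t ht
    show δ * ⁅m, t⁆ * δ⁻¹ ∈ ⁅M, zpowers a⁆
    have e : δ * ⁅m, t⁆ * δ⁻¹ = ⁅δ * m * δ⁻¹, t⁆ := by
      calc δ * (m * t * m⁻¹ * t⁻¹) * δ⁻¹ = (δ * m * δ⁻¹) * (δ * (t * m⁻¹ * t⁻¹) * δ⁻¹) := by group
        _ = (δ * m * δ⁻¹) * (t * (δ * m⁻¹ * δ⁻¹) * t⁻¹) := by rw [hDcomm δ hδ t ht _ (M.inv_mem hm)]
        _ = ⁅δ * m * δ⁻¹, t⁆ := by rw [commutatorElement_def]; group
    rw [e]
    exact commutator_mem_commutator (mem_conj_normalizer (hQ₀M (hDQ hδ)) hm) ht
  have hbX : ∀ x ∈ X, (∀ y ∈ X, b y x = 0) → x = 1 := by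
    intro x hx h
    refine hnd x (hXM hx) fun y hy => ?_
    obtain ⟨x', hx', c, hc, hac, rfl⟩ := hdec y hy
    rw [hadd x' (hXM hx') c hc x (hXM hx), h x' hx', (hperp x hx c hc hac).2, add_zero]
  have hDtriv : ∀ δ ∈ D, ∀ x ∈ X, δ * x = x * δ := by
    intro δ hδ
    obtain ⟨k, hk⟩ := hQ₀p ⟨δ, hDQ hδ⟩
    exact trivial_of_commute hr hq hqr har hrn (elemAb_mono hM hXM) hX haX (hDX hδ) hXfix
      (fun x hx => hDcomm δ hδ a (mem_zpowers a) x (hXM hx)) ⟨k, congrArg Subtype.val hk⟩ b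
      (fun x hx y hy w hw => hadd x (hXM hx) y (hXM hy) w (hXM hw))
      (fun x hx y hy w hw => hadd' x (hXM hx) y (hXM hy) w (hXM hw))
      (fun x hx y hy => hinv a (Or.inl rfl) x (hXM hx) y (hXM hy))
      (fun x hx y hy => hinv δ (Or.inr (hQ₀Q (hDQ hδ))) x (hXM hx) y (hXM hy)) hbX
  have hQ₀D : Q₀ ≤ normalizer (D : Set G) := normalizer_commutator le_normalizer le_normalizer
  set M2 := ⁅M, D⁆ with hM2
  have hM2M : M2 ≤ M := commutator_le_left_of_le_normalizer (hDQ.trans hQ₀M)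
  have hM2a : ∀ m ∈ M2, a * m = m * a := by
    have hle : M2 ≤ centralizer ({a} : Set G) := by
      rw [hM2, Subgroup.commutator_le]
      intro m hm δ hδ
      obtain ⟨x, hx, c, hc, hac, rfl⟩ := hdec m hm
      have hdM := hQ₀M (hDQ hδ)
      have e : ⁅x * c, δ⁆ = ⁅c, δ⁆ := by
        have hxc : ⁅c, δ⁆ ∈ M :=
          commutator_le_left_of_le_normalizer (hDQ.trans hQ₀M) (commutator_mem_commutator hc hδ)
        rw [commutatorElement_mul_left_eq_conj_mul, commutatorElement_eq_one_iff_mul_comm.mpr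
          (hDtriv δ hδ x hx).symm, mul_one, elemAb_comm hM _ (hXM hx) _ hxc, mul_inv_cancel_right]
      rw [e, mem_centralizer_singleton_iff]
      have h1 : a * (δ * c⁻¹ * δ⁻¹) = δ * c⁻¹ * δ⁻¹ * a := by
        refine mul_inv_eq_iff_eq_mul.mp ?_
        rw [← hDcomm δ hδ a (mem_zpowers a) _ (M.inv_mem hc),
          ((show Commute a c from hac).inv_right).eq, mul_inv_cancel_right]
      rw [commutatorElement_def]
      symm
      calc a * (c * δ * c⁻¹ * δ⁻¹) = (a * c) * (δ * c⁻¹ * δ⁻¹) := by group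
        _ = c * (a * (δ * c⁻¹ * δ⁻¹)) := by rw [hac]; group
        _ = c * (δ * c⁻¹ * δ⁻¹ * a) := by rw [h1]
        _ = _ := by group
    exact fun m hm => (mem_centralizer_singleton_iff.mp (hle hm)).symm
  have hQM2 : Q₀ ≤ normalizer (M2 : Set G) := normalizer_commutator hQ₀M hQ₀D
  have hQc : Q₀ ≤ centralizer (M2 : Set G) := by
    conv_lhs => rw [← hQQ]
    rw [Subgroup.commutator_le]
    intro y hy t ht
    rw [mem_centralizer_iff]
    intro m hm
    have ht1 : t * m = m * t := commute_zpowers' (hM2a m hm) ht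
    have ht2 : t * (y⁻¹ * m * y) = (y⁻¹ * m * y) * t :=
      commute_zpowers' (hM2a _ (mem_conj_normalizer' (hQM2 hy) hm)) ht
    calc m * (y * t * y⁻¹ * t⁻¹) = y * ((y⁻¹ * m * y) * t) * y⁻¹ * t⁻¹ := by group
      _ = y * (t * (y⁻¹ * m * y)) * y⁻¹ * t⁻¹ := by rw [ht2]
      _ = y * t * y⁻¹ * (m * t⁻¹) := by group
      _ = y * t * y⁻¹ * (t⁻¹ * m) := by rw [((show Commute t m from ht1).inv_left).eq]
      _ = y * t * y⁻¹ * t⁻¹ * m := by group
  have hM2bot : M2 = ⊥ := (Subgroup.eq_bot_iff_forall _).mpr fun m hm =>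
    eq_one_of_mem_commutator Nat.prime_two hq hq2.symm (hQ₀p.to_le hDQ) hM (hDQ.trans hQ₀M) hm fun y hy =>
      (mem_centralizer_iff.mp (hQc (hDQ hy)) m hm).symm
  have hDM : D ≤ centralizer (M : Set G) :=
    le_centralizer_iff.mp (Subgroup.commutator_eq_bot_iff_le_centralizer.mp hM2bot)
  -- the abelian case
  set E := Q₀ ⊓ centralizer (M : Set G) with hE
  have hQE : Q₀ ≤ normalizer (E : Set G) := by
    refine le_normalizer_inf' le_normalizer (invariant_iff.mp fun g hg x hx => mem_centralizer_iff.mpr fun w hw => ?_)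
    have h1 := mem_centralizer_iff.mp hx _ (mem_conj_normalizer' (hQ₀M hg) hw)
    calc w * (g * x * g⁻¹) = g * ((g⁻¹ * w * g) * x) * g⁻¹ := by group
      _ = g * (x * (g⁻¹ * w * g)) * g⁻¹ := by rw [h1]
      _ = g * x * g⁻¹ * w := by group
  have haE : a ∈ normalizer (E : Set G) := by
    refine le_normalizer_inf' hAQ₀ (invariant_iff.mp fun g hg x hx => mem_centralizer_iff.mpr fun w hw => ?_)
      (mem_zpowers a)
    have h1 := mem_centralizer_iff.mp hx _ (mem_conj_normalizer' (hAM hg) hw)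
    calc w * (g * x * g⁻¹) = g * ((g⁻¹ * w * g) * x) * g⁻¹ := by group
      _ = g * (x * (g⁻¹ * w * g)) * g⁻¹ := by rw [h1]
      _ = g * x * g⁻¹ * w := by group
  set M1 := ⁅M, Q₀⁆ with hM1
  have hM1M : M1 ≤ M := commutator_le_left_of_le_normalizer hQ₀M
  have hQM1 : Q₀ ≤ normalizer (M1 : Set G) := normalizer_commutator hQ₀M le_normalizer
  have hAM1 : zpowers a ≤ normalizer (M1 : Set G) := normalizer_commutator hAM hAQ₀
  set H := normalizer (E : Set G) with hH
  have hQ₀H : Q₀ ≤ H := hQE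
  have haH : a ∈ H := haE
  have hM1H : M1 ≤ H := le_normalizer_of_commute fun w hw k hk => mem_centralizer_iff.mp hk.2 w (hM1M hw)
  have hAH : zpowers a ≤ H := zpowers_le.mpr haH
  haveI : (E.subgroupOf H).Normal := (Subgroup.normal_subgroupOf_iff_le_normalizer le_normalizer).mpr le_rfl
  set ai := el H E a haH with hai
  have har' : ai ^ r = 1 := by rw [hai, ← el_pow, el_eq_one, har]; exact one_mem E
  have hAi : img H E (zpowers a) = zpowers ai := img_zpowers haH
  have h2q : (Nat.card M).Coprime (Nat.card Q₀) :=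
    IsPGroup.coprime_card_of_ne 2 q hq2.symm _ _ (elemAb_isPGroup hM) hQ₀p
  have hME : ∀ m ∈ M, m ∈ E → m = 1 := fun m hm hmE => by
    have h1 : m ∈ M ⊓ Q₀ := ⟨hm, hmE.1⟩
    rwa [inf_eq_bot_of_coprime h2q, mem_bot] at h1
  have hfpf : ∀ e ∈ img H E (zpowers a), e ≠ 1 → ∀ u ∈ img H E Q₀, e * u = u * e → u = 1 := by
    intro e he he1 u hu heu
    rw [hAi] at he
    haveI := Fact.mk hr
    have hord : orderOf e = r := orderOf_eq_prime (by
      obtain ⟨i, rfl⟩ := mem_zpowers_iff.mp he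
      rw [← zpow_natCast, ← zpow_mul, mul_comm, zpow_mul, zpow_natCast, har', one_zpow]) he1
    have hgen : zpowers e = zpowers ai := Subgroup.eq_of_le_of_card_ge (zpowers_le.mpr he) (by
      rw [Nat.card_zpowers e, hord]
      exact Nat.le_of_dvd hr.pos (card_zpowers_dvd har'))
    have hau : ai * u = u * ai := commute_zpowers' heu (hgen ▸ mem_zpowers ai)
    obtain ⟨y, hy, hyQ, rfl⟩ := exists_of_mem_img hu
    obtain ⟨c, hc, hyc, hac⟩ := el_fixed_img hr har haH haQ₀ haE
      (not_dvd_card_of_pGroup hq hr hqr (hQ₀p.to_le inf_le_left)) hyQ hy hau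
    have hcE : c ∈ E := mem_of_commutator_fixed hr har haQ₀ hQE inf_le_left
      (le_inf (Subgroup.commutator_le_self _) hDM) hQcard (hQQ.symm ▸ hc) hac
    rw [el_eq_one]
    have h2 := E.mul_mem hcE (E.inv_mem hyc)
    convert h2 using 1
    group
  have hcopAQ : (Nat.card ↥(img H E M1)).Coprime (Nat.card ↥(img H E Q₀ ⊔ img H E (zpowers a))) := by
    obtain ⟨i, hi⟩ := (img_isPGroup (H := H) (K := E) ((elemAb_isPGroup hM).to_le hM1M)).exists_card_eq
    have hdvd : Nat.card ↥(img H E Q₀ ⊔ img H E (zpowers a)) ∣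
        Nat.card (img H E (zpowers a)) * Nat.card (img H E Q₀) := by
      rw [sup_comm]
      exact card_sup_dvd_mul (img_le_normalizer hAQ₀)
    refine Nat.Coprime.coprime_dvd_right hdvd (Nat.Coprime.mul_right ?_ ?_)
    · rw [hi, hAi]
      exact (((Nat.coprime_primes Nat.prime_two hr).mpr h2r).coprime_dvd_right (card_zpowers_dvd har')).pow_left i
    · exact IsPGroup.coprime_card_of_ne 2 q hq2.symm _ _ (img_isPGroup ((elemAb_isPGroup hM).to_le hM1M))
        (img_isPGroup hQ₀p)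
  have hsolvQ : Group.IsSolvable ↥(img H E Q₀) := by
    haveI := (img_isPGroup (H := H) (K := E) hQ₀p).isNilpotent
    infer_instance
  have hsolvM : Group.IsSolvable ↥(img H E M1) := by
    haveI := (img_isPGroup (H := H) (K := E) ((elemAb_isPGroup hM).to_le hM1M)).isNilpotent
    infer_instance
  have hCU : img H E M1 ⊓ centralizer (img H E Q₀ : Set _) = ⊥ := by
    refine (Subgroup.eq_bot_iff_forall _).mpr fun g hg => ?_
    obtain ⟨m, hm, hmM, rfl⟩ := exists_of_mem_img hg.1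
    have h1 : m = 1 := eq_one_of_mem_commutator Nat.prime_two hq hq2.symm hQ₀p hM hQ₀M hmM fun y hy => by
      have h2 := mem_centralizer_iff.mp hg.2 _ (el_mem_img (K := E) (hQ₀H hy) hy)
      rw [el_commute_iff] at h2
      refine commutatorElement_eq_one_iff_mul_comm.mp (hME _ ?_ h2)
      rw [← commutatorElement_inv]
      exact M.inv_mem (commutator_le_left_of_le_normalizer hQ₀M (commutator_mem_commutator (hM1M hmM) hy))
    rw [el_eq_one, h1]
    exact one_mem E
  have hformula := Cfsg.Agent.Transfer.FrobFix.card_eq_fixed_pow (img H E Q₀) (img H E (zpowers a))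
    (img H E M1) (sup_le (img_le_normalizer hQM1) (img_le_normalizer hAM1)) (img_le_normalizer hAQ₀)
    hfpf hsolvQ hsolvM hcopAQ hCU
  set C1 := M1 ⊓ centralizer (zpowers a : Set G) with hC1
  have hcard1 : ∀ Y : Subgroup G, Y ≤ M1 → Nat.card (img H E Y) = Nat.card Y := fun Y hY => by
    rw [card_img (hY.trans hM1H), ← inf_relIndex_right, (Subgroup.eq_bot_iff_forall (E ⊓ Y)).mpr
      (fun x hx => hME x (hM1M (hY hx.2)) hx.1), relIndex_bot_left]
  have hCi : img H E M1 ⊓ centralizer (img H E (zpowers a) : Set _) = img H E C1 := by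
    refine le_antisymm (fun g hg => ?_) ?_
    · obtain ⟨m, hm, hmM, rfl⟩ := exists_of_mem_img hg.1
      have h1 := mem_centralizer_iff.mp hg.2 _ (el_mem_img (K := E) haH (mem_zpowers a))
      rw [el_commute_iff] at h1
      refine el_mem_img hm (mem_fixed.mpr ⟨hmM, commutatorElement_eq_one_iff_mul_comm.mp (hME _ ?_ h1)⟩)
      rw [← commutatorElement_inv]
      exact M.inv_mem (commutator_le_left_of_le_normalizer hAM
        (commutator_mem_commutator (hM1M hmM) (mem_zpowers a)))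
    · intro g hg
      obtain ⟨m, hm, hmC, rfl⟩ := exists_of_mem_img hg
      refine ⟨el_mem_img hm hmC.1, mem_centralizer_iff.mpr fun t ht => ?_⟩
      obtain ⟨y, hy, hyA, rfl⟩ := exists_of_mem_img ht
      exact el_commute hy hm (mem_centralizer_iff.mp hmC.2 y hyA)
  have hZa : Nat.card (img H E (zpowers a)) = r := by
    haveI := Fact.mk hr
    rw [hAi, Nat.card_zpowers]
    refine orderOf_eq_prime har' fun e => hQ₀ne ?_
    rw [el_eq_one] at e
    rw [Subgroup.commutator_le]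
    intro y hy t ht
    have hQE' : ⁅y, t⁆ ∈ E := by
      have htE : t ∈ E := zpowers_le.mpr e ht
      rw [commutatorElement_def]
      exact E.mul_mem (mem_conj_normalizer (hQE hy) htE) (E.inv_mem htE)
    exact hQE'.2
  rw [hCi, hcard1 C1 inf_le_left, hcard1 M1 le_rfl, hZa] at hformula
  haveI : IsMulCommutative M1 := (elemAb_mono hM hM1M).1
  have hcM1 : (Nat.card (zpowers a)).Coprime (Nat.card M1) :=
    hcM.coprime_dvd_right (card_dvd_of_le hM1M)
  have hM1eq : Nat.card M1 = Nat.card ↥⁅M1, zpowers a⁆ * Nat.card C1 := by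
    have h1 := card_sup_mul_card_inf (H := C1) (N := ⁅M1, zpowers a⁆)
      (le_normalizer_of_commute fun g hg k hk => elemAb_comm hM _ (hM1M hg.1) _
        (hM1M (commutator_le_left_of_le_normalizer hAM1 hk)))
    rw [show C1 ⊓ ⁅M1, zpowers a⁆ = ⊥ from abelian_commutator_inf_fixed (zpowers a) M1 hAM1 hcM1,
      Subgroup.card_bot, mul_one, sup_comm,
      commutator_sup_fixed (zpowers a) M1 hAM1 hcM1 (Or.inl (Group.isSolvable_of_comm mul_comm'))] at h1
    rw [h1, mul_comm]
  have hX1 : ⁅M1, zpowers a⁆ = X := by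
    refine (eq_bot_or_eq hr har hrn hX (commutator_mono hM1M le_rfl)
      (normalizer_commutator hAM1 le_normalizer (mem_zpowers a)) hXfix).resolve_left fun e => hQ₀ne ?_
    have hMa : ∀ m ∈ M1, ∀ t ∈ zpowers a, t * m = m * t := fun m hm t ht => by
      have h1 : ⁅m, t⁆ ∈ ⁅M1, zpowers a⁆ := commutator_mem_commutator hm ht
      rw [e, mem_bot, commutatorElement_eq_one_iff_mul_comm] at h1
      exact h1.symm
    have hQc1 : Q₀ ≤ centralizer (M1 : Set G) := by
      conv_lhs => rw [← hQQ]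
      rw [Subgroup.commutator_le]
      intro y hy t ht
      rw [mem_centralizer_iff]
      intro m hm
      have ht1 := hMa m hm t ht
      have ht2 := hMa _ (mem_conj_normalizer' (hQM1 hy) hm) t ht
      calc m * (y * t * y⁻¹ * t⁻¹) = y * ((y⁻¹ * m * y) * t) * y⁻¹ * t⁻¹ := by group
        _ = y * (t * (y⁻¹ * m * y)) * y⁻¹ * t⁻¹ := by rw [ht2]
        _ = y * t * y⁻¹ * (m * t⁻¹) := by group
        _ = y * t * y⁻¹ * (t⁻¹ * m) := by rw [((show Commute t m from ht1).inv_left).eq]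
        _ = y * t * y⁻¹ * t⁻¹ * m := by group
    have hM1bot : M1 = ⊥ := (Subgroup.eq_bot_iff_forall _).mpr fun m hm =>
      eq_one_of_mem_commutator Nat.prime_two hq hq2.symm hQ₀p hM hQ₀M hm fun y hy =>
        (mem_centralizer_iff.mp (hQc1 hy) m hm).symm
    exact hQQ.le.trans (le_centralizer_iff.mp (Subgroup.commutator_eq_bot_iff_le_centralizer.mp hM1bot))
  rw [hX1, hX] at hM1eq
  obtain ⟨c, hc⟩ := ((elemAb_isPGroup hM).to_le (inf_le_left.trans hM1M : C1 ≤ M)).exists_card_eq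
  have hexp : c * r = 2 * n + c := by
    refine Nat.pow_right_injective (le_refl 2) ?_
    show 2 ^ (c * r) = 2 ^ (2 * n + c)
    rw [pow_mul, ← hc, ← hformula, hM1eq, hc, ← pow_add, ← pow_add]
    congr 1
    omega
  have hc1 : c = 1 := by
    have h1 : c * 2 ^ n = 2 * n := by rw [hrn, mul_add, mul_one] at hexp; omega
    have h2 : n < 2 ^ n := Nat.lt_two_pow_self
    rcases Nat.lt_or_ge c 2 with h | h
    · rcases Nat.eq_zero_or_pos c with rfl | h0
      · simp at h1; omega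
      · omega
    · have := Nat.mul_le_mul_right (2 ^ n) h; omega
  replace hc : Nat.card ↥C1 = 2 := by rw [hc1, pow_one] at hc; exact hc
  obtain ⟨u, hu, hu1⟩ := (Subgroup.bot_or_exists_ne_one C1).resolve_left fun e => by
    rw [e, Subgroup.card_bot] at hc; omega
  have hC1two : ∀ w ∈ C1, w = 1 ∨ w = u := by
    intro w hw
    obtain ⟨x, y, hxy, hxy'⟩ := Nat.card_eq_two_iff.mp hc
    have h1 : ∀ v : ↥C1, v = x ∨ v = y := fun v => by
      have : v ∈ ({x, y} : Set ↥C1) := hxy' ▸ Set.mem_univ v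
      simpa using this
    by_contra hw'
    push Not at hw'
    obtain ⟨hw1, hwu⟩ := hw'
    have e1 : (⟨w, hw⟩ : ↥C1) ≠ 1 := fun e => hw1 (congrArg Subtype.val e)
    have e2 : (⟨w, hw⟩ : ↥C1) ≠ ⟨u, hu⟩ := fun e => hwu (congrArg Subtype.val e)
    have e3 : (⟨u, hu⟩ : ↥C1) ≠ 1 := fun e => hu1 (congrArg Subtype.val e)
    rcases h1 1 with a1 | a1 <;> rcases h1 ⟨w, hw⟩ with a2 | a2 <;> rcases h1 ⟨u, hu⟩ with a3 | a3 <;>
      first
      | exact e1 (a2.trans a1.symm)
      | exact e2 (a2.trans a3.symm)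
      | exact e3 (a3.trans a1.symm)
  have huM1 : u ∈ M1 := hu.1
  have huM : u ∈ M := hM1M huM1
  have hua : a * u = u * a := (mem_fixed.mp hu).2
  refine hu1 (hnd u huM fun y hy => ?_)
  obtain ⟨m, hm, v, hv, rfl⟩ := exists_commutator_mul_fixed Q₀ M hQ₀M h2q.symm
    (Or.inl (haveI := hQ₀p.isNilpotent; inferInstance)) hy
  rw [hadd m (hM1M hm) v hv.1 u huM]
  have hb0 : ∀ w ∈ M, b w 1 = 0 := fun w hw => by
    have h1 := hadd' 1 M.one_mem 1 M.one_mem w hw
    rw [mul_one] at h1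
    exact left_eq_add.mp h1
  have hv0 : b v u = 0 := by
    let U : Subgroup G :=
      { carrier := {w | w ∈ M ∧ b v w = 0}
        one_mem' := ⟨M.one_mem, hb0 v hv.1⟩
        mul_mem' := fun {w w'} h h' => ⟨M.mul_mem h.1 h'.1, by rw [hadd' w h.1 w' h'.1 v hv.1, h.2, h'.2, add_zero]⟩
        inv_mem' := fun {w} h => ⟨M.inv_mem h.1, by
          have h1 := hadd' w h.1 w⁻¹ (M.inv_mem h.1) v hv.1
          rwa [mul_inv_cancel, hb0 v hv.1, h.2, zero_add, eq_comm] at h1⟩ }
    have hle : M1 ≤ U := by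
      rw [hM1, Subgroup.commutator_le]
      intro w hw y hy
      have hyM := hQ₀M hy
      refine ⟨commutator_le_left_of_le_normalizer hQ₀M (commutator_mem_commutator hw hy), ?_⟩
      have hvy : y * v * y⁻¹ = v := by rw [mem_centralizer_iff.mp hv.2 y hy, mul_inv_cancel_right]
      have h1 := hinv y (Or.inr (hQ₀Q hy)) v hv.1 w⁻¹ (M.inv_mem hw)
      rw [hvy] at h1
      rw [show ⁅w, y⁆ = w * (y * w⁻¹ * y⁻¹) by rw [commutatorElement_def]; group,
        hadd' w hw _ (mem_conj_normalizer hyM (M.inv_mem hw)) v hv.1, h1,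
        ← hadd' w hw _ (M.inv_mem hw) v hv.1, mul_inv_cancel, hb0 v hv.1]
    exact (hle huM1).2
  obtain ⟨x, hx, c', hc', rfl⟩ := exists_commutator_mul_fixed (zpowers a) M1 hAM1 hcM1
    (Or.inl (Group.isSolvable_of_comm mul_comm')) hm
  have hxX : x ∈ X := hX1 ▸ hx
  rw [hadd x (hXM hxX) c' (hM1M hc'.1) u huM, hv0, (hperp x hxX u huM hua).1]
  rcases hC1two c' hc' with rfl | rfl
  · have h1 := hadd 1 M.one_mem 1 M.one_mem u huM
    rw [mul_one] at h1
    rw [left_eq_add.mp h1]; simp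
  · rw [halt _ huM]; simp

end Cfsg.Agent.Grp.Turull
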