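import Mathlib
import Cfsg.Agent.Lib.Grp.TurullHeight.Symplectic
import Cfsg.Agent.Lib.Grp.HallHigmanGroup

/-!
A two-group with an operator of order `r` without fixed points on a module where an element of the
derived group of the moved part is fixed-point-free: commutators with an invariant odd group lie in
the centre modulo the kernel.
-/

set_option autoImplicit false
set_option linter.unusedSectionVars false
set_option linter.style.haveILetI false

namespace Cfsg.Agent.Grp.Turull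

open Subgroup
open scoped commutatorElement

universe u

variable {G : Type u} [Group G]

theorem normalizer_le_normalizer_centralizer (W : Subgroup G) :
    normalizer (W : Set G) ≤ normalizer ((centralizer (W : Set G) : Subgroup G) : Set G) := by
  refine invariant_iff.mp fun g hg x hx => mem_centralizer_iff.mpr fun w hw => ?_
  have h1 := mem_centralizer_iff.mp hx _ (mem_conj_normalizer' hg hw)
  calc w * (g * x * g⁻¹) = g * ((g⁻¹ * w * g) * x) * g⁻¹ := by group
    _ = g * (x * (g⁻¹ * w * g)) * g⁻¹ := by rw [h1]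
    _ = g * x * g⁻¹ * w := by group

/-- The elements centralizing `P` modulo `K`. -/
def centMod (P K : Subgroup G) : Subgroup G where
  carrier := {y | y ∈ normalizer (P : Set G) ∧ y ∈ normalizer (K : Set G) ∧ ∀ g ∈ P, ⁅y, g⁆ ∈ K}
  one_mem' := ⟨one_mem _, one_mem _, fun g _ => by rw [commutatorElement_one_left]; exact one_mem _⟩
  mul_mem' := fun {x y} hx hy => ⟨mul_mem hx.1 hy.1, mul_mem hx.2.1 hy.2.1, fun g hg => by
    rw [commutatorElement_mul_left_eq_conj_mul]
    exact mul_mem (mem_conj_normalizer hx.2.1 (hy.2.2 g hg)) (hx.2.2 g hg)⟩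
  inv_mem' := fun {x} hx => ⟨inv_mem hx.1, inv_mem hx.2.1, fun g hg => by
    rw [commutatorElement_inv_left, ← commutatorElement_inv x g]
    exact mem_conj_normalizer' hx.2.1 (inv_mem (hx.2.2 g hg))⟩

theorem normalizer_inf_le_centMod (P K : Subgroup G) :
    normalizer (P : Set G) ⊓ normalizer (K : Set G) ≤ normalizer ((centMod P K : Subgroup G) : Set G) := by
  refine invariant_iff.mp fun g hg x hx => ?_
  refine ⟨mul_mem (mul_mem hg.1 hx.1) (inv_mem hg.1), mul_mem (mul_mem hg.2 hx.2.1) (inv_mem hg.2),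
    fun t ht => ?_⟩
  have h1 := mem_conj_normalizer hg.2 (hx.2.2 _ (mem_conj_normalizer' hg.1 ht))
  convert h1 using 1
  simp only [commutatorElement_def]
  group

theorem odd_inv_ne [Finite G] {s : ℕ} (hs : s.Prime) (hs2 : s ≠ 2) {W : Subgroup G}
    (hW : Cfsg.IsElementaryAbelian s W) {w : G} (hw : w ∈ W) (hw1 : w ≠ 1) : w⁻¹ ≠ w := by
  intro e
  refine hw1 ?_
  have h1 := pow_gcd_eq_one.mpr
    ⟨(show w ^ 2 = 1 by rw [sq]; nth_rewrite 1 [← e]; exact inv_mul_cancel w), hW.2 w hw⟩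
  rwa [((Nat.coprime_primes Nat.prime_two hs).mpr hs2.symm).gcd_eq_one, pow_one] at h1

set_option maxHeartbeats 1600000 in
/-- The exceptional configuration does not occur. -/
theorem exceptional_false [Finite G] {q s r : ℕ} (hq : q.Prime) (hs : s.Prime) (hr : r.Prime) (hq2 : q ≠ 2)
    (hs2 : s ≠ 2) (hr2 : r ≠ 2) (hsr : s ≠ r) (hqr : q ≠ r) {a : G} (har : a ^ r = 1) {P Q V : Subgroup G}
    (hP : IsPGroup 2 P) (hQ : IsPGroup q Q) (hV : Cfsg.IsElementaryAbelian s V)
    (haP : a ∈ normalizer (P : Set G)) (haQ : a ∈ normalizer (Q : Set G)) (haV : a ∈ normalizer (V : Set G))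
    (hQP : Q ≤ normalizer (P : Set G)) (hPV : P ≤ normalizer (V : Set G)) (hQV : Q ≤ normalizer (V : Set G))
    (hFc : ∀ f ∈ phi P, ∀ g ∈ P, f * g = g * f) (hQF : ∀ f ∈ phi P, ∀ y ∈ Q, f * y = y * f)
    (hYV : ∀ y ∈ ⁅phi P, zpowers a⁆, ∀ w ∈ V, y * w = w * y)
    (hQa : Q ≤ ⁅Q, zpowers a⁆ ⊔ (Q ⊓ centralizer (P : Set G)))
    {z c f' : G} (hzP : z ∈ P) (hc : c ∈ P) (hz : z ∈ ⁅P, Q⁆ ⊔ phi P)
    (hφ : ∀ w ∈ V, ⁅z, c⁆ * w = w * ⁅z, c⁆ → w = 1)
    (hf'B : f' ∈ ⁅⁅P, zpowers a⁆, ⁅P, zpowers a⁆⁆) (hf' : ∀ w ∈ V, f' * w = w * f' → w = 1)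
    (hfix : ∀ w ∈ V, a * w = w * a → w = 1) (hV0 : V ≠ ⊥) : False := by
  classical
  haveI := Fact.mk Nat.prime_two
  haveI := Fact.mk hq
  haveI := Fact.mk hs
  obtain ⟨W, ⟨hWV, hW0, hPW, hQW, haW⟩, hmin⟩ := (wellFounded_lt (α := Subgroup G)).has_min
    {W : Subgroup G | W ≤ V ∧ W ≠ ⊥ ∧ P ≤ normalizer (W : Set G) ∧ Q ≤ normalizer (W : Set G) ∧
      a ∈ normalizer (W : Set G)}
    ⟨V, le_rfl, hV0, hPV, hQV, haV⟩
  have hWel := elemAb_mono hV hWV
  have hAP := zpowers_le_normalizer haP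
  have hAW := zpowers_le_normalizer haW
  set B := ⁅P, zpowers a⁆ with hB
  have hBP : B ≤ P := commutator_le_left_of_le_normalizer hAP
  have haB : a ∈ normalizer (B : Set G) := normalizer_commutator hAP le_normalizer (mem_zpowers a)
  have hPP : ⁅P, P⁆ ≤ phi P := commutator_le_phi Nat.prime_two hP
  -- the kernel
  set K := P ⊓ centralizer (W : Set G) with hK
  have hKn : ∀ H : Subgroup G, H ≤ normalizer (P : Set G) → H ≤ normalizer (W : Set G) →
      H ≤ normalizer (K : Set G) := fun H h1 h2 =>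
    le_normalizer_inf' h1 (h2.trans (normalizer_le_normalizer_centralizer W))
  have hPK : P ≤ normalizer (K : Set G) := hKn P le_normalizer hPW
  have hQK : Q ≤ normalizer (K : Set G) := hKn Q hQP hQW
  have hAK : zpowers a ≤ normalizer (K : Set G) := hKn _ hAP hAW
  have hWs : ∀ u ∈ W, ∀ v ∈ W, u * v = v * u := elemAb_comm hWel
  -- elements of the derived group square to one
  have hsq : ∀ e ∈ ⁅P, P⁆, e * e = 1 := by
    let S : Subgroup G :=
      { carrier := {e | e ∈ phi P ∧ e * e = 1}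
        one_mem' := ⟨one_mem _, by rw [mul_one]⟩
        mul_mem' := fun {x y} hx hy => ⟨mul_mem hx.1 hy.1, by
          calc x * y * (x * y) = x * (y * x) * y := by group
            _ = x * (x * y) * y := by rw [hFc y hy.1 x (phi_le P hx.1)]
            _ = (x * x) * (y * y) := by group
            _ = 1 := by rw [hx.2, hy.2, mul_one]⟩
        inv_mem' := fun {x} hx => ⟨inv_mem hx.1, by rw [← mul_inv_rev, hx.2, inv_one]⟩ }
    have hle : ⁅P, P⁆ ≤ S := by
      rw [Subgroup.commutator_le]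
      intro x hx y hy
      have hxy := hPP (commutator_mem_commutator hx hy)
      refine ⟨hxy, ?_⟩
      have h1 : ⁅x * x, y⁆ = 1 :=
        commutatorElement_eq_one_iff_mul_comm.mpr (hFc _ (sq x ▸ pow_mem_phi Nat.prime_two hP hx) y hy)
      rwa [commutatorElement_mul_left_eq_conj_mul, ← hFc _ hxy x hx, mul_inv_cancel_right] at h1
    exact fun e he => (hle he).2
  -- they are scalars on `W`
  have hdich : ∀ e ∈ ⁅P, P⁆, e ∈ centralizer (W : Set G) ∨ ∀ w ∈ W, e * w * e⁻¹ = w⁻¹ := by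
    intro e he
    have heF := hPP he
    have heP := phi_le P heF
    have hYW : ∀ y ∈ ⁅phi P, zpowers a⁆, ∀ w ∈ W, y * w = w * y := fun y hy w hw => hYV y hy w (hWV hw)
    set U := W ⊓ centralizer ({e} : Set G) with hU
    have hinvU : ∀ g, g ∈ normalizer (W : Set G) → (∀ w ∈ W, g * e * g⁻¹ * w = w * (g * e * g⁻¹) ↔ e * w = w * e) →
        ∀ x ∈ U, g * x * g⁻¹ ∈ U := by
      intro g hg hact x hx
      refine ⟨mem_conj_normalizer hg hx.1, mem_centralizer_singleton_iff.mpr ?_⟩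
      have h1 := (hact (g * x * g⁻¹) (mem_conj_normalizer hg hx.1)).mp ?_
      · exact h1.symm
      · calc g * e * g⁻¹ * (g * x * g⁻¹) = g * (e * x) * g⁻¹ := by group
          _ = g * (x * e) * g⁻¹ := by rw [mem_centralizer_singleton_iff.mp hx.2]
          _ = g * x * g⁻¹ * (g * e * g⁻¹) := by group
    have hPU : P ≤ normalizer (U : Set G) := invariant_iff.mp fun g hg =>
      hinvU g (hPW hg) fun w _ => by rw [← hFc e heF g hg, mul_inv_cancel_right]
    have hQU : Q ≤ normalizer (U : Set G) := invariant_iff.mp fun g hg =>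
      hinvU g (hQW hg) fun w _ => by rw [← hQF e heF g hg, mul_inv_cancel_right]
    have haU : zpowers a ≤ normalizer (U : Set G) := invariant_iff.mp fun g hg =>
      hinvU g (hAW hg) fun w hw => by
        have hy : ⁅e, g⁆ ∈ ⁅phi P, zpowers a⁆ := commutator_mem_commutator heF hg
        have hy' := hYW _ (inv_mem hy)
        have heW : e * w * e⁻¹ ∈ W := mem_conj_normalizer (hPW heP) hw
        have e1 : g * e * g⁻¹ = ⁅e, g⁆⁻¹ * e := by rw [commutatorElement_def]; group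
        have e2 : ⁅e, g⁆⁻¹ * e * w * (⁅e, g⁆⁻¹ * e)⁻¹ = e * w * e⁻¹ := by
          calc ⁅e, g⁆⁻¹ * e * w * (⁅e, g⁆⁻¹ * e)⁻¹ = (⁅e, g⁆⁻¹ * (e * w * e⁻¹)) * ⁅e, g⁆ := by group
            _ = ((e * w * e⁻¹) * ⁅e, g⁆⁻¹) * ⁅e, g⁆ := by rw [hy' _ heW]
            _ = e * w * e⁻¹ := inv_mul_cancel_right _ _
        rw [e1, ← mul_inv_eq_iff_eq_mul, e2, mul_inv_eq_iff_eq_mul]
    by_cases hU0 : U = ⊥
    · refine Or.inr fun w hw => ?_
      have hcw : e * w * e⁻¹ ∈ W := mem_conj_normalizer (hPW heP) hw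
      have hmem : w * (e * w * e⁻¹) ∈ U := by
        refine ⟨mul_mem hw hcw, mem_centralizer_singleton_iff.mpr ?_⟩
        have e2 : e⁻¹ = e := inv_eq_of_mul_eq_one_right (hsq e he)
        calc w * (e * w * e⁻¹) * e = w * (e * w) := by group
          _ = (e * e) * (w * (e * w)) := by rw [hsq e he, one_mul]
          _ = e * ((e * w * e) * w) := by group
          _ = e * ((e * w * e⁻¹) * w) := by rw [e2]
          _ = e * (w * (e * w * e⁻¹)) := by rw [hWs _ hcw _ hw]
      rw [hU0, mem_bot] at hmem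
      exact eq_inv_of_mul_eq_one_right hmem
    · refine Or.inl (mem_centralizer_iff.mpr fun w hw => ?_)
      have hUW : U = W := (inf_le_left : U ≤ W).eq_or_lt.resolve_right fun hlt =>
        hmin U ⟨inf_le_left.trans hWV, hU0, hPU, hQU, haU (mem_zpowers a)⟩ hlt
      exact mem_centralizer_singleton_iff.mp ((hUW.ge hw : w ∈ U).2)
  have hinvol : ∀ e ∈ ⁅P, P⁆, ∀ e' ∈ ⁅P, P⁆, e ∉ K → e' ∉ K → e * e' ∈ K := by
    intro e he e' he' heK heK'
    have hP1 : ∀ e ∈ ⁅P, P⁆, e ∉ K → ∀ w ∈ W, e * w * e⁻¹ = w⁻¹ := fun e he heK =>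
      (hdich e he).resolve_left fun h => heK ⟨phi_le P (hPP he), h⟩
    refine ⟨mul_mem (phi_le P (hPP he)) (phi_le P (hPP he')), mem_centralizer_iff.mpr fun w hw => ?_⟩
    have h1 : e * (e' * w * e'⁻¹) * e⁻¹ = w := by
      rw [hP1 e' he' heK' w hw, hP1 e he heK _ (inv_mem hw), inv_inv]
    calc w * (e * e') = e * (e' * w * e'⁻¹) * e⁻¹ * (e * e') := by rw [h1]
      _ = e * e' * w := by group
  have hφK : ⁅z, c⁆ ∉ K := fun h => by
    obtain ⟨w, hw, hw1⟩ := (Subgroup.bot_or_exists_ne_one W).resolve_left hW0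
    exact hw1 (hφ w (hWV hw) (mem_centralizer_iff.mp h.2 w hw).symm)
  have hf'P : f' ∈ ⁅P, P⁆ := commutator_mono hBP hBP hf'B
  have hf'K : f' ∉ K := fun h => by
    obtain ⟨w, hw, hw1⟩ := (Subgroup.bot_or_exists_ne_one W).resolve_left hW0
    exact hw1 (hf' w (hWV hw) (mem_centralizer_iff.mp h.2 w hw).symm)
  -- the centre modulo the kernel
  set R := P ⊓ centMod P K with hR
  have hnR : ∀ H : Subgroup G, H ≤ normalizer (P : Set G) → H ≤ normalizer (K : Set G) →
      H ≤ normalizer (R : Set G) := fun H h1 h2 =>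
    le_normalizer_inf' h1 ((le_inf h1 h2).trans (normalizer_inf_le_centMod P K))
  have hPR : P ≤ normalizer (R : Set G) := hnR P le_normalizer hPK
  have hQR : Q ≤ normalizer (R : Set G) := hnR Q hQP hQK
  have hAR : zpowers a ≤ normalizer (R : Set G) := hnR _ hAP hAK
  have hmemR : ∀ x ∈ P, (∀ h ∈ P, ⁅x, h⁆ ∈ K) → x ∈ R := fun x hx h => ⟨hx, le_normalizer hx, hPK hx, h⟩
  have hFR : phi P ≤ R := fun f hf => hmemR f (phi_le P hf) fun h hh => by
    rw [commutatorElement_eq_one_iff_mul_comm.mpr (hFc f hf h hh)]; exact one_mem _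
  have hKR : K ≤ R := fun x hx => hmemR x hx.1 fun h hh => by
    rw [commutatorElement_def, show x * h * x⁻¹ * h⁻¹ = x * (h * x⁻¹ * h⁻¹) by group]
    exact mul_mem hx (mem_conj_normalizer (hPK hh) (inv_mem hx))
  -- bilinearity
  have hmulL : ∀ x ∈ P, ∀ y ∈ P, ∀ w ∈ P, ⁅x * y, w⁆ = ⁅y, w⁆ * ⁅x, w⁆ := fun x hx y hy w hw => by
    rw [commutatorElement_mul_left_eq_conj_mul, ← hFc _ (hPP (commutator_mem_commutator hy hw)) x hx,
      mul_inv_cancel_right]
  have hswapK : ∀ x ∈ P, ∀ y ∈ P, ⁅y, x⁆ ∈ K → ⁅x, y⁆ ∈ K := fun x _ y _ h => by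
    rw [← commutatorElement_inv]; exact inv_mem h
  -- the moved part is orthogonal to fixed points
  have hperp0 : ∀ x ∈ B, ∀ d ∈ P, a * d = d * a → ⁅x, d⁆ ∈ K := by
    intro x hx d hd had
    let T : Subgroup G :=
      { carrier := {x | x ∈ P ∧ ⁅x, d⁆ ∈ K}
        one_mem' := ⟨one_mem _, by rw [commutatorElement_one_left]; exact one_mem _⟩
        mul_mem' := fun {x y} hx hy => ⟨mul_mem hx.1 hy.1, by
          rw [hmulL x hx.1 y hy.1 d hd]; exact mul_mem hy.2 hx.2⟩
        inv_mem' := fun {x} hx => ⟨inv_mem hx.1, by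
          have h1 := hmulL x hx.1 x⁻¹ (inv_mem hx.1) d hd
          rw [mul_inv_cancel, commutatorElement_one_left] at h1
          rw [eq_inv_of_mul_eq_one_left h1.symm]
          exact inv_mem hx.2⟩ }
    have hle : B ≤ T := by
      rw [hB, Subgroup.commutator_le]
      intro g hg t ht
      have hm : t * g⁻¹ * t⁻¹ ∈ P := mem_conj_normalizer (hAP ht) (inv_mem hg)
      have hgt : ⁅g, t⁆ = g * (t * g⁻¹ * t⁻¹) := by rw [commutatorElement_def]; group
      refine ⟨hgt ▸ mul_mem hg hm, ?_⟩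
      rw [hgt, hmulL g hg _ hm d hd]
      have e1 : ⁅t * g⁻¹ * t⁻¹, d⁆ = t * ⁅g⁻¹, d⁆ * t⁻¹ := by
        rw [conjugate_commutatorElement, commute_zpowers' had ht, mul_inv_cancel_right]
      have heP : ⁅g⁻¹, d⁆ ∈ phi P := hPP (commutator_mem_commutator (inv_mem hg) hd)
      have hy : ⁅⁅g⁻¹, d⁆, t⁆ ∈ ⁅phi P, zpowers a⁆ := commutator_mem_commutator heP ht
      have hy' : ⁅⁅g⁻¹, d⁆, t⁆ ∈ K :=
        ⟨phi_le P (commutator_le_left_of_le_normalizer
          (zpowers_le_normalizer (normalizer_le_phi P haP)) hy),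
          mem_centralizer_iff.mpr fun w hw => (hYV _ hy w (hWV hw)).symm⟩
      rw [e1, show t * ⁅g⁻¹, d⁆ * t⁻¹ * ⁅g, d⁆ =
        ⁅⁅g⁻¹, d⁆, t⁆⁻¹ * (⁅g⁻¹, d⁆ * ⁅g, d⁆) by simp only [commutatorElement_def]; group]
      refine mul_mem (inv_mem hy') ?_
      rw [← hmulL g hg g⁻¹ (inv_mem hg) d hd, mul_inv_cancel, commutatorElement_one_left]
      exact one_mem _
    exact (hle hx).2
  have hcA : (Nat.card (zpowers a)).Coprime (Nat.card P) :=
    coprime_zpowers har hr (not_dvd_card_of_pGroup Nat.prime_two hr hr2.symm hP)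
  have hdecP : ∀ h ∈ P, ∃ m ∈ B, ∃ d ∈ P, a * d = d * a ∧ h = m * d := fun h hh => by
    obtain ⟨m, hm, d, hd, e⟩ := exists_commutator_mul_fixed (zpowers a) P hAP hcA
      (Or.inl (Group.isSolvable_of_comm mul_comm')) hh
    exact ⟨m, hm, d, (mem_fixed.mp hd).1, (mem_fixed.mp hd).2, e⟩
  have hmulR : ∀ x ∈ P, ∀ y ∈ P, ∀ w ∈ P, ⁅x, y * w⁆ = ⁅x, y⁆ * ⁅x, w⁆ := fun x hx y hy w hw => by
    rw [← commutatorElement_inv (y * w) x, hmulL y hy w hw x hx, mul_inv_rev, commutatorElement_inv,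
      commutatorElement_inv]
  have hBR : ∀ g ∈ B, (∀ m ∈ B, ⁅g, m⁆ ∈ K) → g ∈ R := fun g hg h => by
    refine hmemR g (hBP hg) fun x hx => ?_
    obtain ⟨m, hm, d, hd, had, rfl⟩ := hdecP x hx
    rw [hmulR g (hBP hg) m (hBP hm) d hd]
    exact mul_mem (h m hm) (hperp0 g hg d hd had)
  -- the moved part acts on `W`
  set H := normalizer (K : Set G) ⊓ normalizer (W : Set G) with hH
  haveI : (K.subgroupOf H).Normal :=
    (Subgroup.normal_subgroupOf_iff_le_normalizer (le_inf le_normalizer ((inf_le_left : K ≤ P).trans hPW))).mpr inf_le_left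
  have hPH : P ≤ H := le_inf hPK hPW
  have haH : a ∈ H := ⟨hAK (mem_zpowers a), haW⟩
  have hWH : W ≤ H := le_inf (le_normalizer_of_commute fun w hw k hk => mem_centralizer_iff.mp hk.2 w hw)
    le_normalizer
  set Z := B ⊓ R with hZ
  have hZa : ∀ x ∈ Z, ∀ t ∈ zpowers a, ⁅x, t⁆ ∈ K := by
    have h1 : ⁅Z, zpowers a⁆ ≤ centralizer (W : Set G) := by
      refine fpf_image_abelian_le hs Nat.prime_two hr hs2 hsr hr2.symm har (hP.to_le (inf_le_left.trans hBP))
        (le_normalizer_inf' (zpowers_le_normalizer haB) hAR (mem_zpowers a)) hWel haW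
        ((inf_le_left.trans hBP).trans hPW) ?_ fun w hw => hfix w (hWV hw)
      rw [Subgroup.commutator_le]
      exact fun x hx y hy => (hx.2.2.2.2 y (hBP hy.1)).2
    intro x hx t ht
    exact ⟨hBP (commutator_le_left_of_le_normalizer (zpowers_le_normalizer haB)
      (commutator_mem_commutator hx.1 ht)), h1 (commutator_mem_commutator hx ht)⟩
  have hWK : ∀ w ∈ W, w ∈ K → w = 1 := fun w hw hwK => by
    have h1 : w ∈ W ⊓ P := ⟨hw, hwK.1⟩
    rwa [inf_eq_bot_of_coprime (IsPGroup.coprime_card_of_ne s 2 hs2 _ _ (elemAb_isPGroup hWel) hP),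
      mem_bot] at h1
  set Wi := img H K W with hWi
  set Bi := img H K B with hBi
  set Zi := img H K Z with hZi
  set ai := el H K a haH with hai
  set fi := el H K f' (hPH (phi_le P (hPP hf'P))) with hfi
  have hai' : ai ^ r = 1 := by rw [hai, ← el_pow, el_eq_one, har]; exact one_mem K
  have hWiel : Cfsg.IsElementaryAbelian s Wi :=
    img_elemAb (fun x hx _ => by rw [hWel.2 x hx]; exact one_mem K) fun x hx y hy => by
      rw [commutatorElement_eq_one_iff_mul_comm.mpr (hWs x hx y hy)]; exact one_mem K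
  have hWifix : Wi ⊓ centralizer ({ai} : Set _) = ⊥ := by
    refine (Subgroup.eq_bot_iff_forall _).mpr fun g hg => ?_
    obtain ⟨w, hw, hwW, rfl⟩ := exists_of_mem_img hg.1
    have h1 := mem_centralizer_singleton_iff.mp hg.2
    rw [hai, el_commute_iff] at h1
    have h2 : ⁅w, a⁆ = 1 := hWK _
      (commutator_le_left_of_le_normalizer hAW (commutator_mem_commutator hwW (mem_zpowers a))) h1
    rw [el_eq_one, hfix w (hWV hwW) (commutatorElement_eq_one_iff_mul_comm.mp h2).symm]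
    exact one_mem K
  have hfiW : ∃ v ∈ Wi, fi * v ≠ v * fi := by
    obtain ⟨w, hw, hw1⟩ := (Subgroup.bot_or_exists_ne_one W).resolve_left hW0
    refine ⟨el H K w (hWH hw), el_mem_img _ hw, fun h => hw1 ?_⟩
    rw [hfi, el_commute_iff] at h
    refine hf' w (hWV hw) (commutatorElement_eq_one_iff_mul_comm.mp (hWK _ ?_ h))
    rw [← commutatorElement_inv]
    exact inv_mem (commutator_le_left_of_le_normalizer hPW
      (commutator_mem_commutator hw (phi_le P (hPP hf'P))))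
  have hnd : ∀ ω : (↥H ⧸ K.subgroupOf H) → AlgebraicClosure (ZMod s),
      (∀ u ∈ Zi, ∀ v ∈ Zi, ω (u * v) = ω u * ω v) → ω fi ≠ 1 → ∀ g ∈ Bi, g ∉ Zi → ∃ t ∈ Bi, ω ⁅t, g⁆ ≠ 1 := by
    intro ω _ hω g hg hgZ
    obtain ⟨x, hx, hxB, rfl⟩ := exists_of_mem_img hg
    obtain ⟨m, hm, hmK⟩ : ∃ m ∈ B, ⁅x, m⁆ ∉ K := by
      by_contra hcon
      push Not at hcon
      exact hgZ (el_mem_img hx ⟨hxB, hBR x hxB hcon⟩)
    refine ⟨el H K m (hPH (hBP hm)), el_mem_img _ hm, ?_⟩
    rw [el_commutator]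
    convert hω using 2
    rw [hfi, el_eq_el]
    have h1 : ⁅m, x⁆ ∉ K := fun h => hmK (hswapK x (hBP hxB) m (hBP hm) h)
    exact hinvol _ (inv_mem (commutator_mem_commutator (hBP hm) (hBP hxB))) _ hf'P
      (fun h => h1 (inv_inv ⁅m, x⁆ ▸ inv_mem h)) hf'K
  have hfree : ∀ i, 0 < i → i < r → ∀ g ∈ Bi, g⁻¹ * (ai ^ i * g * (ai ^ i)⁻¹) ∈ Zi → g ∈ Zi := by
    intro i hi0 hir g hg h
    obtain ⟨x, hx, hxB, rfl⟩ := exists_of_mem_img hg
    rw [hai, ← el_pow, ← el_inv (pow_mem haH i), ← el_mul (pow_mem haH i) hx, ← el_mul, ← el_inv hx, ← el_mul,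
      el_mem_img_iff] at h
    obtain ⟨y, hyZ, -, hyK⟩ := h
    have hxR : x⁻¹ * (a ^ i * x * (a ^ i)⁻¹) ∈ R := by
      have h1 := R.mul_mem hyZ.2 (hKR hyK)
      rwa [mul_inv_cancel_left] at h1
    have har' : (a ^ i) ^ r = 1 := by rw [← pow_mul, mul_comm, pow_mul, har, one_pow]
    obtain ⟨d, hd, had⟩ := exists_fixed_in_coset hr har' R (Subgroup.pow_mem _ (hAR (mem_zpowers a)) i)
      (not_dvd_card_of_pGroup Nat.prime_two hr hr2.symm (hP.to_le inf_le_left)) hxR
    have had' : a * d = d * a := by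
      obtain ⟨j, hj⟩ : ∃ j, (a ^ i) ^ j = a := by
        refine exists_pow_eq_self_of_coprime ((Nat.Coprime.symm ?_).coprime_dvd_right (orderOf_dvd_of_pow_eq_one har))
        exact hr.coprime_iff_not_dvd.mpr (Nat.not_dvd_of_pos_of_lt hi0 hir)
      rw [← hj]
      exact ((show Commute (a ^ i) d from had).pow_left j).eq
    have hdP : d ∈ P := by
      have h1 := P.mul_mem (hBP hxB) hd.1
      rwa [mul_inv_cancel_left] at h1
    refine el_mem_img hx ⟨hxB, hBR x hxB fun m hm => ?_⟩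
    have e : x = d * (x⁻¹ * d)⁻¹ := by group
    rw [e, hmulL d hdP _ (inv_mem hd.1) m (hBP hm)]
    exact mul_mem ((inv_mem hd).2.2.2 m (hBP hm)) (hswapK d hdP m (hBP hm) (hperp0 m hm d hdP had'))
  obtain ⟨d, hd, -, hd1⟩ := hallHigman_central (h := r) hs2 hr.two_le
    (fun h => hsr ((Nat.prime_dvd_prime_iff_eq hs hr).mp h)) Wi Bi Zi ai hWiel
    (img_le_normalizer (hBP.trans hPW)) (el_mem_normalizer haH haW) (el_mem_normalizer haH haB) hai'
    (fun u hu => by
      obtain ⟨x, hx, hxZ, rfl⟩ := exists_of_mem_img hu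
      exact ((el_commute_iff hx haH).mpr (hZa x hxZ a (mem_zpowers a))).symm)
    (img_mono inf_le_left)
    (fun u hu g hg => by
      obtain ⟨x, hx, hxZ, rfl⟩ := exists_of_mem_img hu
      obtain ⟨y, hy, hyB, rfl⟩ := exists_of_mem_img hg
      exact ((el_commute_iff hx hy).mpr (hxZ.2.2.2.2 y (hBP hyB))).symm)
    (fun g hg t ht => by
      obtain ⟨x, hx, hxB, rfl⟩ := exists_of_mem_img hg
      obtain ⟨y, hy, hyB, rfl⟩ := exists_of_mem_img ht
      rw [el_commutator]
      exact el_mem_img _ ⟨Subgroup.commutator_le_self B (commutator_mem_commutator hyB hxB),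
        hFR (hPP (commutator_mem_commutator (hBP hyB) (hBP hxB)))⟩)
    (z := fi) (el_mem_img _ ⟨Subgroup.commutator_le_self B hf'B, hFR (hPP hf'P)⟩)
    (by rw [hfi, ← el_pow, el_eq_one, sq, hsq f' hf'P]; exact one_mem K) hfiW hnd hfree
  have hZB : Zi < Bi := by
    refine (img_mono inf_le_left).lt_of_ne fun e => hf'K ?_
    have h1 : ∀ x ∈ B, x ∈ R := fun x hx => by
      have h2 := el_mem_img (K := K) (hPH (hBP hx)) hx
      rw [show img H K B = Zi from e.symm, hZi, el_mem_img_iff] at h2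
      obtain ⟨y, hy, -, hyK⟩ := h2
      have h3 := R.mul_mem hy.2 (hKR hyK)
      rwa [mul_inv_cancel_left] at h3
    have h2 : ⁅B, B⁆ ≤ K := by
      rw [Subgroup.commutator_le]
      exact fun x hx y hy => (h1 x hx).2.2.2 y (hBP hy)
    exact h2 hf'B
  have hdr : d + 1 = r := hd1 hWifix hZB
  have hindex : R.relIndex B = d * d := by
    have h1 := Subgroup.card_mul_index (Zi.subgroupOf Bi)
    rw [Nat.card_congr (Subgroup.subgroupOfEquivOfLe (img_mono inf_le_left : Zi ≤ Bi)).toEquiv,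
      ← Subgroup.relIndex, ← hd, card_img ((inf_le_left.trans hBP).trans hPH), card_img (hBP.trans hPH)] at h1
    have h2 : K.relIndex Z * R.relIndex B = K.relIndex B := by
      have h3 := Subgroup.relIndex_mul_relIndex (B ⊓ K) Z B (le_inf inf_le_left (inf_le_right.trans hKR))
        inf_le_left
      have e1 : (B ⊓ K).relIndex Z = K.relIndex Z := by
        rw [← Subgroup.inf_relIndex_right (B ⊓ K) Z, ← Subgroup.inf_relIndex_right K Z, hZ]
        congr 1
        ext x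
        simp only [Subgroup.mem_inf]
        tauto
      have e2 : Z.relIndex B = R.relIndex B := by rw [hZ, inf_comm, Subgroup.inf_relIndex_right]
      have e3 : (B ⊓ K).relIndex B = K.relIndex B := by rw [inf_comm, Subgroup.inf_relIndex_right]
      rwa [e1, e2, e3] at h3
    have h0 : K.relIndex Z ≠ 0 := fun e => by
      have h3 := K.relIndex_dvd_card Z
      rw [e, zero_dvd_iff] at h3
      exact Nat.card_pos.ne' h3
    exact mul_left_cancel₀ h0 (h2.trans h1.symm)
  obtain ⟨n, hn, hdn⟩ : ∃ n, 1 ≤ n ∧ d = 2 ^ n := by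
    obtain ⟨N, hN⟩ := (hP.to_le hBP).exists_card_eq
    have hdvd : d ∣ 2 ^ N := by
      rw [← hN]
      exact (Dvd.intro d hindex.symm).trans (R.relIndex_dvd_card B)
    obtain ⟨n, -, rfl⟩ := (Nat.dvd_prime_pow Nat.prime_two).mp hdvd
    refine ⟨n, Nat.one_le_iff_ne_zero.mpr fun e => ?_, rfl⟩
    rw [e, pow_zero] at hdr
    exact hr2 hdr.symm
  -- the space modulo the centre
  set H' := normalizer (R : Set G) with hH'
  haveI : (R.subgroupOf H').Normal :=
    (Subgroup.normal_subgroupOf_iff_le_normalizer le_normalizer).mpr le_rfl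
  have haH' : a ∈ H' := hAR (mem_zpowers a)
  have hai2 : el H' R a haH' ^ r = 1 := by rw [← el_pow, el_eq_one, har]; exact one_mem R
  let β : G → G → ZMod 2 := fun x y => if ⁅x, y⁆ ∈ K then 0 else 1
  have hβ : ∀ x y, ⁅x, y⁆ ∈ K → β x y = 0 := fun x y h => if_pos h
  have hβ' : ∀ x y, ⁅x, y⁆ ∉ K → β x y = 1 := fun x y h => if_neg h
  have hβmul : ∀ e e' e'' : G, e ∈ ⁅P, P⁆ → e' ∈ ⁅P, P⁆ → e'' = e' * e →
      (if e'' ∈ K then (0 : ZMod 2) else 1) = (if e ∈ K then 0 else 1) + (if e' ∈ K then 0 else 1) := by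
    intro e e' e'' he he' h
    subst h
    by_cases h1 : e ∈ K
    · rw [if_pos h1, zero_add]
      exact if_congr ⟨fun h2 => by simpa using mul_mem h2 (inv_mem h1), fun h2 => mul_mem h2 h1⟩ rfl rfl
    · by_cases h2 : e' ∈ K
      · rw [if_pos h2, add_zero]
        exact if_congr ⟨fun h3 => by simpa using mul_mem (inv_mem h2) h3, fun h3 => mul_mem h2 h3⟩ rfl rfl
      · rw [if_neg h1, if_neg h2, if_pos (hinvol e' he' e he h2 h1)]
        rfl
  have hβL : ∀ x ∈ P, ∀ y ∈ P, ∀ w ∈ P, β (x * y) w = β x w + β y w := fun x hx y hy w hw =>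
    hβmul _ _ _ (commutator_mem_commutator hx hw) (commutator_mem_commutator hy hw) (hmulL x hx y hy w hw)
  have hβR : ∀ x ∈ P, ∀ y ∈ P, ∀ w ∈ P, β w (x * y) = β w x + β w y := fun x hx y hy w hw => by
    rw [add_comm]
    exact hβmul _ _ _ (commutator_mem_commutator hw hy) (commutator_mem_commutator hw hx) (hmulR w hw x hx y hy)
  have hβsymm : ∀ x ∈ P, ∀ y ∈ P, β x y = β y x := fun x hx y hy =>
    if_congr ⟨hswapK y hy x hx, hswapK x hx y hy⟩ rfl rfl
  let rep : ↥H' ⧸ R.subgroupOf H' → G := fun u => ((Quotient.out u : ↥H') : G)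
  have hrep : ∀ x (hx : x ∈ H'), x⁻¹ * rep (el H' R x hx) ∈ R := fun x hx =>
    (QuotientGroup.eq (s := R.subgroupOf H') (a := (⟨x, hx⟩ : ↥H'))
      (b := Quotient.out (el H' R x hx))).mp (QuotientGroup.out_eq' (el H' R x hx)).symm
  have hRβ : ∀ x ∈ P, ∀ ρ ∈ R, β ρ x = 0 := fun x hx ρ hρ => hβ _ _ (hρ.2.2.2 x hx)
  have hbel : ∀ x ∈ P, ∀ y ∈ P, ∀ (hx : x ∈ H') (hy : y ∈ H'),
      β (rep (el H' R x hx)) (rep (el H' R y hy)) = β x y := by
    intro x hxP y hyP hx hy
    have h1 := hrep x hx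
    have h2 := hrep y hy
    have e1 : rep (el H' R x hx) = x * (x⁻¹ * rep (el H' R x hx)) := (mul_inv_cancel_left _ _).symm
    have e2 : rep (el H' R y hy) = y * (y⁻¹ * rep (el H' R y hy)) := (mul_inv_cancel_left _ _).symm
    have hyρ : y * (y⁻¹ * rep (el H' R y hy)) ∈ P := mul_mem hyP h2.1
    rw [e1, e2, hβL x hxP _ h1.1 _ hyρ, hRβ _ hyρ _ h1, add_zero, hβR y hyP _ h2.1 x hxP,
      hβsymm x hxP _ h2.1, hRβ x hxP _ h2, add_zero]
  set Pi := img H' R P with hPi
  have hPH' : P ≤ H' := hPR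
  have hQH' : Q ≤ H' := hQR
  have hBH' : B ≤ H' := hBP.trans hPR
  have hAH' : zpowers a ≤ H' := hAR
  have hMel : Cfsg.IsElementaryAbelian 2 Pi :=
    img_elemAb (fun x hx _ => hFR (pow_mem_phi Nat.prime_two hP hx))
      fun x hx y hy => hFR (hPP (commutator_mem_commutator hx hy))
  have hX : img H' R B = ⁅Pi, zpowers (el H' R a haH')⁆ := by
    rw [hB, img_commutator hPH' hAH', img_zpowers haH']
  have hXcard : Nat.card ↥⁅Pi, zpowers (el H' R a haH')⁆ = 2 ^ n * 2 ^ n := by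
    rw [← hX, card_img hBH', hindex, hdn]
  let b : (↥H' ⧸ R.subgroupOf H') → (↥H' ⧸ R.subgroupOf H') → ZMod 2 := fun u v => β (rep u) (rep v)
  have hinvb : ∀ g (hg : g ∈ H'), g ∈ normalizer (P : Set G) → g ∈ normalizer (K : Set G) →
      ∀ u ∈ Pi, ∀ v ∈ Pi, b (el H' R g hg * u * (el H' R g hg)⁻¹) (el H' R g hg * v * (el H' R g hg)⁻¹) = b u v := by
    intro g hg hgP hgK u hu v hv
    obtain ⟨x, hx, hxP, rfl⟩ := exists_of_mem_img hu
    obtain ⟨y, hy, hyP, rfl⟩ := exists_of_mem_img hv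
    rw [← el_inv hg, ← el_mul hg hx, ← el_mul, ← el_mul hg hy, ← el_mul]
    show β _ _ = β _ _
    rw [hbel _ (mem_conj_normalizer hgP hxP) _ (mem_conj_normalizer hgP hyP), hbel x hxP y hyP]
    refine if_congr ?_ rfl rfl
    rw [← conjugate_commutatorElement]
    exact (Subgroup.mem_normalizer_iff.mp hgK ⁅x, y⁆).symm
  have hsymp : ⁅img H' R Q, zpowers (el H' R a haH')⁆ ≤ centralizer (Pi : Set _) := by
    refine symplectic_commutator_le hr hq hq2 hqr hai2 hn (by omega) hMel (img_isPGroup hQ)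
      (el_mem_normalizer haH' haP) (el_mem_normalizer haH' haQ) (img_le_normalizer hQP) hXcard b ?_ ?_ ?_ ?_ ?_ ?_
    · intro u hu v hv w hw
      obtain ⟨x, hx, hxP, rfl⟩ := exists_of_mem_img hu
      obtain ⟨y, hy, hyP, rfl⟩ := exists_of_mem_img hv
      obtain ⟨t, ht, htP, rfl⟩ := exists_of_mem_img hw
      rw [← el_mul hx hy]
      show β _ _ = β _ _ + β _ _
      rw [hbel _ (mul_mem hxP hyP) t htP, hbel x hxP t htP, hbel y hyP t htP, hβL x hxP y hyP t htP]
    · intro u hu v hv w hw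
      obtain ⟨x, hx, hxP, rfl⟩ := exists_of_mem_img hu
      obtain ⟨y, hy, hyP, rfl⟩ := exists_of_mem_img hv
      obtain ⟨t, ht, htP, rfl⟩ := exists_of_mem_img hw
      rw [← el_mul hx hy]
      show β _ _ = β _ _ + β _ _
      rw [hbel t htP _ (mul_mem hxP hyP), hbel t htP x hxP, hbel t htP y hyP, hβR x hxP y hyP t htP]
    · intro u hu
      obtain ⟨x, hx, hxP, rfl⟩ := exists_of_mem_img hu
      show β _ _ = 0
      rw [hbel x hxP x hxP]
      exact hβ _ _ (by rw [commutatorElement_self]; exact one_mem _)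
    · rintro g (rfl | hg) u hu v hv
      · exact hinvb a haH' haP (hAK (mem_zpowers a)) u hu v hv
      · obtain ⟨y, hy, hyQ, rfl⟩ := exists_of_mem_img hg
        exact hinvb y hy (hQP hyQ) (hQK hyQ) u hu v hv
    · intro u hu w hw hcom
      rw [← hX] at hu
      obtain ⟨x, hx, hxB, rfl⟩ := exists_of_mem_img hu
      obtain ⟨y, hy, hyP, rfl⟩ := exists_of_mem_img hw
      obtain ⟨d', hd'P, hd', hd'a⟩ := el_fixed_img hr har haH' haP (hAR (mem_zpowers a))
        (not_dvd_card_of_pGroup Nat.prime_two hr hr2.symm (hP.to_le inf_le_left)) hyP hy hcom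
      have hval : β x y = 0 := by
        have e : d' = y * (y⁻¹ * d') := (mul_inv_cancel_left _ _).symm
        have h1 : β x d' = 0 := hβ _ _ (hperp0 x hxB d' hd'P hd'a)
        rwa [e, hβR y hyP _ hd'.1 x (hBP hxB), hβsymm x (hBP hxB) _ hd'.1, hRβ x (hBP hxB) _ hd', add_zero] at h1
      show β _ _ = 0 ∧ β _ _ = 0
      rw [hbel x (hBP hxB) y hyP, hbel y hyP x (hBP hxB), hβsymm y hyP x (hBP hxB)]
      exact ⟨hval, hval⟩
    · intro u hu h
      obtain ⟨x, hx, hxP, rfl⟩ := exists_of_mem_img hu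
      rw [el_eq_one]
      refine hmemR x hxP fun y hy => hswapK x hxP y hy ?_
      by_contra hne
      have h1 := h _ (el_mem_img (hPH' hy) hy)
      change β _ _ = 0 at h1
      rw [hbel y hy x hxP, hβ' _ _ hne] at h1
      exact one_ne_zero h1
  -- commutators with `Q` lie in the centre modulo the kernel
  have hQT : Q ≤ centMod P R := by
    refine hQa.trans (sup_le ?_ fun y hy => ⟨hQP hy.1, hQR hy.1, fun g hg => ?_⟩)
    · intro y hy
      have hyQ := commutator_le_left_of_le_normalizer (zpowers_le_normalizer haQ) hy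
      refine ⟨hQP hyQ, hQR hyQ, fun g hg => ?_⟩
      have h1 : el H' R y (hQR hyQ) ∈ ⁅img H' R Q, zpowers (el H' R a haH')⁆ := by
        rw [← img_zpowers haH', ← img_commutator hQH' hAH']
        exact el_mem_img _ hy
      exact (el_commute_iff (hQR hyQ) (hPR hg)).mp
        (mem_centralizer_iff.mp (hsymp h1) _ (el_mem_img (hPR hg) hg)).symm
    · rw [commutatorElement_eq_one_iff_mul_comm.mpr (mem_centralizer_iff.mp hy.2 g hg).symm]
      exact one_mem _
  have hPQR : ⁅P, Q⁆ ≤ R := by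
    rw [Subgroup.commutator_le]
    intro g hg y hy
    rw [← commutatorElement_inv]
    exact inv_mem ((hQT hy).2.2 g hg)
  exact hφK ((sup_le hPQR hFR hz).2.2.2 c hc)

end Cfsg.Agent.Grp.Turull
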