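import Mathlib
import Cfsg.Agent.Lib.Grp.TurullHeight.Exceptional

/-!
The step through a level with central Frattini subgroup.
-/

set_option autoImplicit false
set_option linter.unusedSectionVars false
set_option linter.style.haveILetI false

namespace Cfsg.Agent.Grp.Turull

open Subgroup
open scoped commutatorElement

variable {G : Type*} [Group G]

/-- `z` moves the fixed points of the commutator part of a subgroup it centralizes. -/
def Good (a : G) (P V : Subgroup G) (z : G) : Prop :=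
  ∃ Y ≤ P, a ∈ normalizer (Y : Set G) ∧ Y ≤ ⁅Y, zpowers a⁆ ∧
    (∀ c ∈ Y, a * c = c * a → ∀ y ∈ Y, c * y = y * c) ∧ (∀ y ∈ Y, z * y = y * z) ∧
    ∃ v ∈ ⁅V, Y⁆, a * v = v * a ∧ z * v ≠ v * z

/-- If the commutators of `P` and `Q` centralize an invariant module on which a commutator of `z` is
fixed-point-free, the module is trivial. -/
theorem eq_bot_of_commutator [Finite G] {P Q W : Subgroup G} {z c : G}
    (hQP : Q ≤ normalizer (P : Set G)) (hPW : P ≤ normalizer (W : Set G))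
    (hFc : ∀ f ∈ phi P, ∀ g ∈ P, f * g = g * f) (hz : z ∈ ⁅P, Q⁆ ⊔ phi P) (hc : c ∈ P)
    (hPQ : ⁅P, Q⁆ ≤ centralizer (W : Set G)) (hfix : ∀ w ∈ W, ⁅z, c⁆ * w = w * ⁅z, c⁆ → w = 1) :
    W = ⊥ := by
  refine (Subgroup.eq_bot_iff_forall _).mpr fun w hw => hfix w hw ?_
  have hPQP : ⁅P, Q⁆ ≤ P := commutator_le_left_of_le_normalizer hQP
  let T : Subgroup G :=
    { carrier := {x | x ∈ P ∧ ∀ g ∈ P, ⁅x, g⁆ ∈ centralizer (W : Set G)}
      one_mem' := ⟨P.one_mem, fun g _ => by rw [commutatorElement_one_left]; exact one_mem _⟩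
      mul_mem' := fun {x y} hx hy => ⟨P.mul_mem hx.1 hy.1, fun g hg => by
        rw [commutatorElement_mul_left_eq_conj_mul]
        refine mul_mem ?_ (hx.2 g hg)
        rw [mem_centralizer_iff]
        intro v hv
        have h1 := mem_centralizer_iff.mp (hy.2 g hg) _ (mem_conj_normalizer' (hPW hx.1) hv)
        calc v * (x * ⁅y, g⁆ * x⁻¹) = x * ((x⁻¹ * v * x) * ⁅y, g⁆) * x⁻¹ := by group
          _ = x * (⁅y, g⁆ * (x⁻¹ * v * x)) * x⁻¹ := by rw [h1]
          _ = x * ⁅y, g⁆ * x⁻¹ * v := by group⟩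
      inv_mem' := fun {x} hx => ⟨P.inv_mem hx.1, fun g hg => by
        rw [commutatorElement_inv_left, ← commutatorElement_inv x g]
        rw [mem_centralizer_iff]
        intro v hv
        have h1 := mem_centralizer_iff.mp (inv_mem (hx.2 g hg)) _ (mem_conj_normalizer (hPW hx.1) hv)
        calc v * (x⁻¹ * ⁅x, g⁆⁻¹ * x) = x⁻¹ * ((x * v * x⁻¹) * ⁅x, g⁆⁻¹) * x := by group
          _ = x⁻¹ * (⁅x, g⁆⁻¹ * (x * v * x⁻¹)) * x := by rw [h1]
          _ = x⁻¹ * ⁅x, g⁆⁻¹ * x * v := by group⟩ }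
  have hle : ⁅P, Q⁆ ⊔ phi P ≤ T := by
    refine sup_le (fun x hx => ⟨hPQP hx, fun g hg => ?_⟩) (fun f hf => ⟨phi_le P hf, fun g hg => ?_⟩)
    · rw [mem_centralizer_iff]
      intro v hv
      have h1 := mem_centralizer_iff.mp (hPQ hx)
      calc v * (x * g * x⁻¹ * g⁻¹) = (v * x) * g * x⁻¹ * g⁻¹ := by group
        _ = (x * v) * g * x⁻¹ * g⁻¹ := by rw [h1 v hv]
        _ = x * g * ((g⁻¹ * v * g) * x⁻¹) * g⁻¹ := by group
        _ = x * g * (x⁻¹ * (g⁻¹ * v * g)) * g⁻¹ := by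
          rw [mem_centralizer_iff.mp (inv_mem (hPQ hx)) _ (mem_conj_normalizer' (hPW hg) hv)]
        _ = x * g * x⁻¹ * g⁻¹ * v := by group
    · rw [commutatorElement_eq_one_iff_mul_comm.mpr (hFc f hf g hg)]
      exact one_mem _
  exact (mem_centralizer_iff.mp ((hle hz).2 c hc) w hw).symm

/-- The step for a level with central Frattini subgroup. -/
theorem good_of_central [Finite G] {p q s r : ℕ} (hp : p.Prime) (hq : q.Prime) (hs : s.Prime) (hr : r.Prime)
    (hsp : s ≠ p) (hpr : p ≠ r) (hsr : s ≠ r) (hqr : q ≠ r) (hpq : p ≠ q)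
    {a : G} (har : a ^ r = 1) {P Q V : Subgroup G} (hP : IsPGroup p P) (hQ : IsPGroup q Q)
    (hV : Cfsg.IsElementaryAbelian s V) (haP : a ∈ normalizer (P : Set G))
    (haQ : a ∈ normalizer (Q : Set G)) (haV : a ∈ normalizer (V : Set G))
    (hQP : Q ≤ normalizer (P : Set G)) (hPV : P ≤ normalizer (V : Set G)) (hQV : Q ≤ normalizer (V : Set G))
    (hfaith : P ⊓ centralizer (V : Set G) = ⊥)
    (hFc : ∀ f ∈ phi P, ∀ g ∈ P, f * g = g * f) (hQF : ∀ f ∈ phi P, ∀ y ∈ Q, f * y = y * f)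
    (hQa : Q ≤ ⁅Q, zpowers a⁆ ⊔ (Q ⊓ centralizer (P : Set G)))
    {z : G} (hzP : z ∈ P) (hza : a * z = z * a) (hz : z ∈ ⁅P, Q⁆ ⊔ phi P)
    (hznc : ∃ g ∈ P, z * g ≠ g * z) : Good a P V z := by
  classical
  haveI := Fact.mk hp
  haveI := Fact.mk hq
  haveI := Fact.mk hs
  haveI := hV.1
  have hAP := zpowers_le_normalizer haP
  have hAV := zpowers_le_normalizer haV
  have haF : a ∈ normalizer (phi P : Set G) := normalizer_le_phi P haP
  have hAF := zpowers_le_normalizer haF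
  have hPcard := not_dvd_card_of_pGroup hp hr hpr hP
  have hFp : IsPGroup p (phi P : Subgroup G) := hP.to_le (phi_le P)
  haveI : IsMulCommutative (phi P) :=
    ⟨⟨fun u v => Subtype.ext (hFc u u.2 v (phi_le P v.2))⟩⟩
  have hcA : (Nat.card (zpowers a)).Coprime (Nat.card P) := coprime_zpowers har hr hPcard
  have hcF : (Nat.card (zpowers a)).Coprime (Nat.card (phi P)) :=
    coprime_zpowers har hr (not_dvd_card_of_pGroup hp hr hpr hFp)
  set Y := ⁅phi P, zpowers a⁆ with hY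
  have hYle : Y ≤ phi P := commutator_le_left_of_le_normalizer hAF
  have haY : a ∈ normalizer (Y : Set G) :=
    normalizer_commutator hAF le_normalizer (mem_zpowers a)
  have hYY : Y ≤ ⁅Y, zpowers a⁆ :=
    (commutator_commutator_eq (zpowers a) (phi P) hAF hcF (Or.inl (Group.isSolvable_of_comm mul_comm'))).ge
  have hYfix : ∀ y ∈ Y, a * y = y * a → y = 1 := by
    intro y hy hay
    have h1 : y ∈ (phi P ⊓ centralizer (zpowers a : Set G)) ⊓ ⁅phi P, zpowers a⁆ :=
      ⟨mem_fixed.mpr ⟨hYle hy, hay⟩, hy⟩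
    rwa [abelian_commutator_inf_fixed (zpowers a) (phi P) hAF hcF, mem_bot] at h1
  haveI : IsMulCommutative Y := ⟨⟨fun u v => Subtype.ext (hFc u (hYle u.2) v (phi_le P (hYle v.2)))⟩⟩
  have hzY : ∀ y ∈ Y, z * y = y * z := fun y hy => (hFc y (hYle hy) z hzP).symm
  by_cases h1 : ∃ v ∈ ⁅V, Y⁆, a * v = v * a ∧ z * v ≠ v * z
  · exact ⟨Y, hYle.trans (phi_le P), haY, hYY, fun c hc hac y hy => by rw [hYfix c hc hac, one_mul, mul_one],
      hzY, h1⟩
  push Not at h1
  have hYV : Y ≤ normalizer (V : Set G) := (hYle.trans (phi_le P)).trans hPV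
  have hzp : IsPGroup p (zpowers z) := hP.to_le (zpowers_le.mpr hzP)
  have hzV : ∀ v ∈ ⁅V, Y⁆, z * v = v * z :=
    centralize_commutator_part hs hp hp hr hsp hsp hsr hpr har (hFp.to_le hYle) haY hYfix hV haV hYV hzp
      (hPV hzP) hza hzY (fun v hv hav => h1 v hv hav)
  have hPY : P ≤ normalizer (Y : Set G) :=
    le_normalizer_of_commute fun g hg k hk => (hFc k (hYle hk) g hg).symm
  have hPVY : P ≤ normalizer ((⁅V, Y⁆ : Subgroup G) : Set G) := normalizer_commutator hPV hPY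
  have hVY : ⁅V, Y⁆ ≤ V := commutator_le_left_of_le_normalizer hYV
  have hdecV : ∀ (X : Subgroup G), IsPGroup p X → X ≤ normalizer (V : Set G) → ∀ v ∈ V,
      ∃ m ∈ ⁅V, X⁆, ∃ w ∈ V ⊓ centralizer (X : Set G), v = m * w := fun X hX hXV v hv =>
    exists_commutator_mul_fixed X V hXV (IsPGroup.coprime_card_of_ne p s hsp.symm _ _ hX (elemAb_isPGroup hV))
      (Or.inl (Grp.isSolvable_of_le le_rfl (haveI := hX.isNilpotent; inferInstance))) hv
  -- commutators with `z`
  have hfz : ∀ g ∈ P, ⁅z, g⁆ ∈ phi P := fun g hg =>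
    commutator_le_phi hp hP (commutator_mem_commutator hzP hg)
  have hfVY : ∀ g ∈ P, ∀ v ∈ ⁅V, Y⁆, ⁅z, g⁆ * v = v * ⁅z, g⁆ := by
    intro g hg v hv
    have h2 : z⁻¹ * (g⁻¹ * v * g) = (g⁻¹ * v * g) * z⁻¹ :=
      ((show Commute z _ from hzV _ (mem_conj_normalizer' (hPVY hg) hv)).inv_left).eq
    calc z * g * z⁻¹ * g⁻¹ * v = z * g * (z⁻¹ * (g⁻¹ * v * g)) * g⁻¹ := by group
      _ = z * g * ((g⁻¹ * v * g) * z⁻¹) * g⁻¹ := by rw [h2]
      _ = (z * v) * g * z⁻¹ * g⁻¹ := by group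
      _ = (v * z) * g * z⁻¹ * g⁻¹ := by rw [hzV v hv]
      _ = v * (z * g * z⁻¹ * g⁻¹) := by group
  have hffix : ∀ g ∈ P, a * ⁅z, g⁆ = ⁅z, g⁆ * a := by
    intro g hg
    set f := ⁅z, g⁆ with hf
    have hafa : a * f * a⁻¹ ∈ phi P := mem_conj_normalizer haF (hfz g hg)
    have hfa : f * (a * f⁻¹ * a⁻¹) ∈ Y := by
      have h0 : ⁅f, a⁆ ∈ Y := commutator_mem_commutator (hfz g hg) (mem_zpowers a)
      convert h0 using 1
      rw [commutatorElement_def f a]; group
    have haV' : a ∈ normalizer ((⁅V, Y⁆ : Subgroup G) : Set G) :=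
      normalizer_commutator hAV (zpowers_le_normalizer haY) (mem_zpowers a)
    have hcen : f * (a * f⁻¹ * a⁻¹) ∈ P ⊓ centralizer (V : Set G) := by
      refine ⟨phi_le P (hYle hfa), mem_centralizer_iff.mpr fun v hv => ?_⟩
      obtain ⟨m, hm, w, hw, rfl⟩ := hdecV Y (hFp.to_le hYle) hYV v hv
      have h3 : m * (f * (a * f⁻¹ * a⁻¹)) = f * (a * f⁻¹ * a⁻¹) * m := by
        have h4 : f⁻¹ * (a⁻¹ * m * a) = (a⁻¹ * m * a) * f⁻¹ :=
          ((show Commute f _ from hfVY g hg _ (mem_conj_normalizer' haV' hm)).inv_left).eq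
        calc m * (f * (a * f⁻¹ * a⁻¹)) = (m * f) * (a * f⁻¹ * a⁻¹) := by group
          _ = (f * m) * (a * f⁻¹ * a⁻¹) := by rw [hfVY g hg m hm]
          _ = f * a * ((a⁻¹ * m * a) * f⁻¹) * a⁻¹ := by group
          _ = f * a * (f⁻¹ * (a⁻¹ * m * a)) * a⁻¹ := by rw [h4]
          _ = f * (a * f⁻¹ * a⁻¹) * m := by group
      have h5 : Commute w (f * (a * f⁻¹ * a⁻¹)) := (mem_centralizer_iff.mp hw.2 _ hfa).symm
      exact ((show Commute m _ from h3).mul_left h5).eq
    rw [hfaith, mem_bot] at hcen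
    have h6 : f = a * f * a⁻¹ := by
      calc f = f * (a * f⁻¹ * a⁻¹) * (a * f * a⁻¹) := by group
        _ = a * f * a⁻¹ := by rw [hcen, one_mul]
    calc a * f = (a * f * a⁻¹) * a := by group
      _ = f * a := by rw [← h6]
  set B := ⁅P, zpowers a⁆ with hB
  have hBP : B ≤ P := commutator_le_left_of_le_normalizer hAP
  have haB : a ∈ normalizer (B : Set G) := normalizer_commutator hAP le_normalizer (mem_zpowers a)
  have hBB : B ≤ ⁅B, zpowers a⁆ :=
    (commutator_commutator_eq (zpowers a) P hAP hcA (Or.inl (Group.isSolvable_of_comm mul_comm'))).ge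
  have hPB : P ≤ normalizer (B : Set G) := left_le_normalizer_commutator (zpowers a) P
  have hzB : ∀ y ∈ B, z * y = y * z := by
    have hle : B ≤ centralizer ({z} : Set G) := by
      rw [hB, Subgroup.commutator_le]
      intro g hg t ht
      rw [mem_centralizer_singleton_iff]
      have hf1 := hffix g hg
      have ht1 : t * z = z * t := commute_zpowers' hza ht
      have ht2 : t * ⁅z, g⁆ = ⁅z, g⁆ * t := commute_zpowers' hf1 ht
      have hfc : ⁅z, g⁆ * g = g * ⁅z, g⁆ := hFc _ (hfz g hg) g hg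
      -- `z g z⁻¹ = f g`
      have h2 : z * g = ⁅z, g⁆ * g * z := by rw [commutatorElement_def]; group
      have h3 : z * g⁻¹ = g⁻¹ * ⁅z, g⁆⁻¹ * z := by rw [commutatorElement_def]; group
      symm
      calc z * ⁅g, t⁆ = (z * g) * t * g⁻¹ * t⁻¹ := by rw [commutatorElement_def g t]; group
        _ = ⁅z, g⁆ * g * (z * t) * g⁻¹ * t⁻¹ := by rw [h2]; group
        _ = ⁅z, g⁆ * g * t * (z * g⁻¹) * t⁻¹ := by rw [← ht1]; group
        _ = ⁅z, g⁆ * g * t * g⁻¹ * ⁅z, g⁆⁻¹ * (z * t⁻¹) := by rw [h3]; group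
        _ = ⁅z, g⁆ * g * t * g⁻¹ * ⁅z, g⁆⁻¹ * (t⁻¹ * z) := by
          rw [((show Commute t z from ht1).inv_left).eq]
        _ = ⁅z, g⁆ * ⁅g, t⁆ * (t * ⁅z, g⁆⁻¹ * t⁻¹) * z := by rw [commutatorElement_def g t]; group
        _ = ⁅z, g⁆ * ⁅g, t⁆ * ⁅z, g⁆⁻¹ * z := by
          rw [((show Commute t ⁅z, g⁆ from ht2).inv_right).eq, mul_inv_cancel_right]
        _ = ⁅g, t⁆ * z := by
          rw [hFc _ (hfz g hg) _ (hBP (commutator_mem_commutator hg ht)), mul_inv_cancel_right]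
    exact fun y hy => (mem_centralizer_singleton_iff.mp (hle hy)).symm
  have hBcen : ∀ c ∈ B, a * c = c * a → ∀ y ∈ B, c * y = y * c := fun c hc hac y hy =>
    hFc c (mem_of_commutator_fixed hr har haP (le_normalizer.trans (normalizer_le_phi P)) (phi_le P)
      (commutator_le_phi hp hP) hPcard hc hac) y (hBP hy)
  by_cases h2 : ∃ v ∈ ⁅V, B⁆, a * v = v * a ∧ z * v ≠ v * z
  · exact ⟨B, hBP, haB, hBB, hBcen, hzB, h2⟩
  push Not at h2
  exfalso
  obtain ⟨c, hcP, hca, hc1⟩ : ∃ c ∈ P, a * c = c * a ∧ z * c ≠ c * z := by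
    obtain ⟨g, hg, hne⟩ := hznc
    obtain ⟨m, hm, c, hc, rfl⟩ := exists_commutator_mul_fixed (zpowers a) P hAP hcA
      (Or.inl (Group.isSolvable_of_comm mul_comm')) hg
    obtain ⟨hc', hca⟩ := mem_fixed.mp hc
    refine ⟨c, hc', hca, fun h => hne ?_⟩
    exact ((show Commute z m from hzB m hm).mul_right h).eq
  set φ := ⁅z, c⁆ with hφ
  have hφF : φ ∈ phi P := hfz c hcP
  have hφP : φ ∈ P := phi_le P hφF
  have hφ1 : φ ≠ 1 := fun e => hc1 (commutatorElement_eq_one_iff_mul_comm.mp e)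
  have hφa : a * φ = φ * a := hffix c hcP
  set Fφ := zpowers φ with hFφ
  have hFφp : IsPGroup p Fφ := hP.to_le (zpowers_le.mpr hφP)
  have hFφV : Fφ ≤ normalizer (V : Set G) := zpowers_le_normalizer (hPV hφP)
  set Vφ := ⁅V, Fφ⁆ with hVφ
  have hVφle : Vφ ≤ V := commutator_le_left_of_le_normalizer hFφV
  have hVφel := elemAb_mono hV hVφle
  have hnormFφ : ∀ H : Subgroup G, (∀ g ∈ H, g * φ = φ * g) → H ≤ normalizer (Fφ : Set G) := fun H h =>
    le_normalizer_of_commute fun g hg k hk => (commute_zpowers' (h g hg).symm hk).symm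
  have hPVφ : P ≤ normalizer (Vφ : Set G) :=
    normalizer_commutator hPV (hnormFφ P fun g hg => (hFc φ hφF g hg).symm)
  have hQVφ : Q ≤ normalizer (Vφ : Set G) :=
    normalizer_commutator hQV (hnormFφ Q fun g hg => (hQF φ hφF g hg).symm)
  have haVφ : a ∈ normalizer (Vφ : Set G) :=
    normalizer_commutator hAV (hnormFφ _ fun g hg => commute_zpowers' hφa hg) (mem_zpowers a)
  have hfpf : ∀ w ∈ Vφ, φ * w = w * φ → w = 1 := fun w hw h =>
    eq_one_of_mem_commutator hs hp hsp hFφp hV hFφV hw fun y hy => commute_zpowers' h hy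
  have hVφ1 : Vφ ≠ ⊥ := fun e => hφ1 (by
    have : φ ∈ P ⊓ centralizer (V : Set G) := ⟨hφP, le_centralizer_iff.mp
      (Subgroup.commutator_eq_bot_iff_le_centralizer.mp e) (mem_zpowers φ)⟩
    rwa [hfaith, mem_bot] at this)
  -- `φ` is trivial on fixed points in `[V, B]`
  have hφB : ∀ v ∈ ⁅V, B⁆, a * v = v * a → φ * v = v * φ := by
    intro v hv hav
    have hz1 := h2 v hv hav
    have hcVB : c ∈ normalizer ((⁅V, B⁆ : Subgroup G) : Set G) :=
      normalizer_commutator hPV hPB hcP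
    have hz2 : z * (c⁻¹ * v * c) = c⁻¹ * v * c * z := by
      refine h2 _ (mem_conj_normalizer' hcVB hv) ?_
      calc a * (c⁻¹ * v * c) = (a * c⁻¹) * v * c := by group
        _ = (c⁻¹ * a) * v * c := by rw [((show Commute a c from hca).inv_right).eq]
        _ = c⁻¹ * (a * v) * c := by group
        _ = c⁻¹ * v * (a * c) := by rw [hav]; group
        _ = c⁻¹ * v * c * a := by rw [hca]; group
    calc z * c * z⁻¹ * c⁻¹ * v = z * c * (z⁻¹ * (c⁻¹ * v * c)) * c⁻¹ := by group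
      _ = z * c * ((c⁻¹ * v * c) * z⁻¹) * c⁻¹ := by
        rw [((show Commute z _ from hz2).inv_left).eq]
      _ = (z * v) * c * z⁻¹ * c⁻¹ := by group
      _ = (v * z) * c * z⁻¹ * c⁻¹ := by rw [hz1]
      _ = v * (z * c * z⁻¹ * c⁻¹) := by group
  -- fixed points of `a`
  have hnofix : ∀ w ∈ ⁅V, B⁆, w ∈ Vφ → a * w = w * a → w = 1 := fun w h3 h4 h5 => hfpf w h4 (hφB w h3 h5)
  -- commutators of `P` and `Q`
  have hPQ : ∀ W : Subgroup G, P ≤ normalizer (W : Set G) → Q ≤ normalizer (W : Set G) →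
      a ∈ normalizer (W : Set G) → (B ≤ centralizer (W : Set G) ∨ ⁅Q, zpowers a⁆ ≤ centralizer (W : Set G)) →
      ⁅P, Q⁆ ≤ centralizer (W : Set G) := by
    intro W hPW hQW haW hor
    set K := P ⊓ centralizer (W : Set G) with hK
    have hKn : ∀ y, y ∈ normalizer (P : Set G) → y ∈ normalizer (W : Set G) → y ∈ normalizer (K : Set G) := by
      intro y hy1 hy2
      refine le_normalizer_inf' (A := zpowers y) (zpowers_le_normalizer hy1) ?_ (mem_zpowers y)
      refine invariant_iff.mp fun t ht x hx => mem_centralizer_iff.mpr fun w hw => ?_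
      have htW := zpowers_le_normalizer hy2 ht
      have h3 := mem_centralizer_iff.mp hx _ (mem_conj_normalizer' htW hw)
      calc w * (t * x * t⁻¹) = t * ((t⁻¹ * w * t) * x) * t⁻¹ := by group
        _ = t * (x * (t⁻¹ * w * t)) * t⁻¹ := by rw [h3]
        _ = t * x * t⁻¹ * w := by group
    let T : Subgroup G :=
      { carrier := {y | y ∈ normalizer (P : Set G) ∧ y ∈ normalizer (W : Set G) ∧ ∀ g ∈ P, ⁅y, g⁆ ∈ K}
        one_mem' := ⟨one_mem _, one_mem _, fun g _ => by rw [commutatorElement_one_left]; exact one_mem _⟩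
        mul_mem' := fun {x y} hx hy => ⟨mul_mem hx.1 hy.1, mul_mem hx.2.1 hy.2.1, fun g hg => by
          rw [commutatorElement_mul_left_eq_conj_mul]
          exact mul_mem (mem_conj_normalizer (hKn x hx.1 hx.2.1) (hy.2.2 g hg)) (hx.2.2 g hg)⟩
        inv_mem' := fun {x} hx => ⟨inv_mem hx.1, inv_mem hx.2.1, fun g hg => by
          rw [commutatorElement_inv_left, ← commutatorElement_inv x g]
          exact mem_conj_normalizer' (hKn x hx.1 hx.2.1) (inv_mem (hx.2.2 g hg))⟩ }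
    have hQT : Q ≤ T := by
      refine hQa.trans (sup_le ?_ fun y hy => ⟨hQP hy.1, hQW hy.1, fun g hg => ?_⟩)
      · rcases hor with hBW | hQW'
        · rw [Subgroup.commutator_le]
          intro y hy t ht
          have hmem := commutator_le_left_of_le_normalizer (zpowers_le_normalizer haQ)
            (commutator_mem_commutator hy ht)
          refine ⟨hQP hmem, hQW hmem, fun g hg => ?_⟩
          have hactB : ∀ g ∈ P, ∀ t ∈ zpowers a, ⁅t, g⁆ ∈ K := fun g hg t ht => by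
            rw [← commutatorElement_inv]
            exact inv_mem ⟨hBP (commutator_mem_commutator hg ht), hBW (commutator_mem_commutator hg ht)⟩
          have hKy : y ∈ normalizer (K : Set G) := hKn y (hQP hy) (hQW hy)
          have hKt : t ∈ normalizer (K : Set G) :=
            hKn t (hAP ht) (zpowers_le_normalizer haW ht)
          -- `⁅y, t⁆ = (y t y⁻¹) t⁻¹`
          have ha1 := hactB (y⁻¹ * g * y) (mem_conj_normalizer' (hQP hy) hg) t ht
          have ha2 := hactB g hg t⁻¹ (inv_mem ht)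
          have hg' : t⁻¹ * g * t ∈ P := mem_conj_normalizer' (hAP ht) hg
          have ha3 := hactB (y⁻¹ * (t⁻¹ * g * t) * y) (mem_conj_normalizer' (hQP hy) hg') t ht
          -- `y t y⁻¹ t⁻¹ g t y t⁻¹ y⁻¹ g⁻¹`
          have e : ⁅⁅y, t⁆, g⁆ = y * ⁅t, y⁻¹ * (t⁻¹ * g * t) * y⁆ * y⁻¹ * ⁅t⁻¹, g⁆ := by
            simp only [commutatorElement_def]; group
          rw [e]
          exact mul_mem (mem_conj_normalizer hKy ha3) ha2
        · intro y hy
          have hyQ := commutator_le_left_of_le_normalizer (zpowers_le_normalizer haQ) hy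
          refine ⟨hQP hyQ, hQW hyQ, fun g hg => ⟨?_, ?_⟩⟩
          · exact P.mul_mem (mem_conj_normalizer (hQP hyQ) hg) (P.inv_mem hg)
          · refine mem_centralizer_iff.mpr fun w hw => ?_
            have hyc := mem_centralizer_iff.mp (hQW' hy)
            have hyc' := mem_centralizer_iff.mp (inv_mem (hQW' hy))
            calc w * (y * g * y⁻¹ * g⁻¹) = (w * y) * g * y⁻¹ * g⁻¹ := by group
              _ = (y * w) * g * y⁻¹ * g⁻¹ := by rw [hyc w hw]
              _ = y * g * ((g⁻¹ * w * g) * y⁻¹) * g⁻¹ := by group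
              _ = y * g * (y⁻¹ * (g⁻¹ * w * g)) * g⁻¹ := by
                rw [hyc' _ (mem_conj_normalizer' (hPW hg) hw)]
              _ = y * g * y⁻¹ * g⁻¹ * w := by group
      · rw [commutatorElement_eq_one_iff_mul_comm.mpr (mem_centralizer_iff.mp hy.2 g hg).symm]
        exact one_mem _
    rw [Subgroup.commutator_le]
    intro g hg y hy
    rw [← commutatorElement_inv]
    exact inv_mem ((hQT hy).2.2 g hg).2
  -- `B` acts on `Vφ`
  by_cases hB0 : B ≤ centralizer (Vφ : Set G)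
  · exact hVφ1 (eq_bot_of_commutator hQP hPVφ hFc hz hcP
      (hPQ Vφ hPVφ hQVφ haVφ (Or.inl hB0)) hfpf)
  have hBVφ : B ≤ normalizer (Vφ : Set G) := hBP.trans hPVφ
  have hV3le : ⁅Vφ, B⁆ ≤ Vφ := commutator_le_left_of_le_normalizer hBVφ
  -- the part where `B` acts through its commutator part
  by_cases hB1 : p ≠ 2 ∨ ⁅B, B⁆ ≤ centralizer (⁅Vφ, B⁆ : Subgroup G)
  · have hV3el := elemAb_mono hVφel hV3le
    have haV3 : a ∈ normalizer ((⁅Vφ, B⁆ : Subgroup G) : Set G) :=
      normalizer_commutator (zpowers_le_normalizer haVφ) (zpowers_le_normalizer haB) (mem_zpowers a)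
    have hBV3 : B ≤ normalizer ((⁅Vφ, B⁆ : Subgroup G) : Set G) := normalizer_commutator hBVφ le_normalizer
    have hfix3 : ∀ w ∈ ⁅Vφ, B⁆, a * w = w * a → w = 1 := fun w hw haw =>
      hnofix w (commutator_mono hVφle le_rfl hw) (hV3le hw) haw
    have hBc : B ≤ centralizer ((⁅Vφ, B⁆ : Subgroup G) : Set G) := by
      refine hBB.trans ?_
      rcases hB1 with hp2 | hab
      · exact fpf_commutator_le hs hp hr hsp hsr hpr har (hP.to_le hBP) haB hV3el haV3 hBV3 (Or.inl hp2) hfix3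
      · exact fpf_image_abelian_le hs hp hr hsp hsr hpr har (hP.to_le hBP) haB hV3el haV3 hBV3 hab hfix3
    have hV3 : ⁅Vφ, B⁆ = ⊥ := (Subgroup.eq_bot_iff_forall _).mpr fun w hw =>
      eq_one_of_mem_commutator hs hp hsp (hP.to_le hBP) hVφel hBVφ hw fun y hy =>
        (mem_centralizer_iff.mp (hBc hy) w hw).symm
    exact hB0 (le_centralizer_iff.mp (Subgroup.commutator_eq_bot_iff_le_centralizer.mp hV3))
  push Not at hB1
  obtain ⟨hp2, hB1⟩ := hB1
  obtain ⟨f', hf'B, hf'V⟩ := SetLike.not_le_iff_exists.mp hB1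
  have hf'F : f' ∈ phi P := commutator_le_phi hp hP (commutator_mono hBP hBP hf'B)
  have hf'P : f' ∈ P := phi_le P hf'F
  set F' := zpowers f' with hF'
  set V2 := ⁅Vφ, F'⁆ with hV2
  have hF'Vφ : F' ≤ normalizer (Vφ : Set G) := zpowers_le_normalizer (hPVφ hf'P)
  have hV2le : V2 ≤ Vφ := commutator_le_left_of_le_normalizer hF'Vφ
  have hnormF' : ∀ H : Subgroup G, (∀ g ∈ H, g * f' = f' * g) → H ≤ normalizer (F' : Set G) := fun H h =>
    le_normalizer_of_commute fun g hg k hk => (commute_zpowers' (h g hg).symm hk).symm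
  have hPV2 : P ≤ normalizer (V2 : Set G) :=
    normalizer_commutator hPVφ (hnormF' P fun g hg => (hFc f' hf'F g hg).symm)
  have hQV2 : Q ≤ normalizer (V2 : Set G) :=
    normalizer_commutator hQVφ (hnormF' Q fun g hg => (hQF f' hf'F g hg).symm)
  -- `a` fixes `f'` on `Vφ`
  have hYVφ : ∀ y ∈ Y, ∀ w ∈ Vφ, y * w = w * y := by
    intro y hy w hw
    have hle : Vφ ≤ centralizer (Y : Set G) := by
      rw [hVφ, Subgroup.commutator_le]
      intro v hv t ht
      obtain ⟨m, hm, u, hu, rfl⟩ := hdecV Y (hFp.to_le hYle) hYV v hv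
      have htm : t * m = m * t := commute_zpowers' (hfVY c hcP m hm) ht
      have htu : t * u * t⁻¹ ∈ centralizer (Y : Set G) := by
        rw [mem_centralizer_iff]
        intro k hk
        have htk : t * k = k * t := commute_zpowers' (hFc φ hφF k (phi_le P (hYle hk))) ht
        calc k * (t * u * t⁻¹) = (k * t) * u * t⁻¹ := by group
          _ = t * (k * u) * t⁻¹ := by rw [← htk]; group
          _ = t * (u * k) * t⁻¹ := by rw [mem_centralizer_iff.mp hu.2 k hk]
          _ = t * u * (k * t⁻¹) := by group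
          _ = t * u * (t⁻¹ * k) := by rw [((show Commute t k from htk).inv_left).eq]
          _ = t * u * t⁻¹ * k := by group
      have e : ⁅m * u, t⁆ = u * (t * u * t⁻¹)⁻¹ := by
        have hcomm : m * u = u * m := elemAb_comm hV _ (hVY hm) _ hu.1
        calc m * u * t * (m * u)⁻¹ * t⁻¹ = u * m * t * (m⁻¹ * u⁻¹) * t⁻¹ := by
              rw [hcomm, show (u * m)⁻¹ = m⁻¹ * u⁻¹ by group]
          _ = u * (m * t) * m⁻¹ * u⁻¹ * t⁻¹ := by group
          _ = u * (t * m) * m⁻¹ * u⁻¹ * t⁻¹ := by rw [htm]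
          _ = u * (t * u * t⁻¹)⁻¹ := by group
      rw [e]
      exact mul_mem hu.2 (inv_mem htu)
    exact mem_centralizer_iff.mp (hle hw) y hy
  have hAV2 : zpowers a ≤ normalizer (V2 : Set G) := by
    intro t ht
    rw [mem_normalizer_iff_smul, ← map_conj_eq_smul, hV2, Subgroup.map_commutator]
    have htV := zpowers_le_normalizer haVφ ht
    rw [map_conj_eq_smul, mem_normalizer_iff_smul.mp htV]
    -- conjugates of powers of `f'` act on `Vφ` as themselves
    have key : ∀ w ∈ Vφ, ∀ k ∈ F', ⁅w, t * k * t⁻¹⁆ = ⁅w, k⁆ := by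
      intro w hw k hk
      have hkF : k ∈ phi P := by
        obtain ⟨i, rfl⟩ := mem_zpowers_iff.mp hk
        exact zpow_mem hf'F i
      have hy : ⁅t, k⁆ ∈ Y := by
        rw [← commutatorElement_inv]; exact inv_mem (commutator_mem_commutator hkF ht)
      have hkV : k ∈ normalizer (Vφ : Set G) := hPVφ (phi_le P hkF)
      have h3 := hYVφ _ hy _ (mem_conj_normalizer hkV (Vφ.inv_mem hw))
      calc w * (t * k * t⁻¹) * w⁻¹ * (t * k * t⁻¹)⁻¹
          = w * (⁅t, k⁆ * (k * w⁻¹ * k⁻¹) * ⁅t, k⁆⁻¹) := by simp only [commutatorElement_def]; group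
        _ = w * ((k * w⁻¹ * k⁻¹) * ⁅t, k⁆ * ⁅t, k⁆⁻¹) := by rw [h3]
        _ = ⁅w, k⁆ := by simp only [commutatorElement_def]; group
    refine le_antisymm (Subgroup.commutator_le.mpr ?_) (Subgroup.commutator_le.mpr ?_)
    · rintro w hw _ ⟨k, hk, rfl⟩
      show ⁅w, t * k * t⁻¹⁆ ∈ ⁅Vφ, F'⁆
      rw [key w hw k hk]
      exact commutator_mem_commutator hw hk
    · intro w hw k hk
      rw [← key w hw k hk]
      exact commutator_mem_commutator hw (mem_map_of_mem _ hk)
  have hfpf2 : ∀ w ∈ V2, f' * w = w * f' → w = 1 := fun w hw h =>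
    eq_one_of_mem_commutator hs hp hsp (hP.to_le (zpowers_le.mpr hf'P)) hVφel hF'Vφ hw fun y hy =>
      commute_zpowers' h hy
  have hBV2 : B ≤ normalizer (V2 : Set G) := hBP.trans hPV2
  have hV2B : V2 ≤ ⁅V, B⁆ := by
    intro w hw
    obtain ⟨m, hm, u, hu, rfl⟩ := exists_commutator_mul_fixed B V2 hBV2
      (IsPGroup.coprime_card_of_ne p s hsp.symm _ _ (hP.to_le hBP) (elemAb_isPGroup (elemAb_mono hV (hV2le.trans hVφle))))
      (Or.inl (haveI := (hP.to_le hBP).isNilpotent; inferInstance)) hw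
    have hu1 : u = 1 := hfpf2 u hu.1
      (mem_centralizer_iff.mp hu.2 f' (Subgroup.commutator_le_self B hf'B))
    rw [hu1, mul_one]
    exact commutator_mono (hV2le.trans hVφle) le_rfl hm
  have hfix2 : ∀ w ∈ V2, a * w = w * a → w = 1 := fun w hw haw => hnofix w (hV2B hw) (hV2le hw) haw
  have hq2 : q ≠ 2 := fun e => hpq (hp2.trans e.symm)
  subst hp2
  refine exceptional_false hq hs hr hq2 hsp hpr.symm hsr hqr har hP hQ
    (elemAb_mono hV (hV2le.trans hVφle)) haP haQ (hAV2 (mem_zpowers a)) hQP hPV2 hQV2 hFc hQF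
    (fun y hy w hw => hYVφ y hy w (hV2le hw)) hQa hzP hcP hz (fun w hw h => hfpf w (hV2le hw) h)
    hf'B hfpf2 hfix2 fun hV20 => hf'V (mem_centralizer_iff.mpr fun w hw => ?_)
  exact mem_centralizer_iff.mp
    (le_centralizer_iff.mp (Subgroup.commutator_eq_bot_iff_le_centralizer.mp hV20) (mem_zpowers f')) w (hV3le hw)

end Cfsg.Agent.Grp.Turull
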