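import Mathlib
import Cfsg.Agent.Lib.Grp.TurullHeight.Special

/-!
The step through an abelian level, and the vanishing of the fixed elements which centralize the moved
part of the next level.
-/

set_option autoImplicit false
set_option linter.unusedSectionVars false
set_option linter.style.haveILetI false

namespace Cfsg.Agent.Grp.Turull

open Subgroup
open scoped commutatorElement

variable {G : Type*} [Group G]

/-- The fixed elements of `P` centralizing the moved part of `V`. -/
def Null (a : G) (P V : Subgroup G) (z : G) : Prop :=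
  z ∈ P ∧ a * z = z * a ∧ ∀ v ∈ ⁅V, ⁅P, zpowers a⁆⁆, z * v = v * z

/-- The elements of `Q` acting trivially on `P` modulo `H`. -/
def trivMod (Q P H : Subgroup G) : Subgroup G where
  carrier := {y | y ∈ Q ∧ y ∈ normalizer (P : Set G) ∧ ∀ g ∈ P, ⁅y, g⁆ ∈ H}
  one_mem' := ⟨one_mem _, one_mem _, fun g _ => by rw [commutatorElement_one_left]; exact one_mem _⟩
  mul_mem' := fun {x y} hx hy => ⟨mul_mem hx.1 hy.1, mul_mem hx.2.1 hy.2.1, fun g hg => by
    have h1 := mul_mem (hx.2.2 _ (mem_conj_normalizer hy.2.1 hg)) (hy.2.2 g hg)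
    convert h1 using 1
    simp only [commutatorElement_def]
    group⟩
  inv_mem' := fun {x} hx => ⟨inv_mem hx.1, inv_mem hx.2.1, fun g hg => by
    have h1 := inv_mem (hx.2.2 _ (mem_conj_normalizer' hx.2.1 hg))
    convert h1 using 1
    simp only [commutatorElement_def]
    group⟩

/-- An element of `P` trivial on the moved part of `V` and on every minimal invariant subgroup of the
centralizer of that part is trivial. -/
theorem eq_one_of_minimal [Finite G] {p s : ℕ} (hp : p.Prime) (hs : s.Prime) (hsp : s ≠ p) {B P V : Subgroup G}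
    (hP : IsPGroup p P) [IsMulCommutative P] (hV : Cfsg.IsElementaryAbelian s V) (hBP : B ≤ P)
    (hPV : P ≤ normalizer (V : Set G)) (hfaith : P ⊓ centralizer (V : Set G) = ⊥) {w : G} (hwP : w ∈ P)
    (hw1 : ∀ v ∈ ⁅V, B⁆, w * v = v * w)
    (hw2 : ∀ W ≤ V, W ≠ ⊥ → P ≤ normalizer (W : Set G) →
      (∀ U ≤ W, U ≠ ⊥ → P ≤ normalizer (U : Set G) → U = W) → B ≤ centralizer (W : Set G) →
      w ∈ centralizer (W : Set G)) : w = 1 := by
  classical
  haveI := Fact.mk hp
  haveI := Fact.mk hs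
  have hcommP : ∀ g ∈ P, ∀ k ∈ P, g * k = k * g := fun g hg k hk =>
    congrArg Subtype.val (IsMulCommutative.is_comm.comm (⟨g, hg⟩ : ↥P) ⟨k, hk⟩)
  set V0 := V ⊓ centralizer (B : Set G) with hV0
  have hPV0 : P ≤ normalizer (V0 : Set G) :=
    le_normalizer_inf' hPV ((le_normalizer_of_commute fun g hg k hk => hcommP g hg k (hBP hk)).trans
      (normalizer_le_normalizer_centralizer B))
  have hwV0 : zpowers w ≤ normalizer (V0 : Set G) := zpowers_le_normalizer (hPV0 hwP)
  set U := ⁅V0, zpowers w⁆ with hU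
  have hPU : P ≤ normalizer (U : Set G) := normalizer_commutator hPV0
    (le_normalizer_of_commute fun g hg k hk => hcommP g hg k (zpowers_le.mpr hwP hk))
  have hUle : U ≤ V0 := commutator_le_left_of_le_normalizer hwV0
  have hwp : IsPGroup p (zpowers w) := hP.to_le (zpowers_le.mpr hwP)
  have hU1 : U = ⊥ := by
    by_contra hne
    obtain ⟨W, ⟨hWU, hW0, hPW⟩, hmin⟩ := (wellFounded_lt (α := Subgroup G)).has_min
      {W : Subgroup G | W ≤ U ∧ W ≠ ⊥ ∧ P ≤ normalizer (W : Set G)} ⟨U, le_rfl, hne, hPU⟩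
    have hwW := hw2 W (hWU.trans (hUle.trans inf_le_left)) hW0 hPW
      (fun U' hU' h0 hn => hU'.eq_or_lt.resolve_right (hmin U' ⟨hU'.trans hWU, h0, hn⟩))
      (fun b hb => mem_centralizer_iff.mpr fun v hv =>
        (mem_centralizer_iff.mp (hUle (hWU hv)).2 b hb).symm)
    refine hW0 ((Subgroup.eq_bot_iff_forall _).mpr fun v hv => ?_)
    exact eq_one_of_mem_commutator hs hp hsp hwp (elemAb_mono hV inf_le_left) hwV0 (hWU hv) fun y hy =>
      commute_zpowers' (mem_centralizer_iff.mp hwW v hv).symm hy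
  have hmem : w ∈ P ⊓ centralizer (V : Set G) := by
    refine ⟨hwP, mem_centralizer_iff.mpr fun v hv => ?_⟩
    obtain ⟨m, hm, u, hu, rfl⟩ := exists_commutator_mul_fixed B V (hBP.trans hPV)
      (IsPGroup.coprime_card_of_ne p s hsp.symm _ _ (hP.to_le hBP) (elemAb_isPGroup hV))
      (Or.inl (Group.isSolvable_of_comm fun x y => Subtype.ext (hcommP x (hBP x.2) y (hBP y.2)))) hv
    have h1 : ⁅u, w⁆ ∈ U := commutator_mem_commutator hu (mem_zpowers w)
    rw [hU1, mem_bot, commutatorElement_eq_one_iff_mul_comm] at h1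
    exact ((show Commute m w from (hw1 m hm).symm).mul_left h1).eq
  rwa [hfaith, mem_bot] at hmem

/-- A minimal invariant module moved by a conjugate of the moved part is centralized by the conjugate of
each null element. -/
theorem translate [Finite G] {a g z : G} {P V W : Subgroup G} [IsMulCommutative P] (hWV : W ≤ V)
    (hPW : P ≤ normalizer (W : Set G)) (hmin : ∀ U ≤ W, U ≠ ⊥ → P ≤ normalizer (U : Set G) → U = W)
    (haP : a ∈ normalizer (P : Set G)) (hgP : g ∈ normalizer (P : Set G)) (hgV : g ∈ normalizer (V : Set G))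
    (hex : ∃ b ∈ ⁅P, zpowers a⁆, g⁻¹ * b * g ∉ centralizer (W : Set G)) (hz : Null a P V z) :
    g⁻¹ * z * g ∈ centralizer (W : Set G) := by
  classical
  have hcommP : ∀ x ∈ P, ∀ k ∈ P, x * k = k * x := fun x hx k hk =>
    congrArg Subtype.val (IsMulCommutative.is_comm.comm (⟨x, hx⟩ : ↥P) ⟨k, hk⟩)
  set B := ⁅P, zpowers a⁆ with hB
  have hBP : B ≤ P := commutator_le_left_of_le_normalizer (zpowers_le_normalizer haP)
  set B' := B.map (MulAut.conj g⁻¹).toMonoidHom with hB'
  have hB'mem : ∀ b ∈ B, g⁻¹ * b * g ∈ B' := fun b hb => ⟨b, hb, by simp⟩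
  have hB'P : B' ≤ P := by
    rintro _ ⟨b, hb, rfl⟩
    simpa using mem_conj_normalizer' hgP (hBP hb)
  have hPB' : P ≤ normalizer (B' : Set G) :=
    le_normalizer_of_commute fun x hx k hk => hcommP x hx k (hB'P hk)
  have hB'W : B' ≤ normalizer (W : Set G) := hB'P.trans hPW
  have hU : ⁅W, B'⁆ = W := by
    refine hmin _ (commutator_le_left_of_le_normalizer hB'W) (fun e => ?_) (normalizer_commutator hPW hPB')
    obtain ⟨b, hb, hb'⟩ := hex
    exact hb' (le_centralizer_iff.mp (Subgroup.commutator_eq_bot_iff_le_centralizer.mp e) (hB'mem b hb))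
  have hle : ⁅W, B'⁆ ≤ centralizer ({g⁻¹ * z * g} : Set G) := by
    rw [Subgroup.commutator_le]
    rintro w hw _ ⟨b, hb, rfl⟩
    rw [mem_centralizer_singleton_iff]
    have hwV : g * w * g⁻¹ ∈ V := mem_conj_normalizer hgV (hWV hw)
    have h1 := hz.2.2 _ (commutator_mem_commutator hwV hb)
    show ⁅w, g⁻¹ * b * g⁻¹⁻¹⁆ * (g⁻¹ * z * g) = g⁻¹ * z * g * ⁅w, g⁻¹ * b * g⁻¹⁻¹⁆
    calc ⁅w, g⁻¹ * b * g⁻¹⁻¹⁆ * (g⁻¹ * z * g) = g⁻¹ * (⁅g * w * g⁻¹, b⁆ * z) * g := by
          simp only [commutatorElement_def]; group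
      _ = g⁻¹ * (z * ⁅g * w * g⁻¹, b⁆) * g := by rw [h1]
      _ = g⁻¹ * z * g * ⁅w, g⁻¹ * b * g⁻¹⁻¹⁆ := by simp only [commutatorElement_def]; group
  rw [hU] at hle
  exact mem_centralizer_iff.mpr fun w hw => mem_centralizer_singleton_iff.mp (hle hw)

/-- If the conjugate of the moved part by `u` is trivial on a minimal module, `u` is fixed modulo the
elements trivial modulo its kernel. -/
theorem conj_fixed_mod [Finite G] {a u : G} {Q P H : Subgroup G} [IsMulCommutative P]
    (haP : a ∈ normalizer (P : Set G)) (haQ : a ∈ normalizer (Q : Set G))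
    (huQ : u ∈ Q) (hQP : Q ≤ normalizer (P : Set G)) (hBH : ⁅P, zpowers a⁆ ≤ H)
    (hu : ∀ b ∈ ⁅P, zpowers a⁆, u⁻¹ * b * u ∈ H) : u⁻¹ * (a * u * a⁻¹) ∈ trivMod Q P H := by
  classical
  have hcommP : ∀ x ∈ P, ∀ k ∈ P, x * k = k * x := fun x hx k hk =>
    congrArg Subtype.val (IsMulCommutative.is_comm.comm (⟨x, hx⟩ : ↥P) ⟨k, hk⟩)
  have hBP : ⁅P, zpowers a⁆ ≤ P := commutator_le_left_of_le_normalizer (zpowers_le_normalizer haP)
  have hauQ : a * u * a⁻¹ ∈ Q := mem_conj_normalizer haQ huQ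
  have hvP : u⁻¹ * (a * u * a⁻¹) ∈ normalizer (P : Set G) :=
    hQP (mul_mem (inv_mem huQ) hauQ)
  refine ⟨mul_mem (inv_mem huQ) hauQ, hvP, fun g hg => ?_⟩
  -- `g₀ = a⁻¹ g a = g b₁`
  set b₁ := g⁻¹ * (a⁻¹ * g * a) with hb₁
  have hb₁B : b₁ ∈ ⁅P, zpowers a⁆ := by
    have h1 := commutator_mem_commutator (inv_mem hg) (inv_mem (mem_zpowers a))
    convert h1 using 1
    rw [commutatorElement_def, hb₁]; group
  set k := u * g * u⁻¹ with hk
  have hkP : k ∈ P := mem_conj_normalizer (hQP huQ) hg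
  set h := u * b₁ * u⁻¹ with hh
  have hhP : h ∈ P := mem_conj_normalizer (hQP huQ) (hBP hb₁B)
  have hb₂ : k⁻¹ * (a * k * a⁻¹) ∈ ⁅P, zpowers a⁆ := by
    have h1 := commutator_mem_commutator (inv_mem hkP) (mem_zpowers a)
    convert h1 using 1
    rw [commutatorElement_def]; group
  have hb₃ : h⁻¹ * (a * h * a⁻¹) ∈ ⁅P, zpowers a⁆ := by
    have h1 := commutator_mem_commutator (inv_mem hhP) (mem_zpowers a)
    convert h1 using 1
    rw [commutatorElement_def]; group
  have e : ⁅u⁻¹ * (a * u * a⁻¹), g⁆ =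
      g * ((u⁻¹ * (k⁻¹ * (a * k * a⁻¹)) * u) * (b₁ * (u⁻¹ * (h⁻¹ * (a * h * a⁻¹)) * u))) * g⁻¹ := by
    rw [commutatorElement_def, hk, hh, hb₁]; group
  have hmemH : (u⁻¹ * (k⁻¹ * (a * k * a⁻¹)) * u) * (b₁ * (u⁻¹ * (h⁻¹ * (a * h * a⁻¹)) * u)) ∈ H :=
    mul_mem (hu _ hb₂) (mul_mem (hBH hb₁B) (hu _ hb₃))
  have hmemP : (u⁻¹ * (k⁻¹ * (a * k * a⁻¹)) * u) * (b₁ * (u⁻¹ * (h⁻¹ * (a * h * a⁻¹)) * u)) ∈ P :=
    mul_mem (mem_conj_normalizer' (hQP huQ) (hBP hb₂))
      (mul_mem (hBP hb₁B) (mem_conj_normalizer' (hQP huQ) (hBP hb₃)))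
  rw [e, hcommP g hg _ hmemP, mul_inv_cancel_right]
  exact hmemH

/-- The elements trivial modulo an invariant subgroup form an invariant subgroup. -/
theorem mem_normalizer_trivMod {a : G} {Q P H : Subgroup G} (haP : a ∈ normalizer (P : Set G))
    (haQ : a ∈ normalizer (Q : Set G)) (haH : a ∈ normalizer (H : Set G)) :
    a ∈ normalizer ((trivMod Q P H : Subgroup G) : Set G) := by
  suffices h : zpowers a ≤ normalizer ((trivMod Q P H : Subgroup G) : Set G) from h (mem_zpowers a)
  refine invariant_iff.mp ?_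
  intro t ht x hx
  have htP := zpowers_le_normalizer haP ht
  refine ⟨mem_conj_normalizer (zpowers_le_normalizer haQ ht) hx.1,
    mul_mem (mul_mem htP hx.2.1) (inv_mem htP), fun g hg => ?_⟩
  have h1 := mem_conj_normalizer (zpowers_le_normalizer haH ht) (hx.2.2 _ (mem_conj_normalizer' htP hg))
  convert h1 using 1
  simp only [commutatorElement_def]
  group

/-- The kernel of an abelian group on an invariant module containing the moved part is invariant. -/
theorem mem_normalizer_of_moved {a : G} {P H : Subgroup G} (haP : a ∈ normalizer (P : Set G))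
    (hHP : H ≤ P) (hBH : ⁅P, zpowers a⁆ ≤ H) : zpowers a ≤ normalizer (H : Set G) :=
  invariant_iff.mp fun t ht x hx => by
    have h1 : ⁅x⁻¹, t⁆ ∈ H := hBH (commutator_mem_commutator (inv_mem (hHP hx)) ht)
    have h2 := mul_mem hx h1
    convert h2 using 1
    rw [commutatorElement_def]; group

/-- The step through an abelian level. -/
theorem good_of_abelian [Finite G] {p q s r : ℕ} (hp : p.Prime) (hq : q.Prime) (hs : s.Prime) (hr : r.Prime)
    (hsp : s ≠ p) (hpr : p ≠ r) (hsr : s ≠ r) (hqr : q ≠ r) {a : G} (har : a ^ r = 1) {P Q V : Subgroup G}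
    (hP : IsPGroup p P) [IsMulCommutative P] (hQ : IsPGroup q Q) (hV : Cfsg.IsElementaryAbelian s V)
    (haP : a ∈ normalizer (P : Set G)) (haQ : a ∈ normalizer (Q : Set G)) (haV : a ∈ normalizer (V : Set G))
    (hQP : Q ≤ normalizer (P : Set G)) (hPV : P ≤ normalizer (V : Set G)) (hQV : Q ≤ normalizer (V : Set G))
    (hfaith : P ⊓ centralizer (V : Set G) = ⊥)
    (hQa : Q ≤ ⁅Q, zpowers a⁆ ⊔ (Q ⊓ centralizer (P : Set G)))
    (hQc : ∀ c ∈ Q, a * c = c * a → ∀ y ∈ Q, ⁅c, y⁆ ∈ centralizer (P : Set G))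
    {d : G} (hdP : d ∈ normalizer (P : Set G)) (hda : a * d = d * a)
    (hdQ : ∀ y ∈ Q, ⁅d, y⁆ ∈ centralizer (P : Set G))
    {x : G} (hx : x ∈ ⁅P, Q⁆) (hxa : a * x = x * a) (hxd : x * d ≠ d * x) :
    ∃ x' ∈ P, a * x' = x' * a ∧ Good a P V ⁅x', d⁆ := by
  classical
  haveI := Fact.mk hp
  haveI := Fact.mk hq
  haveI := Fact.mk hs
  have hcommP : ∀ g ∈ P, ∀ k ∈ P, g * k = k * g := fun g hg k hk =>
    congrArg Subtype.val (IsMulCommutative.is_comm.comm (⟨g, hg⟩ : ↥P) ⟨k, hk⟩)
  have hAP := zpowers_le_normalizer haP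
  set B := ⁅P, zpowers a⁆ with hB
  have hBP : B ≤ P := commutator_le_left_of_le_normalizer hAP
  have haB : a ∈ normalizer (B : Set G) := normalizer_commutator hAP le_normalizer (mem_zpowers a)
  have hcA : (Nat.card (zpowers a)).Coprime (Nat.card P) :=
    coprime_zpowers har hr (not_dvd_card_of_pGroup hp hr hpr hP)
  haveI : IsMulCommutative B := ⟨⟨fun u v => Subtype.ext (hcommP u (hBP u.2) v (hBP v.2))⟩⟩
  have hBfix : ∀ b ∈ B, a * b = b * a → b = 1 := by
    intro b hb hab
    have h1 : b ∈ (P ⊓ centralizer (zpowers a : Set G)) ⊓ ⁅P, zpowers a⁆ := ⟨mem_fixed.mpr ⟨hBP hb, hab⟩, hb⟩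
    rwa [abelian_commutator_inf_fixed (zpowers a) P hAP hcA, mem_bot] at h1
  have hcommd : ∀ x' ∈ P, a * x' = x' * a → ⁅x', d⁆ ∈ P ∧ a * ⁅x', d⁆ = ⁅x', d⁆ * a := by
    intro x' hx' hax'
    refine ⟨?_, ?_⟩
    · rw [commutatorElement_def, show x' * d * x'⁻¹ * d⁻¹ = x' * (d * x'⁻¹ * d⁻¹) by group]
      exact mul_mem hx' (mem_conj_normalizer hdP (inv_mem hx'))
    · exact (((show Commute a x' from hax').mul_right hda).mul_right
        (show Commute a x' from hax').inv_right).mul_right (show Commute a d from hda).inv_right |>.eq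
  by_contra hcon
  push Not at hcon
  have hnull : ∀ x' ∈ P, a * x' = x' * a → Null a P V ⁅x', d⁆ := by
    intro x' hx' hax'
    obtain ⟨h1, h2⟩ := hcommd x' hx' hax'
    refine ⟨h1, h2, ?_⟩
    refine centralize_commutator_part hs hp hp hr hsp hsp hsr hpr har (hP.to_le hBP) haB hBfix hV haV
      (hBP.trans hPV) (hP.to_le (zpowers_le.mpr h1)) (hPV h1) h2 (fun y hy => hcommP _ h1 y (hBP hy)) ?_
    intro v hv hav
    by_contra hne
    exact hcon x' hx' hax' ⟨B, hBP, haB,
      (commutator_commutator_eq (zpowers a) P hAP hcA (Or.inl (Group.isSolvable_of_comm mul_comm'))).ge,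
      fun c hc _ y hy => hcommP c (hBP hc) y (hBP hy), fun y hy => hcommP _ h1 y (hBP hy), v, hv, hav, hne⟩
  have hxP : x ∈ P := commutator_le_left_of_le_normalizer hQP hx
  obtain ⟨hwP, hwa⟩ := hcommd x hxP hxa
  have hwnull := hnull x hxP hxa
  refine hxd (commutatorElement_eq_one_iff_mul_comm.mp ?_)
  refine eq_one_of_minimal hp hs hsp hP hV hBP hPV hfaith hwP hwnull.2.2 ?_
  intro W hWV hW0 hPW hmin hBW
  by_contra hwW
  set H0 := P ⊓ centralizer (W : Set G) with hH0
  have hBH : B ≤ H0 := le_inf hBP hBW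
  set T := trivMod Q P H0 with hT
  have haH0 : a ∈ normalizer (H0 : Set G) := mem_normalizer_of_moved haP inf_le_left hBH (mem_zpowers a)
  have haT : a ∈ normalizer (T : Set G) := mem_normalizer_trivMod haP haQ haH0
  have hCT : ∀ y ∈ Q, y ∈ centralizer (P : Set G) → y ∈ T := fun y hy hyc => ⟨hy, hQP hy, fun g hg => by
    rw [commutatorElement_eq_one_iff_mul_comm.mpr (mem_centralizer_iff.mp hyc g hg).symm]
    exact one_mem _⟩
  have hTQ : T ≤ Q := fun y hy => hy.1
  -- conjugates by elements of `Q` commute with `d` on `P`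
  have hdconj : ∀ y ∈ Q, ∀ g ∈ P, d * (y * g * y⁻¹) * d⁻¹ = y * (d * g * d⁻¹) * y⁻¹ := by
    intro y hy g hg
    have hg' : y * (d * g * d⁻¹) * y⁻¹ ∈ P := mem_conj_normalizer (hQP hy) (mem_conj_normalizer hdP hg)
    have h1 := mem_centralizer_iff.mp (hdQ y hy) _ hg'
    calc d * (y * g * y⁻¹) * d⁻¹ = ⁅d, y⁆ * (y * (d * g * d⁻¹) * y⁻¹) * ⁅d, y⁆⁻¹ := by
          simp only [commutatorElement_def]; group
      _ = y * (d * g * d⁻¹) * y⁻¹ := by rw [← h1, mul_inv_cancel_right]
  by_cases hA : ∃ y ∈ Q, ∃ b ∈ B, y⁻¹ * b * y ∉ centralizer (W : Set G)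
  · obtain ⟨y, hy, b₀, hb₀, hyb⟩ := hA
    set Y : ℕ → G := fun k => a ^ k * y * (a ^ k)⁻¹ with hY
    have hYQ : ∀ k, Y k ∈ Q := fun k => mem_conj_normalizer (Subgroup.pow_mem _ haQ k) hy
    -- the translates of `y` by powers of `a` move the moved part as well
    have hmove : ∀ k, 0 < k → k < r → ∃ b ∈ B, ((Y k)⁻¹ * y)⁻¹ * b * ((Y k)⁻¹ * y) ∉ centralizer (W : Set G) := by
      intro k hk0 hkr
      by_contra hnot
      push Not at hnot
      set u := (Y k)⁻¹ * y with hu
      have huQ : u ∈ Q := mul_mem (inv_mem (hYQ k)) hy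
      have hu' : ∀ b ∈ B, u⁻¹ * b * u ∈ H0 := fun b hb =>
        ⟨mem_conj_normalizer' (hQP huQ) (hBP hb), hnot b hb⟩
      obtain ⟨c, hc, hca⟩ := exists_fixed_in_coset hr har T haT
        (fun h => not_dvd_card_of_pGroup hq hr hqr (hQ.to_le hTQ) h)
        (conj_fixed_mod haP haQ huQ hQP hBH hu')
      have hcQ : c ∈ Q := by
        have h1 := mul_mem huQ (hTQ hc)
        rwa [mul_inv_cancel_left] at h1
      have hcT : ∀ n : ℕ, ∀ t ∈ T, (c ^ n)⁻¹ * t * c ^ n ∈ T := fun n t ht => by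
        have hcn : c ^ n ∈ Q := pow_mem hcQ n
        have h1 : ⁅(c ^ n)⁻¹, t⁆ ∈ T := by
          refine hCT _ ?_ (hQc _ (inv_mem hcn) ((show Commute a c from hca).pow_right n).inv_right.eq t (hTQ ht))
          rw [commutatorElement_def]
          exact mul_mem (mul_mem (mul_mem (inv_mem hcn) (hTQ ht)) (inv_mem (inv_mem hcn))) (inv_mem (hTQ ht))
        have h2 := mul_mem h1 ht
        convert h2 using 1
        rw [commutatorElement_def]; group
      have hconj : ∀ g, (a ^ k * g * (a ^ k)⁻¹ : G) = MulAut.conj (a ^ k) g := fun g => rfl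
      have hiter : ∀ n : ℕ, (c ^ n)⁻¹ * ((Y (n * k))⁻¹ * y) ∈ T := by
        intro n
        induction n with
        | zero => simp [hY]
        | succ n ih =>
          have hYs : Y ((n + 1) * k) = a ^ k * Y (n * k) * (a ^ k)⁻¹ := by
            simp only [hY]
            rw [add_mul, one_mul, add_comm (n * k) k, pow_add]
            group
          have h1 := mem_conj_normalizer (Subgroup.pow_mem _ haT k) ih
          have hcc : a ^ k * c ^ n = c ^ n * a ^ k := (((show Commute a c from hca).pow_pow k n)).eq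
          have h2 : c⁻¹ * (a ^ k * ((c ^ n)⁻¹ * ((Y (n * k))⁻¹ * y)) * (a ^ k)⁻¹) * c ∈ T := by
            have := hcT 1 _ h1
            rwa [pow_one] at this
          have h3 : c⁻¹ * u ∈ T := by
            have := inv_mem hc
            rwa [mul_inv_rev, inv_inv] at this
          have h4 := mul_mem h2 h3
          convert h4 using 1
          rw [hu, pow_succ, hYs]
          have e1 : a ^ k * (c ^ n)⁻¹ = (c ^ n)⁻¹ * a ^ k :=
            (show Commute (a ^ k) (c ^ n) from hcc).inv_right.eq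
          calc (c ^ n * c)⁻¹ * ((a ^ k * Y (n * k) * (a ^ k)⁻¹)⁻¹ * y)
              = c⁻¹ * ((c ^ n)⁻¹ * a ^ k) * (Y (n * k))⁻¹ * (a ^ k)⁻¹ * y := by group
            _ = c⁻¹ * (a ^ k * (c ^ n)⁻¹) * (Y (n * k))⁻¹ * (a ^ k)⁻¹ * y := by rw [e1]
            _ = _ := by simp only [hY]; group
      have hcr : c ^ r ∈ T := by
        have h1 := inv_mem (hiter r)
        have e : Y (r * k) = y := by simp only [hY]; rw [pow_mul, har, one_pow]; group
        rwa [e, inv_mul_cancel, mul_one, inv_inv] at h1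
      have hcT' : c ∈ T := by
        obtain ⟨m, hm⟩ := exists_pow_eq_self_of_coprime (x := c) (n := r)
          ((hr.coprime_iff_not_dvd.mpr fun h => not_dvd_card_of_pGroup hq hr hqr hQ
            (h.trans (Subgroup.orderOf_dvd_natCard _ hcQ))))
        rw [← hm]
        exact pow_mem hcr m
      have huT : u ∈ T := by
        have h1 := mul_mem hcT' (inv_mem hc)
        rwa [mul_inv_rev, inv_inv, mul_inv_cancel_left] at h1
      -- so `y` is fixed modulo `T`
      obtain ⟨j, hj⟩ : ∃ j, (a ^ k) ^ j = a := by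
        refine exists_pow_eq_self_of_coprime
          ((Nat.Coprime.symm ?_).coprime_dvd_right (orderOf_dvd_of_pow_eq_one har))
        exact hr.coprime_iff_not_dvd.mpr (Nat.not_dvd_of_pos_of_lt hk0 hkr)
      have hya : y⁻¹ * (a * y * a⁻¹) ∈ T := by
        rw [← hj]
        have hstep : ∀ j : ℕ, y⁻¹ * ((a ^ k) ^ j * y * ((a ^ k) ^ j)⁻¹) ∈ T := by
          intro j
          induction j with
          | zero => simp
          | succ j ih =>
            have h1 := mul_mem (inv_mem huT) (mem_conj_normalizer (Subgroup.pow_mem _ haT k) ih)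
            convert h1 using 1
            simp only [hu, hY, pow_succ']
            group
        exact hstep j
      obtain ⟨c', hc', hca'⟩ := exists_fixed_in_coset hr har T haT
        (fun h => not_dvd_card_of_pGroup hq hr hqr (hQ.to_le hTQ) h) hya
      have hc'Q : c' ∈ Q := by
        have h1 := mul_mem hy (hTQ hc')
        rwa [mul_inv_cancel_left] at h1
      have hb' : c'⁻¹ * b₀ * c' ∈ B := by
        refine mem_conj_normalizer' ((normalizer_commutator (H := zpowers c') ?_ ?_) (mem_zpowers c')) hb₀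
        · exact zpowers_le_normalizer (hQP hc'Q)
        · exact le_normalizer_of_commute fun g hg t ht =>
            (commute_zpowers' (commute_zpowers' hca'.symm hg).symm ht).symm
      refine hyb ?_
      set t := y⁻¹ * c' with ht
      have hh := hc'.2.2 _ (hBP hb')
      have h2 : t * (c'⁻¹ * b₀ * c') * t⁻¹ ∈ H0 := by
        have := mul_mem hh (hBH hb')
        convert this using 1
        rw [commutatorElement_def]; group
      have h3 : t * (c'⁻¹ * b₀ * c') * t⁻¹ = y⁻¹ * b₀ * y := by rw [ht]; group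
      exact h3 ▸ h2.2
    -- the product of the translates
    let c : ℕ → G := fun n => ((List.range n).map fun k => Y k * x * (Y k)⁻¹).prod
    have hcs : ∀ n, c (n + 1) = c n * (Y n * x * (Y n)⁻¹) := fun n => by
      simp only [c, List.range_succ, List.map_append, List.prod_append, List.map_cons, List.map_nil,
        List.prod_cons, List.prod_nil, mul_one]
    have hcP : ∀ n, c n ∈ P := by
      intro n
      induction n with
      | zero => simp [c]
      | succ n ih => rw [hcs]; exact mul_mem ih (mem_conj_normalizer (hQP (hYQ n)) hxP)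
    have haYx : ∀ k, a * (Y k * x * (Y k)⁻¹) * a⁻¹ = Y (k + 1) * x * (Y (k + 1))⁻¹ := by
      intro k
      have e : Y (k + 1) = a * Y k * a⁻¹ := by simp only [hY]; rw [pow_succ']; group
      rw [e]
      have h1 : a⁻¹ * x * a = x := by rw [mul_assoc, ← hxa, inv_mul_cancel_left]
      calc a * (Y k * x * (Y k)⁻¹) * a⁻¹ = a * (Y k * (a⁻¹ * x * a) * (Y k)⁻¹) * a⁻¹ := by rw [h1]
        _ = _ := by group
    have hca' : ∀ n, a * c n * a⁻¹ * (Y 0 * x * (Y 0)⁻¹) = c (n + 1) := by
      intro n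
      induction n with
      | zero => rw [hcs]; simp [c]
      | succ n ih =>
        conv_rhs => rw [hcs (n + 1), ← ih, ← haYx n]
        rw [hcs n]
        have h1 : a * (Y n * x * (Y n)⁻¹) * a⁻¹ * (Y 0 * x * (Y 0)⁻¹) =
            (Y 0 * x * (Y 0)⁻¹) * (a * (Y n * x * (Y n)⁻¹) * a⁻¹) :=
          hcommP _ (mem_conj_normalizer haP (mem_conj_normalizer (hQP (hYQ n)) hxP)) _
            (mem_conj_normalizer (hQP (hYQ 0)) hxP)
        calc a * (c n * (Y n * x * (Y n)⁻¹)) * a⁻¹ * (Y 0 * x * (Y 0)⁻¹)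
            = a * c n * a⁻¹ * (a * (Y n * x * (Y n)⁻¹) * a⁻¹ * (Y 0 * x * (Y 0)⁻¹)) := by group
          _ = a * c n * a⁻¹ * ((Y 0 * x * (Y 0)⁻¹) * (a * (Y n * x * (Y n)⁻¹) * a⁻¹)) := by rw [h1]
          _ = _ := by group
    have hYr : Y r = Y 0 := by simp only [hY]; rw [har, pow_zero]
    have hcfix : a * c r = c r * a := by
      have h1 := hca' r
      rw [hcs r, hYr] at h1
      exact mul_inv_eq_iff_eq_mul.mp (mul_right_cancel h1)
    obtain ⟨hmP, -, hm⟩ := hnull (c r) (hcP r) hcfix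
    -- its commutator with `d` is the product of the translates of `w`
    let e : ℕ → G := fun n => ((List.range n).map fun k => Y k * ⁅x, d⁆ * (Y k)⁻¹).prod
    have hes : ∀ n, e (n + 1) = e n * (Y n * ⁅x, d⁆ * (Y n)⁻¹) := fun n => by
      simp only [e, List.range_succ, List.map_append, List.prod_append, List.map_cons, List.map_nil,
        List.prod_cons, List.prod_nil, mul_one]
    have hce : ∀ n, ⁅c n, d⁆ = e n := by
      intro n
      induction n with
      | zero => simp [c, e, commutatorElement_one_left]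
      | succ n ih =>
        rw [hcs, hes, ← ih, commutatorElement_mul_left_eq_conj_mul]
        set g := Y n * x * (Y n)⁻¹ with hg
        have hgP : g ∈ P := mem_conj_normalizer (hQP (hYQ n)) hxP
        have hgd : ⁅g, d⁆ = Y n * ⁅x, d⁆ * (Y n)⁻¹ := by
          have h1 := hdconj _ (hYQ n) x⁻¹ (inv_mem hxP)
          rw [commutatorElement_def g d, show g * d * g⁻¹ * d⁻¹ = g * (d * g⁻¹ * d⁻¹) by group,
            show g⁻¹ = Y n * x⁻¹ * (Y n)⁻¹ by rw [hg]; group, h1, hg, commutatorElement_def]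
          group
        rw [hgd]
        have h2 : Y n * ⁅x, d⁆ * (Y n)⁻¹ ∈ P := mem_conj_normalizer (hQP (hYQ n)) hwP
        have h3 : ⁅c n, d⁆ ∈ P := by
          rw [commutatorElement_def, show c n * d * (c n)⁻¹ * d⁻¹ = c n * (d * (c n)⁻¹ * d⁻¹) by group]
          exact mul_mem (hcP n) (mem_conj_normalizer hdP (inv_mem (hcP n)))
        rw [hcommP (c n) (hcP n) _ h2, mul_inv_cancel_right, hcommP _ h2 _ h3]
    have hyeq : Y 0 = y := by simp [hY]
    have hey : ∀ n, n + 1 ≤ r → y⁻¹ * e (n + 1) * y * (y⁻¹ * (Y 0 * ⁅x, d⁆ * (Y 0)⁻¹) * y)⁻¹ ∈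
        centralizer (W : Set G) := by
      intro n
      induction n with
      | zero =>
        intro _
        have e0 : y⁻¹ * e (0 + 1) * y * (y⁻¹ * (Y 0 * ⁅x, d⁆ * (Y 0)⁻¹) * y)⁻¹ = 1 := by
          rw [hes, show e 0 = 1 from rfl]; group
        rw [e0]
        exact one_mem _
      | succ n ih =>
        intro hn
        have h1 := ih (by omega)
        set u := (Y (n + 1))⁻¹ * y with hu
        have h2 : u⁻¹ * ⁅x, d⁆ * u ∈ centralizer (W : Set G) :=
          translate hWV hPW hmin haP (hQP (mul_mem (inv_mem (hYQ _)) hy)) (hQV (mul_mem (inv_mem (hYQ _)) hy))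
            (hmove (n + 1) (Nat.succ_pos n) (by omega)) hwnull
        have hA1 : u⁻¹ * ⁅x, d⁆ * u ∈ P := mem_conj_normalizer' (hQP (mul_mem (inv_mem (hYQ _)) hy)) hwP
        have hA2 : y⁻¹ * (Y 0 * ⁅x, d⁆ * (Y 0)⁻¹) * y ∈ P :=
          mem_conj_normalizer' (hQP hy) (mem_conj_normalizer (hQP (hYQ 0)) hwP)
        have h3 := mul_mem h1 h2
        convert h3 using 1
        have h4 := hcommP _ (inv_mem hA2) _ hA1
        rw [hes (n + 1), mul_assoc _ _ (u⁻¹ * ⁅x, d⁆ * u), h4, hu]
        group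
    have hlast := hey (r - 1) (by have := hr.pos; omega)
    rw [show r - 1 + 1 = r by have := hr.pos; omega, ← hce, hyeq] at hlast
    have h5 : y⁻¹ * ⁅c r, d⁆ * y ∈ centralizer (W : Set G) :=
      translate hWV hPW hmin haP (hQP hy) (hQV hy) ⟨b₀, hb₀, hyb⟩ ⟨hmP, (hcommd _ (hcP r) hcfix).2, hm⟩
    have h6 := mul_mem (inv_mem h5) hlast
    rw [inv_mul_cancel_left] at h6
    refine hwW ?_
    have h7 := inv_mem h6
    convert h7 using 1
    group
  · push Not at hA
    have hQT : Q ≤ T := by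
      refine hQa.trans (sup_le ?_ fun y hy => hCT y hy.1 hy.2)
      rw [Subgroup.commutator_le]
      intro y hy t ht
      obtain ⟨i, rfl⟩ := mem_powers_iff_mem_zpowers.mpr ht
      have hstep : ∀ u ∈ Q, u⁻¹ * (a * u * a⁻¹) ∈ T := fun u hu =>
        conj_fixed_mod haP haQ hu hQP hBH fun b hb => ⟨mem_conj_normalizer' (hQP hu) (hBP hb), hA u hu b hb⟩
      induction i with
      | zero => simp
      | succ i ih =>
        have h1 := mul_mem (hstep y⁻¹ (inv_mem hy)) (mem_conj_normalizer haT (ih (Subgroup.pow_mem _ (mem_zpowers a) i)))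
        convert h1 using 1
        simp only [commutatorElement_def, pow_succ']
        group
    have hPQ : ⁅P, Q⁆ ≤ H0 := by
      rw [Subgroup.commutator_le]
      intro g hg y hy
      rw [← commutatorElement_inv]
      exact inv_mem ((hQT hy).2.2 g hg)
    have hd' : d * x⁻¹ * d⁻¹ ∈ ⁅P, Q⁆ := by
      have hle : ⁅P, Q⁆ ≤ (⁅P, Q⁆).comap (MulAut.conj d).toMonoidHom := by
        rw [Subgroup.commutator_le]
        intro g hg y hy
        show d * ⁅g, y⁆ * d⁻¹ ∈ ⁅P, Q⁆
        set g' := d * g * d⁻¹ with hg'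
        have hg'P : g' ∈ P := mem_conj_normalizer hdP hg
        have h1 := commutator_mem_commutator hg'P hy
        convert h1 using 1
        have h2 := hdconj y hy g⁻¹ (inv_mem hg)
        rw [commutatorElement_def, commutatorElement_def, show d * (g * y * g⁻¹ * y⁻¹) * d⁻¹ =
          g' * (d * (y * g⁻¹ * y⁻¹) * d⁻¹) by rw [hg']; group, h2, hg']
        group
      exact hle (inv_mem hx)
    refine hwW ((hPQ ?_).2)
    rw [commutatorElement_def, show x * d * x⁻¹ * d⁻¹ = x * (d * x⁻¹ * d⁻¹) by group]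
    exact mul_mem hx hd'

/-- Null elements vanish when a group acting trivially modulo them on the fixed points acts without
fixed points on the level below. -/
theorem null_eq_one [Finite G] {p q s r : ℕ} (hp : p.Prime) (hq : q.Prime) (hs : s.Prime) (hr : r.Prime)
    (hsp : s ≠ p) (hpr : p ≠ r) (hqr : q ≠ r) (hpq : p ≠ q) {a : G} (har : a ^ r = 1) {P Q F R V : Subgroup G}
    (hP : IsPGroup p P) [IsMulCommutative P] (hQ : IsPGroup q Q) (hV : Cfsg.IsElementaryAbelian s V)
    (haP : a ∈ normalizer (P : Set G)) (haQ : a ∈ normalizer (Q : Set G))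
    (hQP : Q ≤ normalizer (P : Set G)) (hPV : P ≤ normalizer (V : Set G)) (hQV : Q ≤ normalizer (V : Set G))
    (hfaith : P ⊓ centralizer (V : Set G) = ⊥)
    (hFQ : F ≤ Q) (hQQ : ⁅Q, Q⁆ ≤ F) (haF : a ∈ normalizer (F : Set G))
    (hfpf : ∀ y ∈ Q, y⁻¹ * (a * y * a⁻¹) ∈ F → y ∈ F)
    (hfrat : ∀ T ≤ Q, Q ⊓ centralizer (P : Set G) ≤ T → Q ≤ T ⊔ F → T = Q)
    (hPQ : P ⊓ centralizer (Q : Set G) = ⊥)
    (hRa : ∀ d ∈ R, a * d = d * a) (hRP : R ≤ normalizer (P : Set G)) (hRQ : R ≤ normalizer (Q : Set G))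
    (hRF : R ≤ normalizer (F : Set G)) (hRV : R ≤ normalizer (V : Set G)) (hRr : ¬ r ∣ Nat.card R)
    (hQR : Q ≤ ⁅Q, R⁆ ⊔ F)
    (hMR : ∀ c ∈ P, a * c = c * a → ∀ d ∈ R, Null a P V ⁅c, d⁆)
    {z : G} (hz : Null a P V z) : z = 1 := by
  classical
  haveI := Fact.mk hp
  haveI := Fact.mk hq
  haveI := Fact.mk hs
  have hcommP : ∀ g ∈ P, ∀ k ∈ P, g * k = k * g := fun g hg k hk =>
    congrArg Subtype.val (IsMulCommutative.is_comm.comm (⟨g, hg⟩ : ↥P) ⟨k, hk⟩)
  have hAP := zpowers_le_normalizer haP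
  set B := ⁅P, zpowers a⁆ with hB
  have hBP : B ≤ P := commutator_le_left_of_le_normalizer hAP
  obtain ⟨hzP, hza, hzV⟩ := hz
  refine eq_one_of_minimal hp hs hsp hP hV hBP hPV hfaith hzP hzV ?_
  intro W hWV hW0 hPW hmin hBW
  by_contra hzW
  set H0 := P ⊓ centralizer (W : Set G) with hH0
  have hBH : B ≤ H0 := le_inf hBP hBW
  set T := trivMod Q P H0 with hT
  have haH0 : a ∈ normalizer (H0 : Set G) := mem_normalizer_of_moved haP inf_le_left hBH (mem_zpowers a)
  have haT : a ∈ normalizer (T : Set G) := mem_normalizer_trivMod haP haQ haH0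
  set H := T ⊔ F with hH
  have hHQ : H ≤ Q := sup_le (fun y hy => hy.1) hFQ
  have haH : a ∈ normalizer (H : Set G) := by
    suffices h : zpowers a ≤ normalizer (H : Set G) from h (mem_zpowers a)
    refine invariant_iff.mp fun t ht x hx => ?_
    have h1 : (MulAut.conj t).toMonoidHom x ∈ (T ⊔ F).map (MulAut.conj t).toMonoidHom := mem_map_of_mem _ hx
    rw [Subgroup.map_sup, map_conj_eq_smul, mem_normalizer_iff_smul.mp (zpowers_le_normalizer haT ht),
      map_conj_eq_smul, mem_normalizer_iff_smul.mp (zpowers_le_normalizer haF ht)] at h1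
    exact h1
  have hQH : Q ≤ normalizer (H : Set G) := invariant_iff.mp fun g hg x hx => by
    have h1 : ⁅g, x⁆ ∈ H := Subgroup.mem_sup_right (hQQ (commutator_mem_commutator hg (hHQ hx)))
    have h2 := mul_mem h1 hx
    convert h2 using 1
    rw [commutatorElement_def]; group
  have hqH : ∀ U : Subgroup G, U ≤ Q → ¬ r ∣ Nat.card U := fun U hU =>
    not_dvd_card_of_pGroup hq hr hqr (hQ.to_le hU)
  have hfixF : ∀ y ∈ Q, a * y = y * a → y ∈ F := fun y hy hay => hfpf y hy (by
    rw [hay, mul_inv_cancel_right, inv_mul_cancel]; exact one_mem _)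
  have hcoset : ∀ y ∈ Q, y⁻¹ * (a * y * a⁻¹) ∈ H → y ∈ H := fun y hy h => by
    obtain ⟨c, hc, hca⟩ := exists_fixed_in_coset hr har H haH (hqH H hHQ) h
    have hcQ : c ∈ Q := by
      have h1 := mul_mem hy (hHQ hc)
      rwa [mul_inv_cancel_left] at h1
    have h2 := mul_mem (Subgroup.mem_sup_right (S := T) (hfixF c hcQ hca)) (inv_mem hc)
    rwa [mul_inv_rev, inv_inv, mul_inv_cancel_left] at h2
  have hmove : ∀ y ∈ Q, y ∉ H → ∀ n, Null a P V n → y⁻¹ * n * y ∈ centralizer (W : Set G) := by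
    intro y hy hyH n hn
    refine translate hWV hPW hmin haP (hQP hy) (hQV hy) ?_ hn
    by_contra hnot
    push Not at hnot
    exact hyH (hcoset y hy (Subgroup.mem_sup_left (conj_fixed_mod haP haQ hy hQP hBH fun b hb =>
      ⟨mem_conj_normalizer' (hQP hy) (hBP hb), hnot b hb⟩)))
  have hpowcoset : ∀ y ∈ Q, ∀ k, 0 < k → k < r → y⁻¹ * (a ^ k * y * (a ^ k)⁻¹) ∈ H → y ∈ H := by
    intro y hy k hk0 hkr h
    refine hcoset y hy ?_
    obtain ⟨j, hj⟩ : ∃ j, (a ^ k) ^ j = a := by
      refine exists_pow_eq_self_of_coprime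
        ((Nat.Coprime.symm ?_).coprime_dvd_right (orderOf_dvd_of_pow_eq_one har))
      exact hr.coprime_iff_not_dvd.mpr (Nat.not_dvd_of_pos_of_lt hk0 hkr)
    rw [← hj]
    have hstep : ∀ j : ℕ, y⁻¹ * ((a ^ k) ^ j * y * ((a ^ k) ^ j)⁻¹) ∈ H := by
      intro j
      induction j with
      | zero => simp
      | succ j ih =>
        have h1 := mul_mem h (mem_conj_normalizer (Subgroup.pow_mem _ haH k) ih)
        convert h1 using 1
        simp only [pow_succ']
        group
    exact hstep j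
  -- null elements are invariant under `R`
  have hRnull : ∀ d ∈ R, Null a P V (d * z⁻¹ * d⁻¹) := by
    intro d hd
    have hdB : d ∈ normalizer (B : Set G) := normalizer_commutator (zpowers_le_normalizer (hRP hd))
      (le_normalizer_of_commute fun g hg t ht =>
        (commute_zpowers' (commute_zpowers' (hRa d hd).symm hg).symm ht).symm) (mem_zpowers d)
    refine ⟨mem_conj_normalizer (hRP hd) (inv_mem hzP),
      (((show Commute a d from hRa d hd).mul_right (show Commute a z from hza).inv_right).mul_right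
        (show Commute a d from hRa d hd).inv_right).eq, fun v hv => ?_⟩
    have hvB : d⁻¹ * v * d ∈ ⁅V, B⁆ := mem_conj_normalizer'
      (normalizer_commutator (zpowers_le_normalizer (hRV hd)) (zpowers_le_normalizer hdB) (mem_zpowers d)) hv
    have h1 : z⁻¹ * (d⁻¹ * v * d) = (d⁻¹ * v * d) * z⁻¹ := (show Commute z _ from hzV _ hvB).inv_left.eq
    calc d * z⁻¹ * d⁻¹ * v = d * (z⁻¹ * (d⁻¹ * v * d)) * d⁻¹ := by group
      _ = d * ((d⁻¹ * v * d) * z⁻¹) * d⁻¹ := by rw [h1]
      _ = v * (d * z⁻¹ * d⁻¹) := by group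
  -- every coset is fixed by some twist of each element of `R`
  have hkey : ∀ d ∈ R, ∀ y ∈ Q, y ∉ H → ∃ k < r, (d * (a ^ k * y * (a ^ k)⁻¹) * d⁻¹)⁻¹ * y ∈ H := by
    intro d hd y hy hyH
    by_contra hnot
    push Not at hnot
    set Y : ℕ → G := fun k => a ^ k * y * (a ^ k)⁻¹ with hY
    have hYQ : ∀ k, Y k ∈ Q := fun k => mem_conj_normalizer (Subgroup.pow_mem _ haQ k) hy
    let c : ℕ → G := fun n => ((List.range n).map fun k => Y k * z * (Y k)⁻¹).prod
    have hcs : ∀ n, c (n + 1) = c n * (Y n * z * (Y n)⁻¹) := fun n => by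
      simp only [c, List.range_succ, List.map_append, List.prod_append, List.map_cons, List.map_nil,
        List.prod_cons, List.prod_nil, mul_one]
    have hcP : ∀ n, c n ∈ P := by
      intro n
      induction n with
      | zero => simp [c]
      | succ n ih => rw [hcs]; exact mul_mem ih (mem_conj_normalizer (hQP (hYQ n)) hzP)
    have haYz : ∀ k, a * (Y k * z * (Y k)⁻¹) * a⁻¹ = Y (k + 1) * z * (Y (k + 1))⁻¹ := by
      intro k
      have e : Y (k + 1) = a * Y k * a⁻¹ := by simp only [hY]; rw [pow_succ']; group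
      rw [e]
      have h1 : a⁻¹ * z * a = z := by rw [mul_assoc, ← hza, inv_mul_cancel_left]
      calc a * (Y k * z * (Y k)⁻¹) * a⁻¹ = a * (Y k * (a⁻¹ * z * a) * (Y k)⁻¹) * a⁻¹ := by rw [h1]
        _ = _ := by group
    have hca : ∀ n, a * c n * a⁻¹ * (Y 0 * z * (Y 0)⁻¹) = c (n + 1) := by
      intro n
      induction n with
      | zero => rw [hcs]; simp [c]
      | succ n ih =>
        conv_rhs => rw [hcs (n + 1), ← ih, ← haYz n]
        rw [hcs n]
        have h1 : a * (Y n * z * (Y n)⁻¹) * a⁻¹ * (Y 0 * z * (Y 0)⁻¹) =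
            (Y 0 * z * (Y 0)⁻¹) * (a * (Y n * z * (Y n)⁻¹) * a⁻¹) :=
          hcommP _ (mem_conj_normalizer haP (mem_conj_normalizer (hQP (hYQ n)) hzP)) _
            (mem_conj_normalizer (hQP (hYQ 0)) hzP)
        calc a * (c n * (Y n * z * (Y n)⁻¹)) * a⁻¹ * (Y 0 * z * (Y 0)⁻¹)
            = a * c n * a⁻¹ * (a * (Y n * z * (Y n)⁻¹) * a⁻¹ * (Y 0 * z * (Y 0)⁻¹)) := by group
          _ = a * c n * a⁻¹ * ((Y 0 * z * (Y 0)⁻¹) * (a * (Y n * z * (Y n)⁻¹) * a⁻¹)) := by rw [h1]
          _ = _ := by group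
    have hYr : Y r = Y 0 := by simp only [hY]; rw [har, pow_zero]
    have hcfix : a * c r = c r * a := by
      have h1 := hca r
      rw [hcs r, hYr] at h1
      exact mul_inv_eq_iff_eq_mul.mp (mul_right_cancel h1)
    have hyeq : Y 0 = y := by simp [hY]
    have hd1 : ∀ n, n ≤ r → y⁻¹ * (d * (c n)⁻¹ * d⁻¹) * y ∈ centralizer (W : Set G) := by
      intro n
      induction n with
      | zero => intro _; simp [c]
      | succ n ih =>
        intro hn
        have h1 := ih (by omega)
        set v := (d * Y n * d⁻¹)⁻¹ * y with hv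
        have hvQ : v ∈ Q := mul_mem (inv_mem (mem_conj_normalizer (hRQ hd) (hYQ n))) hy
        have h2 : v⁻¹ * (d * z⁻¹ * d⁻¹) * v ∈ centralizer (W : Set G) :=
          hmove v hvQ (hnot n (by omega)) _ (hRnull d hd)
        have h3 := mul_mem h2 h1
        convert h3 using 1
        rw [hcs, hv]
        group
    have hd2 : ∀ n, n + 1 ≤ r → y⁻¹ * c (n + 1) * y * z⁻¹ ∈ centralizer (W : Set G) := by
      intro n
      induction n with
      | zero => intro _; rw [hcs]; simp [c, hyeq, mul_assoc]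
      | succ n ih =>
        intro hn
        have h1 := ih (by omega)
        set u := (Y (n + 1))⁻¹ * y with hu
        have huQ : u ∈ Q := mul_mem (inv_mem (hYQ _)) hy
        have huH : u ∉ H := fun h => hyH (hpowcoset y hy (n + 1) (Nat.succ_pos n) (by omega) (by
          have h4 := inv_mem h
          rwa [hu, mul_inv_rev, inv_inv] at h4))
        have h2 := hmove u huQ huH z ⟨hzP, hza, hzV⟩
        have hA : u⁻¹ * z * u ∈ P := mem_conj_normalizer' (hQP huQ) hzP
        have h3 := mul_mem h1 h2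
        convert h3 using 1
        rw [hcs (n + 1), mul_assoc _ z⁻¹, hcommP _ (inv_mem hzP) _ hA, hu]
        group
    have h5 : y⁻¹ * ⁅c r, d⁆ * y ∈ centralizer (W : Set G) :=
      hmove y hy hyH _ (hMR _ (hcP r) hcfix d hd)
    have h6 := hd2 (r - 1) (by have := hr.pos; omega)
    rw [show r - 1 + 1 = r by have := hr.pos; omega] at h6
    have h7 := hd1 r le_rfl
    refine hzW ?_
    have h8 := mul_mem (inv_mem h6) (mul_mem h5 (inv_mem h7))
    convert h8 using 1
    rw [commutatorElement_def]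
    group
  -- `R` normalizes `H` and fixes every coset
  have hnorm : ∀ d ∈ R, d ∈ normalizer (H : Set G) := by
    intro d hd
    set L := H ⊓ H.comap (MulAut.conj d).toMonoidHom with hL
    have hL' : ∀ x, x ∈ L ↔ x ∈ H ∧ d * x * d⁻¹ ∈ H := fun x => Iff.rfl
    have hda : ∀ i : ℕ, (a ^ i) * d = d * a ^ i := fun i => ((show Commute a d from hRa d hd).pow_left i).eq
    have haL : ∀ i : ℕ, ∀ x ∈ L, (a ^ i) * x * (a ^ i)⁻¹ ∈ L := fun i x hx => by
      rw [hL'] at hx ⊢
      refine ⟨mem_conj_normalizer (Subgroup.pow_mem _ haH i) hx.1, ?_⟩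
      have h1 := mem_conj_normalizer (Subgroup.pow_mem _ haH i) hx.2
      convert h1 using 1
      calc d * (a ^ i * x * (a ^ i)⁻¹) * d⁻¹ = (d * a ^ i) * x * ((d * a ^ i)⁻¹) := by group
        _ = (a ^ i * d) * x * ((a ^ i * d)⁻¹) := by rw [hda]
        _ = _ := by group
    by_cases hHt : H = Q
    · rw [hHt]; exact hRQ hd
    obtain ⟨y, hy, hyH⟩ := SetLike.not_le_iff_exists.mp fun h => hHt (le_antisymm hHQ h)
    -- the index is at most `r`
    have hk : ∀ x : ↥H, ∃ k : Fin r, (d * (a ^ (k : ℕ) * (y * x) * (a ^ (k : ℕ))⁻¹) * d⁻¹)⁻¹ * y ∈ H := by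
      intro x
      obtain ⟨k, hk, h⟩ := hkey d hd (y * x) (mul_mem hy (hHQ x.2))
        fun h => hyH (by simpa using mul_mem h (inv_mem x.2))
      exact ⟨⟨k, hk⟩, by simpa [mul_assoc] using mul_mem h (inv_mem x.2)⟩
    choose f hf using hk
    have hfL : ∀ x x' : ↥H, f x = f x' → ((x : G))⁻¹ * x' ∈ L := by
      intro x x' hxx
      rw [hL']
      refine ⟨mul_mem (inv_mem x.2) x'.2, ?_⟩
      have h1 := hf x'
      rw [← hxx] at h1
      set k := (f x : ℕ) with hk
      have h0 := hf x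
      rw [← hk] at h0
      have h2 := mul_mem h0 (inv_mem h1)
      have h3 : d * (a ^ k * ((x : G)⁻¹ * x') * (a ^ k)⁻¹) * d⁻¹ ∈ H := by
        convert h2 using 1
        group
      have h4 := mem_conj_normalizer' (Subgroup.pow_mem _ haH k) h3
      convert h4 using 1
      calc d * ((x : G)⁻¹ * x') * d⁻¹
          = (a ^ k)⁻¹ * (a ^ k * d) * ((x : G)⁻¹ * x') * ((a ^ k * d)⁻¹) * a ^ k := by group
        _ = (a ^ k)⁻¹ * (d * a ^ k) * ((x : G)⁻¹ * x') * ((d * a ^ k)⁻¹) * a ^ k := by rw [hda]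
        _ = _ := by group
    have hle : L.relIndex H ≤ r := by
      let g : ↥H ⧸ L.subgroupOf H → Fin r := fun u => f (Quotient.out u)
      have hg : Function.Injective g := fun u v e => by
        have h1 := hfL _ _ e
        rw [← QuotientGroup.out_eq' u, ← QuotientGroup.out_eq' v, QuotientGroup.eq, Subgroup.mem_subgroupOf]
        exact h1
      have := Nat.card_le_card_of_injective g hg
      rwa [Nat.card_fin, ← Subgroup.index_eq_card] at this
    -- and congruent to one
    have hLH : L = H := by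
      by_contra hne
      have hlt : L ≤ H := inf_le_left
      have hindex : r ∣ L.relIndex H - 1 := by
        have hmul : Nat.card L * L.relIndex H = Nat.card H := by
          have h1 := Subgroup.card_mul_index (L.subgroupOf H)
          rwa [Nat.card_congr (Subgroup.subgroupOfEquivOfLe hlt).toEquiv] at h1
        have hco : r.Coprime (Nat.card L) := hr.coprime_iff_not_dvd.mpr (hqH L (hlt.trans hHQ))
        refine hco.dvd_of_dvd_mul_left ?_
        by_contra hnd
        obtain ⟨x, hx, hax⟩ := exists_fixed_of_invariant hr har ((H : Set G) \ L) (by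
          rintro x ⟨hx, hxL⟩
          refine ⟨mem_conj_normalizer haH hx, fun h => hxL ?_⟩
          have h1 := haL (r - 1) _ h
          rw [show a ^ (r - 1) = a⁻¹ from eq_inv_of_mul_eq_one_left (by
            rw [← pow_succ, show r - 1 + 1 = r by have := hr.pos; omega, har]),
            show a⁻¹ * (a * x * a⁻¹) * a⁻¹⁻¹ = x by group] at h1
          exact h1) (by
          rw [Nat.card_coe_set_eq, Set.ncard_sdiff hlt, ← Nat.card_coe_set_eq, ← Nat.card_coe_set_eq]
          rw [show Nat.card ↥(H : Set G) = Nat.card H from rfl, show Nat.card ↥(L : Set G) = Nat.card L from rfl]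
          rwa [← hmul, show Nat.card L * L.relIndex H - Nat.card L = Nat.card L * (L.relIndex H - 1) by
            rw [Nat.mul_sub, mul_one]])
        refine hx.2 ⟨hx.1, ?_⟩
        exact Subgroup.mem_sup_right (mem_conj_normalizer (hRF hd) (hfixF x (hHQ hx.1) hax))
      have h0 : L.relIndex H ≠ 0 := fun e => by
        have h3 := L.relIndex_dvd_card H
        rw [e, zero_dvd_iff] at h3
        exact Nat.card_pos.ne' h3
      have h1 : L.relIndex H ≠ 1 := fun e => hne (le_antisymm hlt (Subgroup.relIndex_eq_one.mp e))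
      have := Nat.le_of_dvd (by omega) hindex
      omega
    rw [← zpowers_le]
    refine invariant_iff.mp fun t ht x hx => ?_
    obtain ⟨i, rfl⟩ := mem_powers_iff_mem_zpowers.mpr ht
    show d ^ i * x * (d ^ i)⁻¹ ∈ H
    induction i with
    | zero => simpa using hx
    | succ i ih =>
      have h2 := (hL' _).mp (hLH.ge (ih (Subgroup.pow_mem _ (mem_zpowers d) i)))
      have h3 := h2.2
      convert h3 using 1
      rw [pow_succ']; group
  have hfix : ∀ d ∈ R, ∀ y ∈ Q, (d * y * d⁻¹)⁻¹ * y ∈ H := by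
    intro d hd y hy
    by_cases hyH : y ∈ H
    · exact mul_mem (inv_mem (mem_conj_normalizer (hnorm d hd) hyH)) hyH
    obtain ⟨k, hk, h⟩ := hkey d hd y hy hyH
    rcases Nat.eq_zero_or_pos k with rfl | hk0
    · simpa using h
    exfalso
    set e := d * a ^ k with he
    have heH : e ∈ normalizer (H : Set G) := mul_mem (hnorm d hd) (Subgroup.pow_mem _ haH k)
    have hiter : ∀ m : ℕ, (e ^ m * y * (e ^ m)⁻¹)⁻¹ * y ∈ H := by
      intro m
      induction m with
      | zero => simp
      | succ m ih =>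
        have h1 := mul_mem (mem_conj_normalizer heH ih) (show (e * y * e⁻¹)⁻¹ * y ∈ H by
          convert h using 1
          rw [he]; group)
        convert h1 using 1
        rw [pow_succ']; group
    set N := orderOf d with hN
    have hpow : e ^ N = a ^ (k * N) := by
      rw [he, (show Commute d (a ^ k) from ((show Commute a d from hRa d hd).pow_left k).symm).mul_pow,
        pow_orderOf_eq_one, one_mul, ← pow_mul]
    have hmod : ¬ r ∣ k * N := fun h1 => by
      rcases hr.dvd_mul.mp h1 with h2 | h2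
      · exact absurd (Nat.le_of_dvd hk0 h2) (by omega)
      · exact hRr (h2.trans (Subgroup.orderOf_dvd_natCard _ hd))
    have hmk : a ^ (k * N) = a ^ (k * N % r) := pow_eq_pow_mod _ har
    have h2 := inv_mem (hiter N)
    rw [hpow, hmk, mul_inv_rev, inv_inv] at h2
    exact hyH (hpowcoset y hy _ (Nat.pos_of_ne_zero fun h3 => hmod (Nat.dvd_of_mod_eq_zero h3))
      (Nat.mod_lt _ hr.pos) h2)
  have hT_eq : T = Q := by
    refine hfrat T (fun y hy => hy.1) (fun y hy => ⟨hy.1, hQP hy.1, fun g hg => by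
      rw [commutatorElement_eq_one_iff_mul_comm.mpr (mem_centralizer_iff.mp hy.2 g hg).symm]
      exact one_mem _⟩) (hQR.trans (sup_le ?_ le_sup_right))
    rw [Subgroup.commutator_le]
    intro y hy d hd
    show ⁅y, d⁆ ∈ H
    have h2 := inv_mem (hfix d hd y⁻¹ (inv_mem hy))
    convert h2 using 1
    rw [commutatorElement_def]
    group
  have hPH : P ≤ H0 := by
    intro g hg
    obtain ⟨m, hm, c, hc, rfl⟩ := exists_commutator_mul_fixed Q P hQP
      (IsPGroup.coprime_card_of_ne q p hpq.symm _ _ hQ hP)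
      (Or.inr (Group.isSolvable_of_comm fun x y => Subtype.ext (hcommP x x.2 y y.2))) hg
    rw [hPQ, mem_bot] at hc
    rw [hc, mul_one]
    have hle : ⁅P, Q⁆ ≤ H0 := by
      rw [Subgroup.commutator_le]
      intro g' hg' y hy
      rw [← commutatorElement_inv]
      exact inv_mem ((hT_eq.ge hy).2.2 g' hg')
    exact hle hm
  exact hzW (hPH hzP).2

/-- Null elements vanish when the operator is fixed-point-free on an abelian top level. -/
theorem null_eq_one_of_top [Finite G] {p q s r : ℕ} (hp : p.Prime) (hq : q.Prime) (hs : s.Prime) (hr : r.Prime)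
    (hsp : s ≠ p) (hpq : p ≠ q) (hqr : q ≠ r) {a : G} (har : a ^ r = 1) {P Q V : Subgroup G}
    (hP : IsPGroup p P) [IsMulCommutative P] (hQ : IsPGroup q Q) (hV : Cfsg.IsElementaryAbelian s V)
    (haP : a ∈ normalizer (P : Set G)) (haQ : a ∈ normalizer (Q : Set G))
    (hQP : Q ≤ normalizer (P : Set G)) (hPV : P ≤ normalizer (V : Set G)) (hQV : Q ≤ normalizer (V : Set G))
    (hfaith : P ⊓ centralizer (V : Set G) = ⊥)
    (hfpf : ∀ y ∈ Q, a * y = y * a → y ∈ centralizer (P : Set G))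
    (hPQ : P ⊓ centralizer (Q : Set G) = ⊥)
    {z : G} (hz : Null a P V z) : z = 1 := by
  classical
  haveI := Fact.mk hp
  haveI := Fact.mk hq
  haveI := Fact.mk hs
  have hcommP : ∀ g ∈ P, ∀ k ∈ P, g * k = k * g := fun g hg k hk =>
    congrArg Subtype.val (IsMulCommutative.is_comm.comm (⟨g, hg⟩ : ↥P) ⟨k, hk⟩)
  letI : CommGroup ↥P :=
    { (inferInstance : Group ↥P) with mul_comm := fun u v => IsMulCommutative.is_comm.comm u v }
  haveI : Fintype ↥Q := Fintype.ofFinite _
  have hAP := zpowers_le_normalizer haP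
  set B := ⁅P, zpowers a⁆ with hB
  have hBP : B ≤ P := commutator_le_left_of_le_normalizer hAP
  obtain ⟨hzP, hza, hzV⟩ := hz
  refine eq_one_of_minimal hp hs hsp hP hV hBP hPV hfaith hzP hzV ?_
  intro W hWV hW0 hPW hmin hBW
  set H0 := P ⊓ centralizer (W : Set G) with hH0
  have hBH : B ≤ H0 := le_inf hBP hBW
  set T := trivMod Q P H0 with hT
  have haT : a ∈ normalizer (T : Set G) :=
    mem_normalizer_trivMod haP haQ (mem_normalizer_of_moved haP inf_le_left hBH (mem_zpowers a))
  have hcoset : ∀ y ∈ Q, y⁻¹ * (a * y * a⁻¹) ∈ T → y ∈ T := fun y hy h => by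
    obtain ⟨c, hc, hca⟩ := exists_fixed_in_coset hr har T haT
      (not_dvd_card_of_pGroup hq hr hqr (hQ.to_le fun y hy => hy.1)) h
    have hcQ : c ∈ Q := by
      have h1 := mul_mem hy hc.1
      rwa [mul_inv_cancel_left] at h1
    have hcT : c ∈ T := ⟨hcQ, hQP hcQ, fun g hg => by
      rw [commutatorElement_eq_one_iff_mul_comm.mpr (mem_centralizer_iff.mp (hfpf c hcQ hca) g hg).symm]
      exact one_mem _⟩
    have h2 := mul_mem hcT (inv_mem hc)
    rwa [mul_inv_rev, inv_inv, mul_inv_cancel_left] at h2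
  let cj : ↥Q → ↥P := fun y => ⟨y * z * (y : G)⁻¹, mem_conj_normalizer (hQP y.2) hzP⟩
  -- the product over `Q` is trivial
  have hprod : ∏ y, cj y = 1 := by
    have hmem : ((∏ y, cj y : ↥P) : G) ∈ P ⊓ centralizer (Q : Set G) := by
      refine ⟨(∏ y, cj y).2, mem_centralizer_iff.mpr fun u hu => ?_⟩
      let φ : ↥P →* ↥P := ((P.normalizerMonoidHom ⟨u, hQP hu⟩ : MulAut ↥P)).toMonoidHom
      have h1 : φ (∏ y, cj y) = ∏ y, cj y := by
        rw [map_prod]
        refine Fintype.prod_equiv (Equiv.mulLeft (⟨u, hu⟩ : ↥Q)) _ _ fun y => Subtype.ext ?_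
        show u * ((y : G) * z * (y : G)⁻¹) * u⁻¹ = u * y * z * (u * y)⁻¹
        group
      have h2 : u * ((∏ y, cj y : ↥P) : G) * u⁻¹ = ((∏ y, cj y : ↥P) : G) := congrArg Subtype.val h1
      exact mul_inv_eq_iff_eq_mul.mp h2
    rw [hPQ, mem_bot] at hmem
    exact Subtype.ext hmem
  -- modulo the kernel it is a power of `z`
  set H' := H0.subgroupOf P with hH'
  have hval : ∀ y : ↥Q, ((cj y : ↥P) : ↥P ⧸ H') = if (y : G) ∈ T then ((⟨z, hzP⟩ : ↥P) : ↥P ⧸ H') else 1 := by
    intro y
    split_ifs with hy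
    · refine (QuotientGroup.eq.mpr ?_).symm
      show z⁻¹ * ((y : G) * z * (y : G)⁻¹) ∈ H0
      rw [hcommP _ (inv_mem hzP) _ (mem_conj_normalizer (hQP y.2) hzP)]
      have h1 := hy.2.2 z hzP
      convert h1 using 1
      rw [commutatorElement_def]
    · refine (QuotientGroup.eq_one_iff _).mpr ⟨mem_conj_normalizer (hQP y.2) hzP, ?_⟩
      have h1 : (y : G)⁻¹ ∉ T := fun h => hy (by simpa using inv_mem h)
      have h2 := translate hWV hPW hmin haP (hQP (inv_mem y.2)) (hQV (inv_mem y.2)) ?_ ⟨hzP, hza, hzV⟩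
      · simpa using h2
      by_contra hnot
      push Not at hnot
      exact h1 (hcoset _ (inv_mem y.2) (conj_fixed_mod haP haQ (inv_mem y.2) hQP hBH fun b hb =>
        ⟨mem_conj_normalizer' (hQP (inv_mem y.2)) (hBP hb), hnot b hb⟩))
  have hcard : ((⟨z, hzP⟩ : ↥P) : ↥P ⧸ H') ^ Nat.card T = 1 := by
    have h1 : ∏ y : ↥Q, ((cj y : ↥P) : ↥P ⧸ H') = 1 := by
      rw [← QuotientGroup.mk_prod, hprod]; rfl
    rw [Finset.prod_congr rfl fun y _ => hval y, Finset.prod_ite, Finset.prod_const, Finset.prod_const_one,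
      mul_one] at h1
    convert h1 using 2
    rw [← Fintype.card_subtype, ← Nat.card_eq_fintype_card]
    exact Nat.card_congr
      { toFun := fun t => ⟨⟨t, t.2.1⟩, t.2⟩
        invFun := fun y => ⟨y.1, y.2⟩
        left_inv := fun t => rfl
        right_inv := fun y => rfl }
  have hone : ((⟨z, hzP⟩ : ↥P) : ↥P ⧸ H') = 1 := by
    have hTq : IsPGroup q T := hQ.to_le fun y hy => hy.1
    have hco : (Nat.card T).Coprime (Nat.card P) := IsPGroup.coprime_card_of_ne q p hpq.symm _ _ hTq hP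
    refine orderOf_eq_one_iff.mp (Nat.dvd_one.mp ?_)
    rw [← hco.gcd_eq_one]
    exact Nat.dvd_gcd (orderOf_dvd_of_pow_eq_one hcard)
      ((orderOf_map_dvd (QuotientGroup.mk' H') _).trans (orderOf_dvd_natCard _))
  exact ((QuotientGroup.eq_one_iff _).mp hone).2

end Cfsg.Agent.Grp.Turull
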