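import Mathlib
import Cfsg.Agent.Lib.Grp.TurullHeight.Exceptional
import Cfsg.Agent.Lib.Grp.TurullHeight.Section
import Cfsg.Agent.Lib.Transfer.SFT.FittingLength

/-!
Towers of least order invariant under an operator.
-/

set_option autoImplicit false
set_option linter.unusedSectionVars false
set_option linter.style.haveILetI false

namespace Cfsg.Agent.Grp.Turull

open Subgroup
open Cfsg.Agent.Transfer.SFT.Height (killer dead dead_normalized normalizer_killer)
open scoped commutatorElement

variable {G : Type*} [Group G]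

/-- A tower invariant under an operator. -/
structure Tow (a : G) (X : Subgroup G) (m : ℕ) (P : ℕ → Subgroup G) (q : ℕ → ℕ) : Prop where
  prime : ∀ i ≤ m, (q i).Prime
  pgroup : ∀ i ≤ m, IsPGroup (q i) ↥(P i)
  le : ∀ i ≤ m, P i ≤ X
  inv : ∀ i ≤ m, a ∈ normalizer (P i : Set G)
  norm : ∀ i j, i ≤ j → j ≤ m → P i ≤ normalizer (P j : Set G)
  adj : ∀ i < m, q i ≠ q (i + 1)
  live : ¬ P 0 ≤ dead P m 0

/-- The total order of a tower. -/
noncomputable def size (m : ℕ) (P : ℕ → Subgroup G) : ℕ := ∑ i ∈ Finset.range (m + 1), Nat.card (P i)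

/-- A tower of least order. -/
structure MinTow (a : G) (X : Subgroup G) (m : ℕ) (P : ℕ → Subgroup G) (q : ℕ → ℕ) : Prop
    extends Tow a X m P q where
  minimal : ∀ P', Tow a X m P' q → size m P ≤ size m P'

theorem exists_minTow {a : G} {X : Subgroup G} {m : ℕ} {P : ℕ → Subgroup G} {q : ℕ → ℕ}
    (T : Tow a X m P q) : ∃ P', MinTow a X m P' q := by
  classical
  have h : ∃ N P', Tow a X m P' q ∧ size m P' = N := ⟨_, P, T, rfl⟩
  obtain ⟨P', T', e⟩ := Nat.find_spec h
  exact ⟨P', T', fun P'' T'' => e.le.trans (Nat.find_min' h ⟨P'', T'', rfl⟩)⟩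

/-- The kernel of the level `i`. -/
def kl (P : ℕ → Subgroup G) (m i : ℕ) : Subgroup G := dead P (m - i) i

/-- The Frattini subgroup of the level `i` above the kernel. -/
def fl (P : ℕ → Subgroup G) (m i : ℕ) : Subgroup G := phi (P i) ⊔ kl P m i

section Basic

variable {P : ℕ → Subgroup G} {m i : ℕ}

theorem kl_top (P : ℕ → Subgroup G) (m : ℕ) : kl P m m = ⊥ := by rw [kl, Nat.sub_self, dead]

theorem kl_succ (h : i < m) : kl P m i = P i ⊓ killer (P (i + 1)) (kl P m (i + 1)) := by
  rw [kl, kl, show m - i = (m - (i + 1)) + 1 by omega, dead]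

theorem kl_le (P : ℕ → Subgroup G) (m i : ℕ) : kl P m i ≤ P i := by
  rw [kl]
  cases m - i with
  | zero => rw [dead]; exact bot_le
  | succ k => rw [dead]; exact inf_le_left

theorem kl_le_fl (P : ℕ → Subgroup G) (m i : ℕ) : kl P m i ≤ fl P m i := le_sup_right

theorem fl_le (P : ℕ → Subgroup G) (m i : ℕ) : fl P m i ≤ P i := sup_le (phi_le _) (kl_le P m i)

theorem mem_kl_iff (h : i < m) {x : G} :
    x ∈ kl P m i ↔ x ∈ P i ∧ x ∈ normalizer (kl P m (i + 1) : Set G) ∧
      ∀ y ∈ P (i + 1), ⁅y, x⁆ ∈ kl P m (i + 1) := by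
  rw [kl_succ h]; exact Iff.rfl

theorem le_normalizer_kl {H : Subgroup G} (hi : i ≤ m)
    (h : ∀ l, i ≤ l → l ≤ m → H ≤ normalizer (P l : Set G)) : H ≤ normalizer (kl P m i : Set G) :=
  dead_normalized P (m - i) i fun l h1 h2 => h l h1 (by omega)

theorem le_normalizer_fl {H : Subgroup G} (hi : i ≤ m)
    (h : ∀ l, i ≤ l → l ≤ m → H ≤ normalizer (P l : Set G)) : H ≤ normalizer (fl P m i : Set G) :=
  le_normalizer_sup' ((h i le_rfl hi).trans (normalizer_le_phi _)) (le_normalizer_kl hi h)

theorem dead_update_gt (H : Subgroup G) : ∀ k l, i < l →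
    dead (Function.update P i H) k l = dead P k l := by
  intro k
  induction k with
  | zero => intro l _; rw [dead, dead]
  | succ k ih =>
    intro l hl
    rw [dead, dead, Function.update_of_ne (by omega), Function.update_of_ne (by omega), ih (l + 1) (by omega)]

theorem kl_update_gt (H : Subgroup G) {l : ℕ} (hl : i < l) :
    kl (Function.update P i H) m l = kl P m l := dead_update_gt H _ l hl

theorem kl_update_self {H : Subgroup G} (hi : i ≤ m) (hH : H ≤ P i) :
    kl (Function.update P i H) m i = H ⊓ kl P m i := by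
  rcases hi.eq_or_lt with rfl | hi
  · rw [kl_top, kl_top, inf_bot_eq]
  · rw [kl_succ hi, kl_succ hi, Function.update_self, Function.update_of_ne (by omega), kl_update_gt H (by omega),
      ← inf_assoc, inf_eq_left.mpr hH]

theorem kl_update_pred {H : Subgroup G} (hi : i + 1 ≤ m) (hH : H ≤ P (i + 1)) :
    kl (Function.update P (i + 1) H) m i = P i ⊓ killer H (H ⊓ kl P m (i + 1)) := by
  rw [kl_succ (by omega), Function.update_of_ne (by omega), Function.update_self, kl_update_self hi hH]

theorem kl_congr {P' : ℕ → Subgroup G} (hi : i ≤ m) (h : ∀ l ≤ i, P' l = P l)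
    (h0 : kl P' m i = kl P m i) : ∀ l ≤ i, kl P' m l = kl P m l := by
  intro l hl
  obtain ⟨d, rfl⟩ := Nat.exists_eq_add_of_le hl
  induction d generalizing l with
  | zero => exact h0
  | succ d ih =>
    have hlm : l < m := by omega
    have e : kl P' m (l + 1) = kl P m (l + 1) :=
      ih (l + 1) (by omega) (fun k hk => h k (by omega))
        (by rwa [show l + 1 + d = l + (d + 1) by omega]) (by omega)
    rw [kl_succ (P := P') hlm, kl_succ (P := P) hlm, h l (Nat.le_add_right _ _), h (l + 1) (by omega), e]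

/-- Coprime action through two steps. -/
theorem coprime_two_step [Finite G] {p : ℕ} (hp : p.Prime) {Q K' K : Subgroup G} {x : G}
    (hQ : IsPGroup p Q) (hK'Q : K' ≤ Q) (hQK : Q ≤ normalizer (K : Set G))
    (hxK : x ∈ normalizer (K : Set G))
    (hord : ¬ p ∣ orderOf x) (h1 : ∀ y ∈ Q, ⁅y, x⁆ ∈ K') (h2 : ∀ k ∈ K', ⁅k, x⁆ ∈ K) :
    ∀ y ∈ Q, ⁅y, x⁆ ∈ K := by
  haveI := Fact.mk hp
  intro y hy
  set k := ⁅y, x⁆ with hk
  have hkK : k ∈ K' := h1 y hy
  have hconj : ∀ n : ℕ, x ^ n * k * (x ^ n)⁻¹ * k⁻¹ ∈ K := by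
    intro n
    induction n with
    | zero => simp
    | succ n ih =>
      have e : ⁅k, x⁆⁻¹ = x * k * x⁻¹ * k⁻¹ := commutatorElement_inv k x
      have h3 := mul_mem (mem_conj_normalizer hxK ih) (inv_mem (h2 k hkK))
      rw [e] at h3
      convert h3 using 1
      rw [pow_succ']
      group
  have hstep : ∀ n : ℕ, ∃ w ∈ K, ⁅y, x ^ n⁆ = w * k ^ n := by
    intro n
    induction n with
    | zero => exact ⟨1, one_mem _, by simp⟩
    | succ n ih =>
      obtain ⟨w, hw, e⟩ := ih
      have e2 : ⁅y, x ^ (n + 1)⁆ = ⁅y, x ^ n⁆ * (x ^ n * ⁅y, x⁆ * (x ^ n)⁻¹) := by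
        rw [pow_succ]
        simp only [commutatorElement_def]
        group
      obtain ⟨v, hv, hv'⟩ : ∃ v ∈ K, x ^ n * k * (x ^ n)⁻¹ = v * k :=
        ⟨_, hconj n, by group⟩
      have hkn : k ^ n ∈ normalizer (K : Set G) := pow_mem (hQK (hK'Q hkK)) n
      refine ⟨w * (k ^ n * v * (k ^ n)⁻¹), mul_mem hw (mem_conj_normalizer hkn hv), ?_⟩
      rw [e2, e, ← hk, hv', pow_succ]
      group
  obtain ⟨w, hw, e⟩ := hstep (orderOf x)
  rw [pow_orderOf_eq_one, commutatorElement_one_right] at e
  have h3 : k ^ orderOf x ∈ K := by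
    rw [show k ^ orderOf x = w⁻¹ by rw [eq_inv_iff_mul_eq_one]; exact mul_eq_one_comm.mp e.symm]
    exact inv_mem hw
  obtain ⟨t, ht⟩ := hQ ⟨k, hK'Q hkK⟩
  have ht' : k ^ p ^ t = 1 := congrArg Subtype.val ht
  obtain ⟨l, hl⟩ := exists_pow_eq_self_of_coprime (x := k) (n := orderOf x)
    ((Nat.Coprime.pow_right t (hp.coprime_iff_not_dvd.mpr hord).symm).coprime_dvd_right
      (orderOf_dvd_of_pow_eq_one ht'))
  rw [← hl]
  exact pow_mem h3 l

end Basic

/-- Elements of a coprime group fixed modulo an abelian quotient lie in the kernel. -/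
theorem mem_of_fixed_mod [Finite G] {p q : ℕ} (hp : p.Prime) (hq : q.Prime) (hpq : p ≠ q)
    {Q A N : Subgroup G} (hQ : IsPGroup p Q) (hA : IsPGroup q A) (hAQ : A ≤ normalizer (Q : Set G))
    (hAN : A ≤ normalizer (N : Set G)) (hQN : Q ≤ normalizer (N : Set G)) (hab : ⁅Q, Q⁆ ≤ N)
    (hQA : Q ≤ ⁅Q, A⁆) {y : G} (hy : y ∈ Q) (hfix : ∀ x ∈ A, ⁅y, x⁆ ∈ N) : y ∈ N := by
  haveI := Fact.mk hp
  haveI := Fact.mk hq
  have hyH := hQN hy
  haveI : IsMulCommutative (img (normalizer (N : Set G)) N Q) := ⟨⟨by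
    rintro ⟨u, hu⟩ ⟨v, hv⟩
    obtain ⟨g, hg, hgQ, rfl⟩ := exists_of_mem_img hu
    obtain ⟨g', hg', hgQ', rfl⟩ := exists_of_mem_img hv
    exact Subtype.ext ((el_commute_iff hg hg').mpr (hab (commutator_mem_commutator hgQ hgQ')))⟩⟩
  have h := abelian_commutator_inf_fixed (img (normalizer (N : Set G)) N A) (img (normalizer (N : Set G)) N Q)
    (img_le_normalizer hAQ)
    (IsPGroup.coprime_card_of_ne q p hpq.symm _ _ (img_isPGroup hA) (img_isPGroup hQ))
  have hm : el (normalizer (N : Set G)) N y hyH ∈ (⊥ : Subgroup _) := by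
    rw [← h]
    refine ⟨⟨el_mem_img hyH hy, mem_centralizer_iff.mpr fun u hu => ?_⟩, ?_⟩
    · obtain ⟨x, hx, hxA, rfl⟩ := exists_of_mem_img hu
      exact ((el_commute_iff hyH hx).mpr (hfix x hxA)).symm
    · rw [← img_commutator hQN hAN]
      exact el_mem_img hyH (hQA hy)
  rw [mem_bot, el_eq_one] at hm
  exact hm

namespace Tow

variable {a : G} {X : Subgroup G} {m : ℕ} {P : ℕ → Subgroup G} {q : ℕ → ℕ}

theorem not_le_kl (T : Tow a X m P q) : ∀ i ≤ m, ¬ P i ≤ kl P m i := by
  intro i
  induction i with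
  | zero => intro _; exact T.live
  | succ i ih =>
    intro hi h
    refine ih (by omega) fun x hx => (mem_kl_iff (by omega)).mpr ⟨hx, ?_, fun y hy => ?_⟩
    · exact le_normalizer_kl hi (fun l h1 h2 => T.norm i l (by omega) h2) hx
    · exact h (commutator_le_left_of_le_normalizer (T.norm i (i + 1) (by omega) hi)
        (commutator_mem_commutator hy hx))

theorem norm_kl (T : Tow a X m P q) {i j : ℕ} (hij : i ≤ j) (hj : j ≤ m) :
    P i ≤ normalizer (kl P m j : Set G) :=
  le_normalizer_kl hj fun l h1 h2 => T.norm i l (hij.trans h1) h2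

theorem norm_fl (T : Tow a X m P q) {i j : ℕ} (hij : i ≤ j) (hj : j ≤ m) :
    P i ≤ normalizer (fl P m j : Set G) :=
  le_normalizer_fl hj fun l h1 h2 => T.norm i l (hij.trans h1) h2

theorem inv_kl (T : Tow a X m P q) {j : ℕ} (hj : j ≤ m) : a ∈ normalizer (kl P m j : Set G) :=
  le_normalizer_kl (H := zpowers a) hj (fun l _ h2 => zpowers_le_normalizer (T.inv l h2)) (mem_zpowers a)

theorem inv_fl (T : Tow a X m P q) {j : ℕ} (hj : j ≤ m) : a ∈ normalizer (fl P m j : Set G) :=
  le_normalizer_fl (H := zpowers a) hj (fun l _ h2 => zpowers_le_normalizer (T.inv l h2)) (mem_zpowers a)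

/-- Replacing a level by an invariant subgroup. -/
theorem update (T : Tow a X m P q) {i : ℕ} (hi : i ≤ m) {H : Subgroup G} (hH : H ≤ P i)
    (haH : a ∈ normalizer (H : Set G)) (hPH : ∀ l < i, P l ≤ normalizer (H : Set G))
    (hlive : ¬ Function.update P i H 0 ≤ dead (Function.update P i H) m 0) :
    Tow a X m (Function.update P i H) q where
  prime := T.prime
  pgroup l hl := by
    rcases eq_or_ne l i with rfl | hne
    · rw [Function.update_self]; exact (T.pgroup l hl).to_le hH
    · rw [Function.update_of_ne hne]; exact T.pgroup l hl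
  le l hl := by
    rcases eq_or_ne l i with rfl | hne
    · rw [Function.update_self]; exact hH.trans (T.le l hl)
    · rw [Function.update_of_ne hne]; exact T.le l hl
  inv l hl := by
    rcases eq_or_ne l i with rfl | hne
    · rw [Function.update_self]; exact haH
    · rw [Function.update_of_ne hne]; exact T.inv l hl
  norm l k hlk hk := by
    rcases eq_or_ne l i with rfl | hne <;> rcases eq_or_ne k l with rfl | hkl
    · exact le_normalizer
    · rw [Function.update_self, Function.update_of_ne hkl]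
      exact hH.trans (T.norm l k hlk hk)
    · exact le_normalizer
    · rcases eq_or_ne k i with rfl | hki
      · rw [Function.update_self, Function.update_of_ne hne]
        exact hPH l (lt_of_le_of_ne hlk hne)
      · rw [Function.update_of_ne hne, Function.update_of_ne hki]
        exact T.norm l k hlk hk
  adj := T.adj
  live := hlive

end Tow

theorem size_update_lt [Finite G] {m i : ℕ} {P : ℕ → Subgroup G} {H : Subgroup G} (hi : i ≤ m)
    (hH : H ≤ P i) (hne : ¬ P i ≤ H) : size m (Function.update P i H) < size m P := by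
  have hlt : Nat.card H < Nat.card (P i) := by
    refine lt_of_le_of_ne (Nat.le_of_dvd Nat.card_pos (card_dvd_of_le hH)) fun e => hne ?_
    exact ((SetLike.coe_set_eq.mp (Set.eq_of_subset_of_ncard_le hH
      (by rw [← Nat.card_coe_set_eq, ← Nat.card_coe_set_eq]; exact e.ge) (Set.toFinite _)))).ge
  refine Finset.sum_lt_sum (fun l _ => ?_) ⟨i, Finset.mem_range.mpr (by omega), by rwa [Function.update_self]⟩
  rcases eq_or_ne l i with rfl | hne
  · rw [Function.update_self]; exact hlt.le
  · rw [Function.update_of_ne hne]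

namespace MinTow

variable {a : G} {X : Subgroup G} {m : ℕ} {P : ℕ → Subgroup G} {q : ℕ → ℕ}

theorem not_live_update [Finite G] (T : MinTow a X m P q) {i : ℕ} (hi : i ≤ m) {H : Subgroup G}
    (hH : H ≤ P i) (haH : a ∈ normalizer (H : Set G)) (hPH : ∀ l < i, P l ≤ normalizer (H : Set G))
    (hne : ¬ P i ≤ H) : Function.update P i H 0 ≤ kl (Function.update P i H) m 0 := by
  by_contra hlive
  exact absurd (T.minimal _ (T.toTow.update hi hH haH hPH hlive)) (not_le.mpr (size_update_lt hi hH hne))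

theorem le_kl_zero [Finite G] (T : MinTow a X m P q) {H : Subgroup G} (hH : H ≤ P 0)
    (haH : a ∈ normalizer (H : Set G)) (hne : ¬ P 0 ≤ H) : H ≤ kl P m 0 := by
  have h := T.not_live_update (Nat.zero_le m) hH haH (fun l hl => absurd hl (Nat.not_lt_zero l)) hne
  rw [Function.update_self, kl_update_self (Nat.zero_le m) hH] at h
  exact h.trans inf_le_right

/-- Proper invariant subgroups of a level are centralized by the level above. -/
theorem commutator_le_kl [Finite G] (T : MinTow a X m P q) : ∀ i, i + 1 ≤ m → ∀ H : Subgroup G,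
    H ≤ P (i + 1) → a ∈ normalizer (H : Set G) → (∀ l ≤ i, P l ≤ normalizer (H : Set G)) →
    kl P m (i + 1) ≤ H → ¬ P (i + 1) ≤ H → ⁅H, P i⁆ ≤ kl P m (i + 1) := by
  intro i
  induction i with
  | zero =>
    intro hi H hH haH hPH hKH hne
    have h := T.not_live_update hi hH haH (fun l hl => hPH l (by omega)) hne
    rw [Function.update_of_ne (by omega), kl_update_pred hi hH] at h
    rw [Subgroup.commutator_le]
    exact fun y hy x hx => ((h hx).2.2 y hy).2
  | succ i ih =>
    intro hi H hH haH hPH hKH hne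
    have h := T.not_live_update hi hH haH (fun l hl => hPH l (by omega)) hne
    set P' := Function.update P (i + 1 + 1) H with hP'
    set K' := kl P' m (i + 1) with hK'
    have hK'e : K' = P (i + 1) ⊓ killer H (kl P m (i + 1 + 1)) := by
      rw [hK', kl_update_pred hi hH, inf_eq_right.mpr hKH]
    by_cases hfull : P (i + 1) ≤ K'
    · rw [Subgroup.commutator_le]
      intro y hy x hx
      have h2 := hfull hx
      rw [hK'e] at h2
      exact h2.2.2 y hy
    exfalso
    have hK'P : K' ≤ P (i + 1) := hK'e ▸ inf_le_left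
    have haK' : a ∈ normalizer (K' : Set G) := by
      rw [hK'e]
      exact le_normalizer_inf' (zpowers_le_normalizer (T.inv (i + 1) (by omega)))
        (normalizer_killer (zpowers_le_normalizer haH) (zpowers_le_normalizer (T.inv_kl hi))) (mem_zpowers a)
    have hPK' : ∀ l ≤ i + 1, P l ≤ normalizer (K' : Set G) := fun l hl => by
      rw [hK'e]
      exact le_normalizer_inf' (T.norm l (i + 1) hl (by omega))
        (normalizer_killer (hPH l hl) (T.norm_kl (by omega) hi))
    have hKK' : kl P m (i + 1) ≤ K' := fun x hx => by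
      rw [hK'e]
      obtain ⟨h1, h2, h3⟩ := (mem_kl_iff (by omega)).mp hx
      exact ⟨h1, h2, fun y hy => h3 y (hH hy)⟩
    have h1 := ih (by omega) K' hK'P haK' (fun l hl => hPK' l (by omega)) hKK' hfull
    have hPi : ∀ l ≤ i + 1, P' l = P l := fun l hl => Function.update_of_ne (by omega) _ _
    -- the level two steps above is unchanged
    have heq : kl P' m i = kl P m i := by
      rw [kl_succ (P := P') (show i < m by omega), kl_succ (P := P) (show i < m by omega),
        hPi i (by omega), hPi (i + 1) le_rfl, ← hK']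
      refine le_antisymm ?_ ?_
      · rintro x ⟨hx, -, hxk⟩
        refine ⟨hx, T.norm_kl (by omega) (by omega) hx, ?_⟩
        refine coprime_two_step (T.prime (i + 1) (by omega)) (T.pgroup (i + 1) (by omega)) hK'P
          (T.norm_kl le_rfl (by omega)) (T.norm_kl (by omega) (by omega) hx) ?_ hxk
          fun k hk => h1 (commutator_mem_commutator hk hx)
        haveI := Fact.mk (T.prime i (by omega))
        obtain ⟨t, ht⟩ := (T.pgroup i (by omega)) ⟨x, hx⟩
        intro hd
        have hd2 : q (i + 1) ∣ q i ^ t :=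
          hd.trans (orderOf_dvd_of_pow_eq_one (congrArg Subtype.val ht))
        exact T.adj i (by omega) ((Nat.prime_dvd_prime_iff_eq (T.prime (i + 1) (by omega))
          (T.prime i (by omega))).mp ((T.prime (i + 1) (by omega)).dvd_of_dvd_pow hd2)).symm
      · rintro x ⟨hx, -, hxk⟩
        exact ⟨hx, hPK' i (by omega) hx, fun y hy => hKK' (hxk y hy)⟩
    rw [hPi 0 (Nat.zero_le _), kl_congr (P := P) (P' := P') (show i ≤ m by omega)
      (fun l hl => hPi l (by omega)) heq 0 (Nat.zero_le i)] at h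
    exact T.live h

/-- A subgroup covering a level modulo the kernel is the whole level. -/
theorem eq_of_cover [Finite G] (T : MinTow a X m P q) {i : ℕ} (hi : i ≤ m) {H : Subgroup G}
    (hH : H ≤ P i) (haH : a ∈ normalizer (H : Set G)) (hPH : ∀ l < i, P l ≤ normalizer (H : Set G))
    (hcov : P i ≤ H ⊔ kl P m i) : H = P i := by
  refine le_antisymm hH ?_
  by_contra hne
  have h := T.not_live_update hi hH haH hPH hne
  rcases Nat.eq_zero_or_pos i with rfl | hpos
  · rw [Function.update_self, kl_update_self hi hH] at h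
    exact T.live (hcov.trans (sup_le (h.trans inf_le_right) le_rfl))
  · obtain ⟨l, rfl⟩ := Nat.exists_eq_add_of_le' hpos
    have heq : kl (Function.update P (l + 1) H) m l = kl P m l := by
      rw [kl_update_pred hi hH, kl_succ (show l < m by omega)]
      refine le_antisymm ?_ ?_
      · rintro x ⟨hx, -, hxk⟩
        have hxK := T.norm_kl (by omega) hi hx
        refine ⟨hx, hxK, fun y hy => ?_⟩
        have hy' := hcov hy
        rw [← SetLike.mem_coe, Subgroup.coe_mul_of_left_le_normalizer_right _ _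
          (hH.trans (T.norm_kl le_rfl hi))] at hy'
        obtain ⟨u, hu, k, hk, rfl⟩ := hy'
        have h1 : ⁅k, x⁆ ∈ kl P m (l + 1) := by
          rw [commutatorElement_def, show k * x * k⁻¹ * x⁻¹ = k * (x * k⁻¹ * x⁻¹) by group]
          exact mul_mem hk (mem_conj_normalizer hxK (inv_mem hk))
        show ⁅u * k, x⁆ ∈ kl P m (l + 1)
        rw [commutatorElement_mul_left_eq_conj_mul]
        exact mul_mem (mem_conj_normalizer (T.norm_kl le_rfl hi (hH hu)) h1) (hxk u hu).2
      · rintro x ⟨hx, -, hxk⟩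
        refine ⟨hx, le_normalizer_inf' (hPH l (by omega)) (T.norm_kl (by omega) hi) hx, fun y hy => ⟨?_, hxk y (hH hy)⟩⟩
        exact commutator_le_left_of_le_normalizer (hPH l (by omega)) (commutator_mem_commutator hy hx)
    rw [Function.update_of_ne (by omega), kl_congr (P := P) (show l ≤ m by omega)
      (fun k hk => Function.update_of_ne (by omega) _ _) heq 0 (Nat.zero_le l)] at h
    exact T.live h

/-- Each level is its commutator with the level above. -/
theorem eq_commutator [Finite G] (T : MinTow a X m P q) {i : ℕ} (hi : i + 1 ≤ m) :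
    ⁅P (i + 1), P i⁆ = P (i + 1) := by
  haveI := Fact.mk (T.prime i (by omega))
  haveI := Fact.mk (T.prime (i + 1) hi)
  have hle := commutator_le_left_of_le_normalizer (T.norm i (i + 1) (by omega) hi)
  set H := ⁅P (i + 1), P i⁆ with hH
  have haH : a ∈ normalizer (H : Set G) :=
    normalizer_commutator (zpowers_le_normalizer (T.inv (i + 1) hi))
      (zpowers_le_normalizer (T.inv i (by omega))) (mem_zpowers a)
  have hPH : ∀ l ≤ i, P l ≤ normalizer (H : Set G) := fun l hl =>
    normalizer_commutator (T.norm l (i + 1) (by omega) hi) (T.norm l i hl (by omega))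
  refine T.eq_of_cover hi hle haH (fun l hl => hPH l (by omega)) ?_
  by_contra hne
  have h := T.commutator_le_kl i hi (H ⊔ kl P m (i + 1)) (sup_le hle (kl_le P m _))
    (le_normalizer_sup' (zpowers_le_normalizer haH) (zpowers_le_normalizer (T.inv_kl hi)) (mem_zpowers a))
    (fun l hl => le_normalizer_sup' (hPH l hl) (T.norm_kl (by omega) hi)) le_sup_right hne
  have hHH : ⁅H, P i⁆ = H := commutator_commutator_eq (P i) (P (i + 1)) (T.norm i (i + 1) (by omega) hi)
    (IsPGroup.coprime_card_of_ne (q i) (q (i + 1)) (T.adj i (by omega)) _ _ (T.pgroup i (by omega))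
      (T.pgroup (i + 1) hi))
    (Or.inl (Grp.isSolvable_of_le le_rfl (haveI := (T.pgroup i (by omega)).isNilpotent; inferInstance)))
  have hHK : H ≤ kl P m (i + 1) := hHH ▸ (commutator_mono le_sup_left le_rfl).trans h
  refine T.not_le_kl i (by omega) fun x hx => (mem_kl_iff (by omega)).mpr
    ⟨hx, T.norm_kl (by omega) hi hx, fun y hy => hHK (commutator_mem_commutator hy hx)⟩

theorem not_le_fl [Finite G] (T : MinTow a X m P q) {i : ℕ} (hi : i ≤ m) : ¬ P i ≤ fl P m i := fun h =>
  T.not_le_kl i hi (eq_of_sup_phi (kl_le P m i) (h.trans (sup_comm _ _).le)).ge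

/-- The level above centralizes the Frattini subgroup modulo the kernel. -/
theorem fl_commutator [Finite G] (T : MinTow a X m P q) {i : ℕ} (hi : i + 1 ≤ m) :
    ⁅fl P m (i + 1), P i⁆ ≤ kl P m (i + 1) :=
  T.commutator_le_kl i hi _ (fl_le P m _) (T.inv_fl hi) (fun _ hl => T.norm_fl (by omega) hi)
    (kl_le_fl P m _) (T.not_le_fl hi)

theorem fl_zero [Finite G] (T : MinTow a X m P q) : fl P m 0 = kl P m 0 :=
  le_antisymm (T.le_kl_zero (fl_le P m 0) (T.inv_fl (Nat.zero_le m)) (T.not_le_fl (Nat.zero_le m)))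
    (kl_le_fl P m 0)

/-- The Frattini subgroup of a level is central modulo the kernel. -/
theorem fl_central [Finite G] (T : MinTow a X m P q) {i : ℕ} (hi : i ≤ m) {f g : G}
    (hf : f ∈ fl P m i) (hg : g ∈ P i) : ⁅g, f⁆ ∈ kl P m i := by
  rcases Nat.eq_zero_or_pos i with rfl | hpos
  · rw [T.fl_zero] at hf
    rw [commutatorElement_def]
    exact mul_mem (mem_conj_normalizer (T.norm_kl le_rfl hi hg) hf) (inv_mem hf)
  obtain ⟨l, rfl⟩ := Nat.exists_eq_add_of_le' hpos
  have hc : P (l + 1) ≤ centMod (fl P m (l + 1)) (kl P m (l + 1)) := by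
    have hPl : P l ≤ centMod (fl P m (l + 1)) (kl P m (l + 1)) := fun x hx =>
      ⟨T.norm_fl (by omega) hi hx, T.norm_kl (by omega) hi hx, fun u hu => by
        rw [← commutatorElement_inv]
        exact inv_mem (T.fl_commutator hi (commutator_mem_commutator hu hx))⟩
    have hP1 : P (l + 1) ≤ normalizer (centMod (fl P m (l + 1)) (kl P m (l + 1)) : Set G) :=
      (le_inf (T.norm_fl le_rfl hi) (T.norm_kl le_rfl hi)).trans (normalizer_inf_le_centMod _ _)
    rw [← T.eq_commutator hi, Subgroup.commutator_le]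
    intro y hy x hx
    rw [commutatorElement_def]
    exact mul_mem (mem_conj_normalizer (hP1 hy) (hPl hx)) (inv_mem (hPl hx))
  exact (hc hg).2.2 f hf

theorem commutator_le_fl [Finite G] (T : MinTow a X m P q) {i : ℕ} (hi : i ≤ m) :
    ⁅P i, P i⁆ ≤ fl P m i :=
  (commutator_le_phi (T.prime i hi) (T.pgroup i hi)).trans le_sup_left

theorem pow_mem_fl [Finite G] (T : MinTow a X m P q) {i : ℕ} (hi : i ≤ m) {x : G} (hx : x ∈ P i) :
    x ^ q i ∈ fl P m i :=
  mem_sup_left (pow_mem_phi (T.prime i hi) (T.pgroup i hi) hx)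

theorem commutator_le_kl_zero [Finite G] (T : MinTow a X m P q) : ⁅P 0, P 0⁆ ≤ kl P m 0 :=
  T.fl_zero ▸ T.commutator_le_fl (Nat.zero_le m)

/-- Elements fixed by the level above modulo the Frattini subgroup lie in it. -/
theorem mem_fl_of_fixed [Finite G] (T : MinTow a X m P q) {i : ℕ} (hi : i + 1 ≤ m) {y : G}
    (hy : y ∈ P (i + 1)) (h : ∀ x ∈ P i, ⁅y, x⁆ ∈ fl P m (i + 1)) : y ∈ fl P m (i + 1) :=
  mem_of_fixed_mod (T.prime (i + 1) hi) (T.prime i (by omega)) (T.adj i (by omega)).symm
    (T.pgroup (i + 1) hi) (T.pgroup i (by omega)) (T.norm i (i + 1) (by omega) hi) (T.norm_fl (by omega) hi)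
    (T.norm_fl le_rfl hi) (T.commutator_le_fl hi) (T.eq_commutator hi).ge hy h

/-- A level abelian modulo the kernel is elementary modulo the kernel. -/
theorem fl_eq_kl [Finite G] (T : MinTow a X m P q) {i : ℕ} (hi : i ≤ m)
    (hab : ⁅P i, P i⁆ ≤ kl P m i) : fl P m i = kl P m i := by
  rcases Nat.eq_zero_or_pos i with rfl | hpos
  · exact T.fl_zero
  obtain ⟨l, rfl⟩ := Nat.exists_eq_add_of_le' hpos
  refine le_antisymm (fun f hf => ?_) (kl_le_fl P m _)
  exact mem_of_fixed_mod (T.prime (l + 1) hi) (T.prime l (by omega)) (T.adj l (by omega)).symm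
    (T.pgroup (l + 1) hi) (T.pgroup l (by omega)) (T.norm l (l + 1) (by omega) hi) (T.norm_kl (by omega) hi)
    (T.norm_kl le_rfl hi) hab (T.eq_commutator hi).ge (fl_le P m _ hf)
    fun x hx => T.fl_commutator hi (commutator_mem_commutator hf hx)

/-- Elements central modulo the kernel in a non-abelian level lie in the Frattini subgroup. -/
theorem mem_fl_of_central [Finite G] (T : MinTow a X m P q) {i : ℕ} (hi : i + 1 ≤ m)
    (hab : ¬ ⁅P (i + 1), P (i + 1)⁆ ≤ kl P m (i + 1)) {g : G} (hg : g ∈ P (i + 1))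
    (h : ∀ y ∈ P (i + 1), ⁅g, y⁆ ∈ kl P m (i + 1)) : g ∈ fl P m (i + 1) := by
  set Z := P (i + 1) ⊓ centMod (P (i + 1)) (kl P m (i + 1)) with hZ
  have hgZ : g ∈ Z := ⟨hg, le_normalizer hg, T.norm_kl le_rfl hi hg, h⟩
  have hKZ : kl P m (i + 1) ≤ Z := fun x hx => by
    have hxP := kl_le P m _ hx
    refine ⟨hxP, le_normalizer hxP, le_normalizer hx, fun y hy => ?_⟩
    rw [commutatorElement_def, show x * y * x⁻¹ * y⁻¹ = x * (y * x⁻¹ * y⁻¹) by group]
    exact mul_mem hx (mem_conj_normalizer (T.norm_kl le_rfl hi hy) (inv_mem hx))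
  have hne : ¬ P (i + 1) ≤ Z := fun hle => hab <| by
    rw [Subgroup.commutator_le]
    exact fun x hx y hy => (hle hx).2.2.2 y hy
  have hZn : ∀ A : Subgroup G, A ≤ normalizer (P (i + 1) : Set G) → A ≤ normalizer (kl P m (i + 1) : Set G) →
      A ≤ normalizer (Z : Set G) := fun A h1 h2 =>
    le_normalizer_inf' h1 ((le_inf h1 h2).trans (normalizer_inf_le_centMod _ _))
  have h2 := T.commutator_le_kl i hi Z inf_le_left
    (hZn (zpowers a) (zpowers_le_normalizer (T.inv _ hi)) (zpowers_le_normalizer (T.inv_kl hi)) (mem_zpowers a))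
    (fun l hl => hZn _ (T.norm l (i + 1) (by omega) hi) (T.norm_kl (by omega) hi)) hKZ hne
  exact T.mem_fl_of_fixed hi hg fun x hx => kl_le_fl P m _ (h2 (commutator_mem_commutator hgZ hx))

end MinTow

end Cfsg.Agent.Grp.Turull
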