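import Mathlib
import Cfsg.Agent.Lib.Grp.TurullHeight.Minimal

/-!
The first level of a least tower moved by the operator.
-/

set_option autoImplicit false
set_option linter.unusedSectionVars false
set_option linter.style.haveILetI false

namespace Cfsg.Agent.Grp.Turull

open Subgroup
open scoped commutatorElement

variable {G : Type*} [Group G] [Finite G] {a : G} {X : Subgroup G} {m r : ℕ} {P : ℕ → Subgroup G}
  {q : ℕ → ℕ}

namespace MinTow

theorem not_dvd_card (T : MinTow a X m P q) (hr : r.Prime) (hrX : ¬ r ∣ Nat.card X) {i : ℕ} (hi : i ≤ m)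
    {U : Subgroup G} (hU : U ≤ P i) : ¬ r ∣ Nat.card U := fun h =>
  hrX (h.trans (card_dvd_of_le (hU.trans (T.le i hi))))

/-- A level moved only within its kernel is centralized. -/
theorem le_centralizer_of_unmoved (T : MinTow a X m P q) (hr : r.Prime) (har : a ^ r = 1)
    (hrX : ¬ r ∣ Nat.card X) {i : ℕ} (hi : i ≤ m) (hlow : ∀ l < i, P l ≤ centralizer ({a} : Set G))
    (h : ⁅P i, zpowers a⁆ ≤ kl P m i) : P i ≤ centralizer ({a} : Set G) := by
  have hac : a ∈ centralizer ({a} : Set G) := mem_centralizer_singleton_iff.mpr rfl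
  have e : P i ⊓ centralizer ({a} : Set G) = P i := by
    refine T.eq_of_cover hi inf_le_left
      (le_normalizer_inf' (zpowers_le_normalizer (T.inv i hi))
        ((zpowers_le.mpr hac).trans le_normalizer) (mem_zpowers a))
      (fun l hl => le_normalizer_inf' (T.norm l i hl.le hi) ((hlow l hl).trans le_normalizer)) ?_
    intro y hy
    have h1 : y⁻¹ * (a * y * a⁻¹) ∈ kl P m i := by
      have h2 := h (commutator_mem_commutator (inv_mem hy) (mem_zpowers a))
      convert h2 using 1
      rw [commutatorElement_def]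
      group
    obtain ⟨c, hc, hca⟩ := exists_fixed_in_coset hr har (kl P m i) (T.inv_kl hi)
      (T.not_dvd_card hr hrX hi (kl_le P m i)) h1
    have hcP : c ∈ P i := by
      have h2 := mul_mem hy (kl_le P m i hc)
      rwa [mul_inv_cancel_left] at h2
    have h3 := mul_mem (mem_sup_left (T := kl P m i) (mem_inf_centralizer.mpr ⟨hcP, hca⟩))
      (inv_mem (mem_sup_right (S := P i ⊓ centralizer ({a} : Set G)) hc))
    rwa [mul_inv_rev, inv_inv, mul_inv_cancel_left] at h3
  exact e.ge.trans inf_le_right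

/-- The first moved level is covered by its moved part. -/
theorem moved_cover (T : MinTow a X m P q) (hr : r.Prime) (har : a ^ r = 1)
    (hrX : ¬ r ∣ Nat.card X) {i : ℕ} (hi : i ≤ m) (hlow : ∀ l < i, P l ≤ centralizer ({a} : Set G))
    (hne : ¬ ⁅P i, zpowers a⁆ ≤ kl P m i) : P i ≤ ⁅P i, zpowers a⁆ ⊔ kl P m i := by
  have hAP := zpowers_le_normalizer (T.inv i hi)
  have hle := commutator_le_left_of_le_normalizer hAP
  set H := ⁅P i, zpowers a⁆ ⊔ kl P m i with hH
  have hHP : H ≤ P i := sup_le hle (kl_le P m i)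
  have haH : a ∈ normalizer (H : Set G) := le_normalizer_sup' (normalizer_commutator hAP le_normalizer)
    (zpowers_le_normalizer (T.inv_kl hi)) (mem_zpowers a)
  by_contra hn
  rcases Nat.eq_zero_or_pos i with rfl | hpos
  · exact hne (le_sup_left.trans (T.le_kl_zero hHP haH hn))
  obtain ⟨l, rfl⟩ := Nat.exists_eq_add_of_le' hpos
  have hPH : ∀ k ≤ l, P k ≤ normalizer (H : Set G) := fun k hk =>
    le_normalizer_sup' (normalizer_commutator (T.norm k (l + 1) (by omega) hi)
      (le_normalizer_of_commute fun g hg t ht =>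
        (commute_zpowers' (mem_centralizer_singleton_iff.mp (hlow k (by omega) hg)).symm ht).symm))
      (T.norm_kl (by omega) hi)
  have hHl := T.commutator_le_kl l hi H hHP haH hPH le_sup_right hn
  have hcent : P (l + 1) ≤ centMod H (kl P m (l + 1)) := by
    have hPl : P l ≤ centMod H (kl P m (l + 1)) := fun x hx =>
      ⟨hPH l le_rfl hx, T.norm_kl (by omega) hi hx, fun u hu => by
        rw [← commutatorElement_inv]
        exact inv_mem (hHl (commutator_mem_commutator hu hx))⟩
    have hP1 : P (l + 1) ≤ normalizer (centMod H (kl P m (l + 1)) : Set G) :=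
      (le_inf (le_normalizer_sup' (left_le_normalizer_commutator _ _) (T.norm_kl le_rfl hi))
        (T.norm_kl le_rfl hi)).trans (normalizer_inf_le_centMod _ _)
    rw [← T.eq_commutator hi, Subgroup.commutator_le]
    intro y hy x hx
    rw [commutatorElement_def]
    exact mul_mem (mem_conj_normalizer (hP1 hy) (hPl hx)) (inv_mem (hPl hx))
  set D := (P (l + 1) ⊓ centralizer ({a} : Set G)) ⊔ kl P m (l + 1) with hD
  have hPD : P (l + 1) ≤ D := by
    rw [← T.eq_commutator hi, Subgroup.commutator_le]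
    intro y hy x hx
    obtain ⟨u, hu, c, hc, rfl⟩ := exists_commutator_mul_fixed (zpowers a) (P (l + 1)) hAP
      (coprime_zpowers har hr (T.not_dvd_card hr hrX hi le_rfl))
      (Or.inl (Group.isSolvable_of_comm mul_comm')) hy
    obtain ⟨hcP, hca⟩ := mem_fixed.mp hc
    have hxa : a * x = x * a := (mem_centralizer_singleton_iff.mp (hlow l (Nat.lt_succ_self l) hx)).symm
    have hw : ⁅c, x⁆ ∈ P (l + 1) ⊓ centralizer ({a} : Set G) := mem_inf_centralizer.mpr
      ⟨commutator_le_left_of_le_normalizer (T.norm l (l + 1) (by omega) hi)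
        (commutator_mem_commutator hcP hx),
        (((show Commute a c from hca).mul_right (show Commute a x from hxa)).mul_right
          (show Commute a c from hca).inv_right).mul_right (show Commute a x from hxa).inv_right |>.eq⟩
    rw [commutatorElement_mul_left_eq_conj_mul]
    refine mul_mem ?_ (mem_sup_right (hHl (commutator_mem_commutator (mem_sup_left hu) hx)))
    rw [show u * ⁅c, x⁆ * u⁻¹ = ⁅⁅c, x⁆, u⁆⁻¹ * ⁅c, x⁆ by simp only [commutatorElement_def]; group]
    exact mul_mem (mem_sup_right (inv_mem ((hcent hw.1).2.2 u (mem_sup_left hu)))) (mem_sup_left hw)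
  refine hne ?_
  rw [Subgroup.commutator_le]
  intro y hy t ht
  have hy' := hPD hy
  rw [← SetLike.mem_coe, Subgroup.coe_mul_of_left_le_normalizer_right _ _
    (inf_le_left.trans (T.norm_kl le_rfl hi))] at hy'
  obtain ⟨c, hc, k, hk, rfl⟩ := hy'
  obtain ⟨hcP, hca⟩ := mem_inf_centralizer.mp hc
  show ⁅c * k, t⁆ ∈ kl P m (l + 1)
  rw [commutatorElement_mul_left_eq_conj_mul,
    commutatorElement_eq_one_iff_mul_comm.mpr (commute_zpowers' hca ht).symm, mul_one]
  refine mem_conj_normalizer (T.norm_kl le_rfl hi hcP) ?_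
  rw [commutatorElement_def, show k * t * k⁻¹ * t⁻¹ = k * (t * k⁻¹ * t⁻¹) by group]
  exact mul_mem hk (mem_conj_normalizer (zpowers_le_normalizer (T.inv_kl hi) ht) (inv_mem hk))

/-- Fixed elements of a covered level lie in its Frattini subgroup. -/
theorem fixed_mem_fl (T : MinTow a X m P q) (hr : r.Prime) (har : a ^ r = 1)
    (hrX : ¬ r ∣ Nat.card X) {i : ℕ} (hi : i ≤ m) (hcov : P i ≤ ⁅P i, zpowers a⁆ ⊔ kl P m i)
    {y : G} (hy : y ∈ P i) (hya : y⁻¹ * (a * y * a⁻¹) ∈ fl P m i) : y ∈ fl P m i := by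
  have hAP := zpowers_le_normalizer (T.inv i hi)
  set U := ⁅P i, zpowers a⁆ with hU
  have hUP : U ≤ P i := commutator_le_left_of_le_normalizer hAP
  have hy' := hcov hy
  rw [← SetLike.mem_coe, Subgroup.coe_mul_of_left_le_normalizer_right _ _
    (hUP.trans (T.norm_kl le_rfl hi))] at hy'
  obtain ⟨h, hh, k, hk, rfl⟩ := hy'
  have hkF := kl_le_fl P m i hk
  have haU : a ∈ normalizer (U : Set G) := normalizer_commutator hAP le_normalizer (mem_zpowers a)
  have h1 : h⁻¹ * (a * h * a⁻¹) ∈ U ⊓ fl P m i := by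
    refine Subgroup.mem_inf.mpr ⟨mul_mem (inv_mem hh) (mem_conj_normalizer haU hh), ?_⟩
    have h2 : (h⁻¹ * (a * h * a⁻¹)) * (a * k * a⁻¹) ∈ fl P m i := by
      have h3 := mul_mem hkF hya
      convert h3 using 1
      group
    have h4 : h⁻¹ * (a * h * a⁻¹) * (a * k * a⁻¹) * (a * k * a⁻¹)⁻¹ ∈ fl P m i :=
      mul_mem h2 (inv_mem (mem_conj_normalizer (T.inv_fl hi) hkF))
    rwa [mul_inv_cancel_right] at h4
  obtain ⟨c, hc, hca⟩ := exists_fixed_in_coset hr har (U ⊓ fl P m i)
    (le_normalizer_inf' (zpowers_le_normalizer haU) (zpowers_le_normalizer (T.inv_fl hi)) (mem_zpowers a))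
    (T.not_dvd_card hr hrX hi (inf_le_left.trans hUP)) h1
  have hcU : c ∈ U := by
    have h2 := mul_mem hh hc.1
    rwa [mul_inv_cancel_left] at h2
  have hcF : c ∈ fl P m i := mem_of_commutator_fixed hr har (T.inv i hi) (T.norm_fl le_rfl hi) (fl_le P m i)
    (T.commutator_le_fl hi) (T.not_dvd_card hr hrX hi le_rfl) hcU hca
  have hhF : h ∈ fl P m i := by
    have h2 := mul_mem hcF (inv_mem hc.2)
    rwa [mul_inv_rev, inv_inv, mul_inv_cancel_left] at h2
  exact mul_mem hhF hkF

end MinTow

end Cfsg.Agent.Grp.Turull
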