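import Mathlib
import Cfsg.Agent.Lib.Grp.TurullHeight.Moved
import Cfsg.Agent.Lib.Grp.TurullHeight.Middle

/-!
Two adjacent levels of a least tower as a group acting faithfully on a module.
-/

set_option autoImplicit false
set_option linter.unusedSectionVars false
set_option linter.style.haveILetI false

namespace Cfsg.Agent.Grp.Turull

open Subgroup
open scoped commutatorElement

variable {G : Type*} [Group G]

section Pre

variable (H K : Subgroup G) [(K.subgroupOf H).Normal]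

/-- The preimage in `H` of a subgroup of `H / K`. -/
def pre (U : Subgroup (↥H ⧸ K.subgroupOf H)) : Subgroup G :=
  (U.comap (QuotientGroup.mk' (K.subgroupOf H))).map H.subtype

variable {H K}

theorem mem_pre {U : Subgroup (↥H ⧸ K.subgroupOf H)} {x : G} :
    x ∈ pre H K U ↔ ∃ hx : x ∈ H, el H K x hx ∈ U :=
  ⟨fun ⟨y, hy, e⟩ => e ▸ ⟨y.2, hy⟩, fun ⟨hx, h⟩ => ⟨⟨x, hx⟩, h, rfl⟩⟩

theorem el_mem_of_mem_pre {U : Subgroup (↥H ⧸ K.subgroupOf H)} {x : G} (h : x ∈ pre H K U) (hx : x ∈ H) :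
    el H K x hx ∈ U := (mem_pre.mp h).2

theorem img_inf_pre {X : Subgroup G} {U : Subgroup (↥H ⧸ K.subgroupOf H)} (h : U ≤ img H K X) :
    img H K (X ⊓ pre H K U) = U := by
  refine le_antisymm (fun g hg => ?_) fun g hg => ?_
  · obtain ⟨x, hx, hxU, rfl⟩ := exists_of_mem_img hg
    exact el_mem_of_mem_pre hxU.2 hx
  · obtain ⟨x, hx, hxX, rfl⟩ := exists_of_mem_img (h hg)
    exact el_mem_img hx ⟨hxX, mem_pre.mpr ⟨hx, hg⟩⟩

theorem le_normalizer_pre {U : Subgroup (↥H ⧸ K.subgroupOf H)} {x : G} (hx : x ∈ H)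
    (h : el H K x hx ∈ normalizer (U : Set _)) : x ∈ normalizer (pre H K U : Set G) := by
  rw [Subgroup.mem_normalizer_iff]
  intro g
  constructor
  · intro hg
    obtain ⟨hgH, hgU⟩ := mem_pre.mp hg
    refine mem_pre.mpr ⟨mul_mem (mul_mem hx hgH) (inv_mem hx), ?_⟩
    rw [el_mul (mul_mem hx hgH) (inv_mem hx), el_mul hx hgH, el_inv hx]
    exact mem_conj_normalizer h hgU
  · intro hg
    obtain ⟨hgH, hgU⟩ := mem_pre.mp hg
    have hgH' : g ∈ H := by
      have h1 := mul_mem (mul_mem (inv_mem hx) hgH) hx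
      convert h1 using 1
      group
    refine mem_pre.mpr ⟨hgH', ?_⟩
    have h1 : el H K (x * g * x⁻¹) hgH = el H K x hx * el H K g hgH' * (el H K x hx)⁻¹ := rfl
    rw [h1] at hgU
    exact (Subgroup.mem_normalizer_iff.mp h _).mpr hgU

theorem img_phi_le [Finite G] {p : ℕ} (hp : p.Prime) {X : Subgroup G} (hX : IsPGroup p X) (hXH : X ≤ H) :
    img H K (phi X) ≤ phi (img H K X) := by
  have hle : phi X ≤ X ⊓ pre H K (phi (img H K X)) := by
    refine phi_le_of hp inf_le_left (le_normalizer_inf' le_normalizer fun x hx =>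
      le_normalizer_pre (hXH hx) (normalizer_le_phi _ (le_normalizer (el_mem_img (hXH hx) hx)))) ?_ ?_
    · rw [Subgroup.commutator_le]
      intro x hx y hy
      refine Subgroup.mem_inf.mpr ⟨mul_mem (mul_mem (mul_mem hx hy) (inv_mem hx)) (inv_mem hy),
        mem_pre.mpr ⟨mul_mem (mul_mem (mul_mem (hXH hx) (hXH hy)) (inv_mem (hXH hx))) (inv_mem (hXH hy)), ?_⟩⟩
      rw [← el_commutator (hXH hx) (hXH hy)]
      exact commutator_le_phi hp (img_isPGroup hX)
        (commutator_mem_commutator (el_mem_img _ hx) (el_mem_img _ hy))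
    · intro x hx
      refine Subgroup.mem_inf.mpr ⟨pow_mem hx p, mem_pre.mpr ⟨pow_mem (hXH hx) p, ?_⟩⟩
      rw [el_pow (hXH hx)]
      exact pow_mem_phi hp (img_isPGroup hX) (el_mem_img _ hx)
  intro g hg
  obtain ⟨x, hx, hxP, rfl⟩ := exists_of_mem_img hg
  exact el_mem_of_mem_pre (hle hxP).2 hx

end Pre

/-- A fixed element of an abelian level is good or null. -/
theorem good_or_null [Finite G] {p s r : ℕ} (hp : p.Prime) (hs : s.Prime) (hr : r.Prime) (hsp : s ≠ p)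
    (hpr : p ≠ r) (hsr : s ≠ r) {a : G} (har : a ^ r = 1) {P V : Subgroup G} (hP : IsPGroup p P)
    [IsMulCommutative P] (hV : Cfsg.IsElementaryAbelian s V) (haP : a ∈ normalizer (P : Set G))
    (haV : a ∈ normalizer (V : Set G)) (hPV : P ≤ normalizer (V : Set G)) {z : G} (hz : z ∈ P)
    (hza : a * z = z * a) : Good a P V z ∨ Null a P V z := by
  haveI := Fact.mk hp
  haveI := Fact.mk hs
  refine or_iff_not_imp_left.mpr fun hg => ⟨hz, hza, ?_⟩
  have hcommP : ∀ g ∈ P, ∀ k ∈ P, g * k = k * g := fun g hg k hk =>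
    congrArg Subtype.val (IsMulCommutative.is_comm.comm (⟨g, hg⟩ : ↥P) ⟨k, hk⟩)
  have hAP := zpowers_le_normalizer haP
  set B := ⁅P, zpowers a⁆ with hB
  have hBP : B ≤ P := commutator_le_left_of_le_normalizer hAP
  have haB : a ∈ normalizer (B : Set G) := normalizer_commutator hAP le_normalizer (mem_zpowers a)
  haveI : IsMulCommutative B := ⟨⟨fun u v => Subtype.ext (hcommP u (hBP u.2) v (hBP v.2))⟩⟩
  have hcA : (Nat.card (zpowers a)).Coprime (Nat.card P) :=
    coprime_zpowers har hr (not_dvd_card_of_pGroup hp hr hpr hP)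
  have hBfix : ∀ b ∈ B, a * b = b * a → b = 1 := by
    intro b hb hab
    have h1 : b ∈ (P ⊓ centralizer (zpowers a : Set G)) ⊓ ⁅P, zpowers a⁆ := ⟨mem_fixed.mpr ⟨hBP hb, hab⟩, hb⟩
    rwa [abelian_commutator_inf_fixed (zpowers a) P hAP hcA, mem_bot] at h1
  refine centralize_commutator_part hs hp hp hr hsp hsp hsr hpr har (hP.to_le hBP) haB hBfix hV haV
    (hBP.trans hPV) (hP.to_le (zpowers_le.mpr hz)) (hPV hz) hza (fun y hy => hcommP _ hz y (hBP hy)) ?_
  intro v hv hav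
  by_contra hne
  exact hg ⟨B, hBP, haB, (commutator_commutator_eq (zpowers a) P hAP hcA
    (Or.inl (Group.isSolvable_of_comm mul_comm'))).ge, fun c hc _ y hy => hcommP c (hBP hc) y (hBP hy),
    fun y hy => hcommP _ hz y (hBP hy), v, hv, hav, hne⟩

/-- The kernel of the frame at level `i`. -/
def nf (P : ℕ → Subgroup G) (m i : ℕ) : Subgroup G := kl P m i ⊔ fl P m (i + 1)

/-- The group of the frame at level `i`. -/
abbrev hf (P : ℕ → Subgroup G) (m i : ℕ) : Subgroup G := normalizer (nf P m i : Set G)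

/-- The image of a subgroup in the frame at level `i`. -/
abbrev fimg (P : ℕ → Subgroup G) (m i : ℕ) (Y : Subgroup G) :
    Subgroup (↥(hf P m i) ⧸ (nf P m i).subgroupOf (hf P m i)) := img (hf P m i) (nf P m i) Y

/-- The image of an element in the frame at level `i`. -/
abbrev fel (P : ℕ → Subgroup G) (m i : ℕ) (x : G) (hx : x ∈ hf P m i) :
    ↥(hf P m i) ⧸ (nf P m i).subgroupOf (hf P m i) := el (hf P m i) (nf P m i) x hx

namespace MinTow

variable [Finite G] {a : G} {X : Subgroup G} {m r : ℕ} {P : ℕ → Subgroup G}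
  {q : ℕ → ℕ}

theorem P_inf_succ (T : MinTow a X m P q) {i : ℕ} (hi : i + 1 ≤ m) : P i ⊓ P (i + 1) = ⊥ := by
  haveI := Fact.mk (T.prime i (by omega))
  haveI := Fact.mk (T.prime (i + 1) hi)
  exact inf_eq_bot_of_coprime (IsPGroup.coprime_card_of_ne (q i) (q (i + 1)) (T.adj i (by omega)) _ _
    (T.pgroup i (by omega)) (T.pgroup (i + 1) hi))

theorem mem_nf (T : MinTow a X m P q) {i : ℕ} (hi : i + 1 ≤ m) {x : G} (hx : x ∈ nf P m i) :
    ∃ k ∈ kl P m i, ∃ f ∈ fl P m (i + 1), x = k * f := by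
  rw [nf, ← SetLike.mem_coe, Subgroup.coe_mul_of_left_le_normalizer_right _ _
    ((kl_le P m i).trans (T.norm_fl (by omega) hi))] at hx
  obtain ⟨k, hk, f, hf, rfl⟩ := hx
  exact ⟨k, hk, f, hf, rfl⟩

theorem mem_kl_of_nf (T : MinTow a X m P q) {i : ℕ} (hi : i + 1 ≤ m) {x : G} (hx : x ∈ P i)
    (hn : x ∈ nf P m i) : x ∈ kl P m i := by
  obtain ⟨k, hk, f, hf, rfl⟩ := T.mem_nf hi hn
  have h1 : f ∈ P i ⊓ P (i + 1) := ⟨by
    have h2 := mul_mem (inv_mem (kl_le P m i hk)) hx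
    rwa [inv_mul_cancel_left] at h2, fl_le P m _ hf⟩
  rw [T.P_inf_succ hi, mem_bot] at h1
  rwa [h1, mul_one]

theorem mem_fl_of_nf (T : MinTow a X m P q) {i : ℕ} (hi : i + 1 ≤ m) {x : G} (hx : x ∈ P (i + 1))
    (hn : x ∈ nf P m i) : x ∈ fl P m (i + 1) := by
  obtain ⟨k, hk, f, hf, rfl⟩ := T.mem_nf hi hn
  have h1 : k ∈ P i ⊓ P (i + 1) := ⟨kl_le P m i hk, by
    have h2 := mul_mem hx (inv_mem (fl_le P m _ hf))
    rwa [mul_inv_cancel_right] at h2⟩
  rw [T.P_inf_succ hi, mem_bot] at h1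
  rwa [h1, one_mul]

theorem P_le_hf (T : MinTow a X m P q) {i l : ℕ} (hi : i + 1 ≤ m) (hl : l ≤ i + 1) : P l ≤ hf P m i := by
  rcases hl.eq_or_lt with rfl | hl
  · refine invariant_iff.mp fun y hy x hx => ?_
    obtain ⟨k, hk, f, hf, rfl⟩ := T.mem_nf hi hx
    rw [show y * (k * f) * y⁻¹ = ⁅y, k⁆ * k * (y * f * y⁻¹) by simp only [commutatorElement_def]; group]
    exact mul_mem (mul_mem (mem_sup_right (kl_le_fl P m _ (((mem_kl_iff (by omega)).mp hk).2.2 y hy)))
      (mem_sup_left hk)) (mem_sup_right (mem_conj_normalizer (T.norm_fl le_rfl hi hy) hf))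
  · exact le_normalizer_sup' (T.norm_kl (by omega) (by omega)) (T.norm_fl (by omega) hi)

theorem a_mem_hf (T : MinTow a X m P q) {i : ℕ} (hi : i + 1 ≤ m) : a ∈ hf P m i :=
  le_normalizer_sup' (zpowers_le_normalizer (T.inv_kl (by omega))) (zpowers_le_normalizer (T.inv_fl hi))
    (mem_zpowers a)

theorem fel_pow_r (T : MinTow a X m P q) {i : ℕ} (hi : i + 1 ≤ m) (har : a ^ r = 1) :
    fel P m i a (T.a_mem_hf hi) ^ r = 1 := by
  rw [← el_pow, el_eq_one, har]; exact one_mem _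

theorem q_ne (T : MinTow a X m P q) (hr : r.Prime) (hrX : ¬ r ∣ Nat.card X) {i : ℕ} (hi : i ≤ m) :
    q i ≠ r := by
  intro e
  haveI := Fact.mk (T.prime i hi)
  obtain ⟨n, hn⟩ := (T.pgroup i hi).exists_card_eq
  rcases Nat.eq_zero_or_pos n with rfl | hn0
  · refine T.not_le_kl i hi ?_
    rw [pow_zero] at hn
    rw [Subgroup.card_eq_one.mp hn]
    exact bot_le
  · exact T.not_dvd_card hr hrX hi le_rfl (hn ▸ e ▸ dvd_pow_self _ (by omega))

theorem frame_elemAb (T : MinTow a X m P q) {i : ℕ} (hi : i + 1 ≤ m) :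
    Cfsg.IsElementaryAbelian (q (i + 1)) (fimg P m i (P (i + 1))) :=
  img_elemAb (fun x hx _ => mem_sup_right (T.pow_mem_fl hi hx))
    (fun x hx y hy => mem_sup_right (T.commutator_le_fl hi (commutator_mem_commutator hx hy)))

theorem frame_abelian (T : MinTow a X m P q) {i : ℕ} (hab : ⁅P i, P i⁆ ≤ kl P m i) :
    IsMulCommutative (fimg P m i (P i)) := by
  refine ⟨⟨?_⟩⟩
  rintro ⟨u, hu⟩ ⟨v, hv⟩
  obtain ⟨g, hg, hgQ, rfl⟩ := exists_of_mem_img hu
  obtain ⟨g', hg', hgQ', rfl⟩ := exists_of_mem_img hv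
  exact Subtype.ext ((el_commute_iff hg hg').mpr (mem_sup_left (hab (commutator_mem_commutator hgQ hgQ'))))

/-- An element centralizes the lower module of a frame exactly when it moves it into the Frattini subgroup. -/
theorem fel_centralizer_succ (T : MinTow a X m P q) {i : ℕ} (hi : i + 1 ≤ m) {x : G} (hx : x ∈ hf P m i)
    (hxn : x ∈ normalizer (P (i + 1) : Set G)) :
    fel P m i x hx ∈ centralizer (fimg P m i (P (i + 1)) : Set _) ↔ ∀ y ∈ P (i + 1), ⁅y, x⁆ ∈ fl P m (i + 1) := by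
  constructor
  · intro h y hy
    refine T.mem_fl_of_nf hi ?_ ?_
    · rw [commutatorElement_def, show y * x * y⁻¹ * x⁻¹ = y * (x * y⁻¹ * x⁻¹) by group]
      exact mul_mem hy (mem_conj_normalizer hxn (inv_mem hy))
    · exact (el_commute_iff (T.P_le_hf hi le_rfl hy) hx).mp
        (mem_centralizer_iff.mp h _ (el_mem_img _ hy))
  · intro h
    refine mem_centralizer_iff.mpr fun u hu => ?_
    obtain ⟨y, hy, hyP, rfl⟩ := exists_of_mem_img hu
    exact (el_commute_iff hy hx).mpr (mem_sup_right (h y hyP))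

theorem fel_centralizer (T : MinTow a X m P q) {i : ℕ} (hi : i + 1 ≤ m) {x : G} (hx : x ∈ hf P m i)
    (hxn : x ∈ normalizer (P i : Set G)) :
    fel P m i x hx ∈ centralizer (fimg P m i (P i) : Set _) ↔ ∀ y ∈ P i, ⁅y, x⁆ ∈ kl P m i := by
  constructor
  · intro h y hy
    refine T.mem_kl_of_nf hi ?_ ?_
    · rw [commutatorElement_def, show y * x * y⁻¹ * x⁻¹ = y * (x * y⁻¹ * x⁻¹) by group]
      exact mul_mem hy (mem_conj_normalizer hxn (inv_mem hy))
    · exact (el_commute_iff (T.P_le_hf hi (by omega) hy) hx).mp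
        (mem_centralizer_iff.mp h _ (el_mem_img _ hy))
  · intro h
    refine mem_centralizer_iff.mpr fun u hu => ?_
    obtain ⟨y, hy, hyP, rfl⟩ := exists_of_mem_img hu
    exact (el_commute_iff hy hx).mpr (mem_sup_left (h y hyP))

theorem frame_faith (T : MinTow a X m P q) {i : ℕ} (hi : i + 1 ≤ m) :
    fimg P m i (P i) ⊓ centralizer (fimg P m i (P (i + 1)) : Set _) = ⊥ := by
  refine (Subgroup.eq_bot_iff_forall _).mpr fun u hu => ?_
  obtain ⟨x, hx, hxP, rfl⟩ := exists_of_mem_img hu.1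
  rw [el_eq_one]
  refine mem_sup_left ((mem_kl_iff (by omega)).mpr ⟨hxP, T.norm_kl (by omega) hi hxP, ?_⟩)
  refine coprime_two_step (T.prime (i + 1) hi) (T.pgroup (i + 1) hi) (fl_le P m _) (T.norm_kl le_rfl hi)
    (T.norm_kl (by omega) hi hxP) ?_
    ((T.fel_centralizer_succ hi hx (T.norm i (i + 1) (by omega) hi hxP)).mp hu.2)
    (fun k hk => T.fl_commutator hi (commutator_mem_commutator hk hxP))
  haveI := Fact.mk (T.prime i (by omega))
  obtain ⟨t, ht⟩ := (T.pgroup i (by omega)) ⟨x, hxP⟩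
  intro hd
  have hd2 : q (i + 1) ∣ q i ^ t := hd.trans (orderOf_dvd_of_pow_eq_one (congrArg Subtype.val ht))
  exact T.adj i (by omega) ((Nat.prime_dvd_prime_iff_eq (T.prime (i + 1) hi)
    (T.prime i (by omega))).mp ((T.prime (i + 1) hi).dvd_of_dvd_pow hd2)).symm

theorem frame_phi_le (T : MinTow a X m P q) {i : ℕ} (hi : i + 1 ≤ m) :
    phi (fimg P m i (P i)) ≤ fimg P m i (fl P m i) :=
  phi_le_of (T.prime i (by omega)) (img_mono (fl_le P m i)) (img_le_normalizer (T.norm_fl le_rfl (by omega)))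
    (by
      rw [← img_commutator (T.P_le_hf hi (by omega)) (T.P_le_hf hi (by omega))]
      exact img_mono (T.commutator_le_fl (by omega)))
    (fun u hu => by
      obtain ⟨x, hx, hxP, rfl⟩ := exists_of_mem_img hu
      rw [← el_pow]
      exact el_mem_img _ (T.pow_mem_fl (by omega) hxP))

theorem fimg_fl_le (T : MinTow a X m P q) {i : ℕ} (hi : i + 1 ≤ m) :
    fimg P m i (fl P m i) ≤ phi (fimg P m i (P i)) := by
  have hP := T.P_le_hf hi (show i ≤ i + 1 by omega)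
  intro u hu
  obtain ⟨x, hx, hxF, rfl⟩ := exists_of_mem_img hu
  rw [fl, ← SetLike.mem_coe, Subgroup.coe_mul_of_left_le_normalizer_right _ _
    ((phi_le _).trans (T.norm_kl le_rfl (by omega)))] at hxF
  obtain ⟨f, hf, k, hk, rfl⟩ := hxF
  have hfH := hP (phi_le _ hf)
  have hkH := hP (kl_le P m i hk)
  rw [el_mul hfH hkH, (el_eq_one hkH).mpr (show k ∈ nf P m i from mem_sup_left hk), mul_one]
  exact img_phi_le (T.prime i (by omega)) (T.pgroup i (by omega)) hP (el_mem_img hfH hf)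

/-- A good image gives an invariant subgroup and a moved fixed element of the level below. -/
theorem lift_good (T : MinTow a X m P q) (hr : r.Prime) (har : a ^ r = 1) (hrX : ¬ r ∣ Nat.card X) {i : ℕ}
    (hi : i + 1 ≤ m) {z : G} (hzP : z ∈ P i)
    (hgood : Good (fel P m i a (T.a_mem_hf hi)) (fimg P m i (P i)) (fimg P m i (P (i + 1)))
      (fel P m i z (T.P_le_hf hi (Nat.le_succ i) hzP))) :
    ∃ Y ≤ P i, a ∈ normalizer (Y : Set G) ∧ kl P m i ≤ Y ∧ Y ≤ ⁅Y, zpowers a⁆ ⊔ kl P m i ∧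
      (∀ c ∈ Y, a * c = c * a → ∀ y ∈ Y, ⁅c, y⁆ ∈ kl P m i) ∧ (∀ y ∈ Y, ⁅z, y⁆ ∈ kl P m i) ∧
      ∃ x ∈ ⁅P (i + 1), Y⁆, a * x = x * a ∧ ⁅x, z⁆ ∉ fl P m (i + 1) := by
  obtain ⟨Y', hY', haY', hYY', hfix, hzY', v, hv, hva, hvz⟩ := hgood
  set Y := P i ⊓ pre (hf P m i) (nf P m i) Y' with hY
  have hYP : Y ≤ P i := inf_le_left
  have hPH : P i ≤ hf P m i := T.P_le_hf hi (Nat.le_succ i)
  have hYH : Y ≤ hf P m i := hYP.trans hPH
  have haH := T.a_mem_hf hi
  have hYimg : fimg P m i Y = Y' := img_inf_pre hY'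
  have hcomm : ∀ c ∈ P i, ∀ y ∈ P i, ⁅c, y⁆ ∈ nf P m i → ⁅c, y⁆ ∈ kl P m i := fun c hc y hy h =>
    T.mem_kl_of_nf hi (mul_mem (mul_mem (mul_mem hc hy) (inv_mem hc)) (inv_mem hy)) h
  have haY : a ∈ normalizer (Y : Set G) :=
    le_normalizer_inf' (zpowers_le_normalizer (T.inv i (by omega)))
      (zpowers_le_normalizer (le_normalizer_pre haH haY')) (mem_zpowers a)
  have hKY : kl P m i ≤ Y := fun k hk => Subgroup.mem_inf.mpr ⟨kl_le P m i hk,
    mem_pre.mpr ⟨hPH (kl_le P m i hk), by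
      rw [(el_eq_one _).mpr (show k ∈ nf P m i from mem_sup_left hk)]; exact one_mem _⟩⟩
  have hAY := zpowers_le_normalizer haY
  have hYAP : ⁅Y, zpowers a⁆ ≤ Y := commutator_le_left_of_le_normalizer hAY
  refine ⟨Y, hYP, haY, hKY, fun y hy => ?_, fun c hc hca y hy => ?_, fun y hy => ?_, ?_⟩
  · have h1 : fel P m i y (hYH hy) ∈ fimg P m i ⁅Y, zpowers a⁆ := by
      show _ ∈ img (hf P m i) (nf P m i) ⁅Y, zpowers a⁆
      rw [img_commutator hYH (zpowers_le.mpr haH), img_zpowers haH,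
        show img (hf P m i) (nf P m i) Y = Y' from hYimg]
      exact hYY' (hYimg ▸ el_mem_img _ hy)
    obtain ⟨u, hu, huH, hk⟩ := (el_mem_img_iff _).mp h1
    have hk' : u⁻¹ * y ∈ kl P m i :=
      T.mem_kl_of_nf hi (mul_mem (inv_mem (hYP (hYAP hu))) (hYP hy)) hk
    have h2 := mul_mem (mem_sup_left (T := kl P m i) hu) (mem_sup_right (S := ⁅Y, zpowers a⁆) hk')
    rwa [mul_inv_cancel_left] at h2
  · refine hcomm c (hYP hc) y (hYP hy) ((el_commute_iff (hYH hc) (hYH hy)).mp ?_)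
    exact hfix _ (hYimg ▸ el_mem_img _ hc) (el_commute haH (hYH hc) hca) _ (hYimg ▸ el_mem_img _ hy)
  · exact hcomm z hzP y (hYP hy) ((el_commute_iff (hPH hzP) (hYH hy)).mp (hzY' _ (hYimg ▸ el_mem_img _ hy)))
  · have hP1 : P (i + 1) ≤ hf P m i := T.P_le_hf hi le_rfl
    rw [← hYimg, ← img_commutator hP1 hYH] at hv
    obtain ⟨x, hx, hxX, rfl⟩ := exists_of_mem_img hv
    have hYn : Y ≤ normalizer (P (i + 1) : Set G) := hYP.trans (T.norm i (i + 1) (by omega) hi)
    have hXP : ⁅P (i + 1), Y⁆ ≤ P (i + 1) := commutator_le_left_of_le_normalizer hYn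
    obtain ⟨c, hc, hxc, hca⟩ := el_fixed_img hr har haH
      (normalizer_commutator (zpowers_le_normalizer (T.inv (i + 1) hi)) hAY (mem_zpowers a))
      haH (T.not_dvd_card hr hrX hi (inf_le_left.trans hXP)) hxX hx hva
    refine ⟨c, hc, hca, fun hfl => hvz ?_⟩
    have hcH := hP1 (hXP hc)
    rw [(el_eq_el hx hcH).mpr hxc]
    exact ((el_commute_iff hcH (hPH hzP)).mpr (show _ ∈ nf P m i from mem_sup_right hfl)).symm

end MinTow

end Cfsg.Agent.Grp.Turull
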