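import Mathlib
import Cfsg.Agent.Lib.Grp.TurullHeight.Frame
import Cfsg.Agent.Lib.Grp.TurullHeight.Special

/-!
Good fixed elements on the level below the first moved one.
-/

set_option autoImplicit false
set_option linter.unusedSectionVars false
set_option linter.style.haveILetI false

namespace Cfsg.Agent.Grp.Turull

open Subgroup
open scoped commutatorElement

variable {G : Type*} [Group G]

theorem not_good_one {a : G} {P V : Subgroup G} (h : Good a P V 1) : False := by
  obtain ⟨Y, -, -, -, -, -, v, -, -, hne⟩ := h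
  exact hne (by rw [one_mul, mul_one])

namespace MinTow

variable [Finite G] {a : G} {X : Subgroup G} {m r : ℕ} {P : ℕ → Subgroup G}
  {q : ℕ → ℕ}

/-- The level above a frame meets its kernel in its own kernel. -/
theorem mem_kl_of_prev (T : MinTow a X m P q) {l : ℕ} (hl : l + 1 + 1 ≤ m) {u : G} (hu : u ∈ P l)
    (hn : u ∈ nf P m (l + 1)) : u ∈ kl P m l := by
  refine (mem_kl_iff (by omega)).mpr ⟨hu, T.norm_kl (by omega) (by omega) hu, ?_⟩
  refine (T.fel_centralizer hl (T.P_le_hf hl (by omega) hu) (T.norm l (l + 1) (by omega) (by omega) hu)).mp ?_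
  show el (hf P m (l + 1)) (nf P m (l + 1)) u _ ∈ _
  rw [(el_eq_one _).mpr hn]
  exact one_mem _

theorem prev_kl_centralizer (T : MinTow a X m P q) {l : ℕ} (hl : l + 1 + 1 ≤ m) {u : G} (hu : u ∈ kl P m l)
    (hH : u ∈ hf P m (l + 1)) : fel P m (l + 1) u hH ∈ centralizer (fimg P m (l + 1) (P (l + 1)) : Set _) :=
  (T.fel_centralizer hl hH (T.norm l (l + 1) (by omega) (by omega) (kl_le P m l hu))).mpr
    ((mem_kl_iff (by omega)).mp hu).2.2

theorem frame_cover (T : MinTow a X m P q) {l : ℕ} (hl : l + 1 + 1 ≤ m)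
    (hcov : P l ≤ ⁅P l, zpowers a⁆ ⊔ kl P m l) :
    fimg P m (l + 1) (P l) ≤ ⁅fimg P m (l + 1) (P l), zpowers (fel P m (l + 1) a (T.a_mem_hf hl))⁆ ⊔
      (fimg P m (l + 1) (P l) ⊓ centralizer (fimg P m (l + 1) (P (l + 1)) : Set _)) := by
  intro g hg
  obtain ⟨y, hyH, hy, rfl⟩ := exists_of_mem_img hg
  have hA := commutator_le_left_of_le_normalizer (zpowers_le_normalizer (T.inv l (by omega)))
  have hy' := hcov hy
  rw [← SetLike.mem_coe, Subgroup.coe_mul_of_left_le_normalizer_right _ _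
    (hA.trans (T.norm_kl le_rfl (by omega)))] at hy'
  obtain ⟨u, hu, v, hv, rfl⟩ := hy'
  have huH := T.P_le_hf hl (show l ≤ l + 1 + 1 by omega) (hA hu)
  have hvH := T.P_le_hf hl (show l ≤ l + 1 + 1 by omega) (kl_le P m l hv)
  rw [el_mul huH hvH]
  refine mul_mem (mem_sup_left ?_)
    (mem_sup_right ⟨el_mem_img hvH (kl_le P m l hv), T.prev_kl_centralizer hl hv hvH⟩)
  rw [← img_zpowers (T.a_mem_hf hl), ← img_commutator (T.P_le_hf hl (show l ≤ l + 1 + 1 by omega))
    (zpowers_le.mpr (T.a_mem_hf hl))]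
  exact el_mem_img huH hu

/-- Fixed elements of a non-abelian level below a covered one are good. -/
theorem good_of_special (T : MinTow a X m P q) (hr : r.Prime) (har : a ^ r = 1) (hrX : ¬ r ∣ Nat.card X)
    {l : ℕ} (hl : l + 1 + 1 ≤ m) (hcov : P l ≤ ⁅P l, zpowers a⁆ ⊔ kl P m l)
    (hab : ¬ ⁅P (l + 1), P (l + 1)⁆ ≤ kl P m (l + 1)) {z : G} (hzP : z ∈ P (l + 1)) (hza : a * z = z * a)
    (hz : z ∉ fl P m (l + 1)) :
    Good (fel P m (l + 1) a (T.a_mem_hf hl)) (fimg P m (l + 1) (P (l + 1))) (fimg P m (l + 1) (P (l + 1 + 1)))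
      (fel P m (l + 1) z (T.P_le_hf hl (Nat.le_succ _) hzP)) := by
  have hi : l + 1 ≤ m := by omega
  have haH := T.a_mem_hf hl
  have hPH := T.P_le_hf hl (Nat.le_succ (l + 1))
  refine good_of_central (T.prime (l + 1) hi) (T.prime l (by omega)) (T.prime (l + 1 + 1) hl) hr
    (T.adj (l + 1) (by omega)).symm (T.q_ne hr hrX hi)
    (T.q_ne hr hrX hl) (T.q_ne hr hrX (by omega)) (T.adj l (by omega)).symm (T.fel_pow_r hl har)
    (img_isPGroup (T.pgroup (l + 1) hi)) (img_isPGroup (T.pgroup l (by omega)))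
    (T.frame_elemAb hl) (el_mem_normalizer haH (T.inv (l + 1) hi)) (el_mem_normalizer haH (T.inv l (by omega)))
    (el_mem_normalizer haH (T.inv (l + 1 + 1) hl))
    (img_le_normalizer (T.norm l (l + 1) (by omega) hi))
    (img_le_normalizer (T.norm (l + 1) (l + 1 + 1) (by omega) hl))
    (img_le_normalizer (T.norm l (l + 1 + 1) (by omega) hl)) (T.frame_faith hl) ?_ ?_ (T.frame_cover hl hcov)
    (el_mem_img _ hzP) (el_commute haH (hPH hzP) hza) ?_ ?_
  · intro u hu v hv
    obtain ⟨f, hfH, hf, rfl⟩ := exists_of_mem_img (T.frame_phi_le hl hu)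
    obtain ⟨g, hgH, hg, rfl⟩ := exists_of_mem_img hv
    exact ((el_commute_iff hgH hfH).mpr
      (show _ ∈ nf P m (l + 1) from mem_sup_left (T.fl_central hi hf hg))).symm
  · intro u hu v hv
    obtain ⟨f, hfH, hf, rfl⟩ := exists_of_mem_img (T.frame_phi_le hl hu)
    obtain ⟨g, hgH, hg, rfl⟩ := exists_of_mem_img hv
    exact (el_commute_iff hfH hgH).mpr
      (show _ ∈ nf P m (l + 1) from mem_sup_left (T.fl_commutator hi (commutator_mem_commutator hf hg)))
  · refine mem_sup_left ?_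
    rw [← img_commutator hPH (T.P_le_hf hl (show l ≤ l + 1 + 1 by omega)), T.eq_commutator hi]
    exact el_mem_img _ hzP
  · by_contra hc
    push Not at hc
    refine hz (T.mem_fl_of_central hi hab hzP fun y hy => ?_)
    exact T.mem_kl_of_nf hl (mul_mem (mul_mem (mul_mem hzP hy) (inv_mem hzP)) (inv_mem hy))
      ((el_commute_iff (hPH hzP) (hPH hy)).mp (hc _ (el_mem_img _ hy)))

theorem frame_no_fixed (T : MinTow a X m P q) {l : ℕ} (hl : l + 1 + 1 ≤ m)
    (hab : ⁅P (l + 1), P (l + 1)⁆ ≤ kl P m (l + 1)) :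
    fimg P m (l + 1) (P (l + 1)) ⊓ centralizer (fimg P m (l + 1) (P l) : Set _) = ⊥ := by
  refine (Subgroup.eq_bot_iff_forall _).mpr fun g hg => ?_
  obtain ⟨y, hyH, hy, rfl⟩ := exists_of_mem_img hg.1
  rw [el_eq_one]
  refine mem_sup_left (T.fl_eq_kl (by omega) hab ▸ T.mem_fl_of_fixed (by omega) hy fun x hx => ?_)
  refine mem_sup_right (T.mem_kl_of_nf hl ?_ ?_)
  · exact commutator_le_left_of_le_normalizer (T.norm l (l + 1) (by omega) (by omega))
      (commutator_mem_commutator hy hx)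
  · exact (el_commute_iff hyH (T.P_le_hf hl (show l ≤ l + 1 + 1 by omega) hx)).mp
      (mem_centralizer_iff.mp hg.2 _ (el_mem_img _ hx)).symm

/-- Fixed elements below a moved top level are good. -/
theorem fresh_top (T : MinTow a X m P q) (hr : r.Prime) (har : a ^ r = 1) (hrX : ¬ r ∣ Nat.card X)
    (hl : 0 + 1 + 1 ≤ m) (hcov : P 0 ≤ ⁅P 0, zpowers a⁆ ⊔ kl P m 0)
    {z : G} (hzP : z ∈ P (0 + 1)) (hza : a * z = z * a) (hz : z ∉ fl P m (0 + 1)) :
    Good (fel P m (0 + 1) a (T.a_mem_hf hl)) (fimg P m (0 + 1) (P (0 + 1))) (fimg P m (0 + 1) (P (0 + 1 + 1)))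
      (fel P m (0 + 1) z (T.P_le_hf hl (Nat.le_succ _) hzP)) := by
  by_cases hab : ⁅P (0 + 1), P (0 + 1)⁆ ≤ kl P m (0 + 1)
  swap
  · exact T.good_of_special hr har hrX hl hcov hab hzP hza hz
  haveI := T.frame_abelian hab
  have haH := T.a_mem_hf hl
  have hPH := T.P_le_hf hl (Nat.le_succ (0 + 1))
  have h0H := T.P_le_hf hl (show 0 ≤ 0 + 1 + 1 by omega)
  refine (good_or_null (T.prime (0 + 1) (by omega)) (T.prime (0 + 1 + 1) hl) hr
    (T.adj (0 + 1) (by omega)).symm (T.q_ne hr hrX (by omega)) (T.q_ne hr hrX hl) (T.fel_pow_r hl har)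
    (img_isPGroup (T.pgroup (0 + 1) (by omega))) (T.frame_elemAb hl)
    (el_mem_normalizer haH (T.inv _ (by omega))) (el_mem_normalizer haH (T.inv _ hl))
    (img_le_normalizer (T.norm _ _ (by omega) hl)) (el_mem_img _ hzP) (el_commute haH (hPH hzP) hza)).resolve_right
    fun hnull => hz (kl_le_fl P m _ (T.mem_kl_of_nf hl hzP ((el_eq_one (hPH hzP)).mp ?_)))
  refine null_eq_one_of_top (T.prime (0 + 1) (by omega)) (T.prime 0 (by omega)) (T.prime (0 + 1 + 1) hl) hr
    (T.adj (0 + 1) (by omega)).symm (T.adj 0 (by omega)).symm (T.q_ne hr hrX (by omega)) (T.fel_pow_r hl har)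
    (img_isPGroup (T.pgroup (0 + 1) (by omega))) (img_isPGroup (T.pgroup 0 (by omega))) (T.frame_elemAb hl)
    (el_mem_normalizer haH (T.inv _ (by omega))) (el_mem_normalizer haH (T.inv 0 (by omega)))
    (img_le_normalizer (T.norm _ _ (by omega) (by omega)))
    (img_le_normalizer (T.norm _ _ (by omega) hl))
    (img_le_normalizer (T.norm _ _ (by omega) hl)) (T.frame_faith hl) ?_ (T.frame_no_fixed hl hab) hnull
  intro g hg hga
  obtain ⟨y, hyH, hy, rfl⟩ := exists_of_mem_img hg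
  obtain ⟨c, hc, hyc, hca⟩ := el_fixed_img hr har haH (T.inv 0 (by omega)) haH
    (T.not_dvd_card hr hrX (show 0 ≤ m by omega) inf_le_left) hy hyH hga
  rw [(el_eq_el hyH (h0H hc)).mpr hyc]
  refine T.prev_kl_centralizer hl ?_ _
  rw [← T.fl_zero]
  refine T.fixed_mem_fl hr har hrX (Nat.zero_le m) hcov hc ?_
  rw [hca, mul_inv_cancel_right, inv_mul_cancel]
  exact one_mem _

/-- Below a moved level a fixed element is good, or a commutator with a fixed element of the level above it. -/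
theorem fresh (T : MinTow a X m P q) (hr : r.Prime) (har : a ^ r = 1) (hrX : ¬ r ∣ Nat.card X) {l : ℕ}
    (hl : l + 1 + 1 + 1 ≤ m) (hlow : P l ≤ centralizer ({a} : Set G))
    (hcov : P (l + 1) ≤ ⁅P (l + 1), zpowers a⁆ ⊔ kl P m (l + 1))
    {z : G} (hzP : z ∈ P (l + 1 + 1)) (hza : a * z = z * a) (hz : z ∉ fl P m (l + 1 + 1)) :
    Good (fel P m (l + 1 + 1) a (T.a_mem_hf hl)) (fimg P m (l + 1 + 1) (P (l + 1 + 1)))
      (fimg P m (l + 1 + 1) (P (l + 1 + 1 + 1)))
      (fel P m (l + 1 + 1) z (T.P_le_hf hl (Nat.le_succ _) hzP)) ∨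
    ∃ c ∈ P (l + 1 + 1), a * c = c * a ∧ ∃ d ∈ P l, ∃ hm : ⁅c, d⁆ ∈ P (l + 1 + 1),
      ⁅c, d⁆ ∉ fl P m (l + 1 + 1) ∧
      Good (fel P m (l + 1 + 1) a (T.a_mem_hf hl)) (fimg P m (l + 1 + 1) (P (l + 1 + 1)))
        (fimg P m (l + 1 + 1) (P (l + 1 + 1 + 1)))
        (fel P m (l + 1 + 1) ⁅c, d⁆ (T.P_le_hf hl (Nat.le_succ _) hm)) := by
  by_cases hab : ⁅P (l + 1 + 1), P (l + 1 + 1)⁆ ≤ kl P m (l + 1 + 1)
  swap
  · exact Or.inl (T.good_of_special hr har hrX hl hcov hab hzP hza hz)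
  haveI := T.frame_abelian hab
  set i := l + 1 + 1 with hi
  have hfl := T.fl_eq_kl (show i ≤ m by omega) hab
  have haH := T.a_mem_hf hl
  have hPH : P i ≤ hf P m i := T.P_le_hf hl (Nat.le_succ i)
  have hQH : P (l + 1) ≤ hf P m i := T.P_le_hf hl (by omega)
  have hRH : P l ≤ hf P m i := T.P_le_hf hl (by omega)
  have hgn : ∀ {u}, u ∈ fimg P m i (P i) → fel P m i a haH * u = u * fel P m i a haH →
      Good (fel P m i a haH) (fimg P m i (P i)) (fimg P m i (P (i + 1))) u ∨
        Null (fel P m i a haH) (fimg P m i (P i)) (fimg P m i (P (i + 1))) u := fun hu hua =>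
    good_or_null (T.prime i (by omega)) (T.prime (i + 1) hl) hr (T.adj i (by omega)).symm
      (T.q_ne hr hrX (by omega)) (T.q_ne hr hrX hl) (T.fel_pow_r hl har)
      (img_isPGroup (T.pgroup i (by omega))) (T.frame_elemAb hl)
      (el_mem_normalizer haH (T.inv _ (by omega))) (el_mem_normalizer haH (T.inv _ hl))
      (img_le_normalizer (T.norm _ _ (by omega) hl)) hu hua
  refine (hgn (el_mem_img _ hzP) (el_commute haH (hPH hzP) hza)).imp_right fun hnull => ?_
  by_contra hcon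
  refine hz (kl_le_fl P m _ (T.mem_kl_of_nf hl hzP ((el_eq_one (hPH hzP)).mp ?_)))
  have hdn : ∀ d ∈ P l, d ∈ normalizer (P i : Set G) := fun d hd => T.norm l i (by omega) (by omega) hd
  have hda : ∀ d ∈ P l, a * d = d * a := fun d hd => (mem_centralizer_singleton_iff.mp (hlow hd)).symm
  have hMR : ∀ c ∈ fimg P m i (P i), fel P m i a haH * c = c * fel P m i a haH →
      ∀ d ∈ fimg P m i (P l), Null (fel P m i a haH) (fimg P m i (P i)) (fimg P m i (P (i + 1))) ⁅c, d⁆ := by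
    intro u hu hua v hv
    obtain ⟨x₀, hx₀H, hx₀, rfl⟩ := exists_of_mem_img hu
    obtain ⟨d, hdH, hd, rfl⟩ := exists_of_mem_img hv
    obtain ⟨c, hc, hxc, hca⟩ := el_fixed_img hr har haH (T.inv i (by omega)) haH
      (T.not_dvd_card hr hrX (show i ≤ m by omega) inf_le_left) hx₀ hx₀H hua
    rw [(el_eq_el hx₀H (hPH hc)).mpr hxc, el_commutator]
    have hm : ⁅c, d⁆ ∈ P i := by
      rw [commutatorElement_def, show c * d * c⁻¹ * d⁻¹ = c * (d * c⁻¹ * d⁻¹) by group]
      exact mul_mem hc (mem_conj_normalizer (hdn d hd) (inv_mem hc))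
    have hma : a * ⁅c, d⁆ = ⁅c, d⁆ * a :=
      ((((show Commute a c from hca).mul_right (show Commute a d from hda d hd)).mul_right
        (show Commute a c from hca).inv_right).mul_right (show Commute a d from hda d hd).inv_right).eq
    refine (hgn (el_mem_img _ hm) (el_commute haH (hPH hm) hma)).resolve_left fun hg => hcon ?_
    refine ⟨c, hc, hca, d, hd, hm, fun hcd => ?_, hg⟩
    have e : el (hf P m i) (nf P m i) ⁅c, d⁆ (hPH hm) = 1 :=
      (el_eq_one _).mpr (show _ ∈ nf P m i from mem_sup_left (hfl ▸ hcd))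
    rw [e] at hg
    exact not_good_one hg
  refine null_eq_one (T.prime i (by omega)) (T.prime (l + 1) (by omega)) (T.prime (i + 1) hl) hr
    (T.adj i (by omega)).symm (T.q_ne hr hrX (by omega)) (T.q_ne hr hrX (by omega))
    (T.adj (l + 1) (by omega)).symm (T.fel_pow_r hl har) (Q := fimg P m i (P (l + 1)))
    (F := fimg P m i (fl P m (l + 1))) (R := fimg P m i (P l))
    (img_isPGroup (T.pgroup i (by omega))) (img_isPGroup (T.pgroup (l + 1) (by omega))) (T.frame_elemAb hl)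
    (el_mem_normalizer haH (T.inv _ (by omega))) (el_mem_normalizer haH (T.inv _ (by omega)))
    (img_le_normalizer (T.norm _ _ (by omega) (by omega))) (img_le_normalizer (T.norm _ _ (by omega) hl))
    (img_le_normalizer (T.norm _ _ (by omega) hl)) (T.frame_faith hl) (img_mono (fl_le P m _)) ?_
    (el_mem_normalizer haH (T.inv_fl (by omega))) ?_ ?_ (T.frame_no_fixed hl hab) ?_
    (img_le_normalizer (T.norm _ _ (by omega) (by omega))) (img_le_normalizer (T.norm _ _ (by omega) (by omega)))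
    (img_le_normalizer (T.norm_fl (by omega) (by omega))) (img_le_normalizer (T.norm _ _ (by omega) hl))
    (not_dvd_card_of_pGroup (T.prime l (by omega)) hr (T.q_ne hr hrX (by omega))
      (img_isPGroup (T.pgroup l (by omega)))) ?_ hMR hnull
  · rw [← img_commutator hQH hQH]
    exact img_mono (T.commutator_le_fl (by omega))
  · intro u hu huf
    obtain ⟨y, hyH, hy, rfl⟩ := exists_of_mem_img hu
    refine el_mem_img hyH (T.fixed_mem_fl hr har hrX (show l + 1 ≤ m by omega) hcov hy ?_)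
    have hyy : y⁻¹ * (a * y * a⁻¹) ∈ P (l + 1) := mul_mem (inv_mem hy) (mem_conj_normalizer (T.inv _ (by omega)) hy)
    have h1 : fel P m i (y⁻¹ * (a * y * a⁻¹)) (hQH hyy) ∈ fimg P m i (fl P m (l + 1)) := huf
    obtain ⟨f, hf, hfH, hfy⟩ := (el_mem_img_iff _).mp h1
    have h2 := T.mem_kl_of_prev hl (mul_mem (inv_mem (fl_le P m _ hf)) hyy) hfy
    have h3 := mul_mem hf (kl_le_fl P m _ h2)
    rwa [mul_inv_cancel_left] at h3
  · intro U hU hCU hQU
    set U0 := P (l + 1) ⊓ pre (hf P m i) (nf P m i) U with hU0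
    have hUi : fimg P m i U0 = U := img_inf_pre hU
    have hKU : kl P m (l + 1) ≤ U0 := fun k hk => Subgroup.mem_inf.mpr ⟨kl_le P m _ hk,
      mem_pre.mpr ⟨hQH (kl_le P m _ hk), hCU ⟨el_mem_img _ (kl_le P m _ hk), T.prev_kl_centralizer hl hk _⟩⟩⟩
    have hall : U0 = P (l + 1) := by
      refine eq_of_sup_phi inf_le_left fun y hy => ?_
      have h1 : fel P m i y (hQH hy) ∈ fimg P m i (U0 ⊔ fl P m (l + 1)) :=
        ((hUi ▸ hQU).trans (sup_le (img_mono le_sup_left) (img_mono le_sup_right))) (el_mem_img _ hy)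
      obtain ⟨u, hu, huH, huy⟩ := (el_mem_img_iff _).mp h1
      have huQ : u ∈ P (l + 1) := (sup_le inf_le_left (fl_le P m _) : U0 ⊔ fl P m (l + 1) ≤ P (l + 1)) hu
      have h2 := mul_mem hu (mem_sup_left (T := fl P m (l + 1))
        (hKU (T.mem_kl_of_prev hl (mul_mem (inv_mem huQ) hy) huy)))
      rw [mul_inv_cancel_left] at h2
      exact (sup_le le_sup_left (sup_le le_sup_right (hKU.trans le_sup_left)) :
        U0 ⊔ fl P m (l + 1) ≤ U0 ⊔ phi (P (l + 1))) h2
    rw [← hUi, hall]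
  · intro u hu
    obtain ⟨d, hdH, hd, rfl⟩ := exists_of_mem_img hu
    exact el_commute haH hdH (hda d hd)
  · refine le_sup_of_le_left ?_
    rw [← img_commutator hQH hRH, T.eq_commutator (show l + 1 ≤ m by omega)]

end MinTow

end Cfsg.Agent.Grp.Turull
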