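import Mathlib
import Cfsg.Agent.Lib.Grp.FreeMonomial

/-!
Joint multiplicities of two commuting operators of coprime order whose conjugations permute a basis of
the endomorphism algebra monomially, the first one freely.
-/

set_option autoImplicit false
set_option linter.unusedSectionVars false

namespace Cfsg.Agent.Grp.Turull

open Module

universe u v

variable {K : Type u} [Field K] {S : Type v} [AddCommGroup S] [Module K S] [FiniteDimensional K S]

/-- An operator of finite order prime to the characteristic has a basis of eigenvectors. -/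
theorem exists_eigenbasis [IsAlgClosed K] (T : Module.End K S) {n : ℕ} (hn : (n : K) ≠ 0) (hT : T ^ n = 1) :
    ∃ (J : Type (max u v)) (_ : Fintype J) (e : Basis J K S) (g : J → K), ∀ k, T (e k) = g k • e k := by
  classical
  have hss : T.IsSemisimple := by
    refine Module.End.isSemisimple_of_squarefree_aeval_eq_zero
      (p := (Polynomial.X : Polynomial K) ^ n - 1) ?_ (by simp [hT])
    exact (Polynomial.X_pow_sub_one_separable_iff.mpr hn).squarefree
  have htop : ⨆ l : K, Module.End.eigenspace T l = ⊤ := by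
    rw [← Module.End.iSup_maxGenEigenspace_eq_top T]
    exact iSup_congr fun l => (hss.isFinitelySemisimple.maxGenEigenspace_eq_eigenspace l).symm
  have hint : DirectSum.IsInternal fun l : K => Module.End.eigenspace T l :=
    DirectSum.isInternal_submodule_of_iSupIndep_of_iSup_eq_top (Module.End.eigenspaces_iSupIndep T) htop
  let J := (l : K) × Fin (finrank K (Module.End.eigenspace T l))
  let e : Basis J K S := hint.collectedBasis fun l => Module.finBasis K (Module.End.eigenspace T l)
  haveI : Finite J := Module.Finite.finite_basis e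
  exact ⟨ULift.{v} J, Fintype.ofFinite _, e.reindex Equiv.ulift.symm, fun k => k.down.1, fun k => by
    rw [Basis.reindex_apply]
    exact Module.End.mem_eigenspace_iff.mp (hint.collectedBasis_mem (fun l => Module.finBasis K (Module.End.eigenspace T l)) k.down)⟩

/-- Two commuting operators of coprime orders prime to the characteristic have a common basis of
eigenvectors. -/
theorem exists_eigenbasis_pair [IsAlgClosed K] {r N : ℕ} [NeZero r] {ζ : K} (hζ : IsPrimitiveRoot ζ r)
    (hr : (r : K) ≠ 0) (hN : (N : K) ≠ 0) (hco : r.Coprime N) (u X : Module.End K S) (hu : u ^ r = 1)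
    (hX : X ^ N = 1) (hcomm : Commute u X) :
    ∃ (J : Type (max u v)) (_ : Fintype J) (e : Basis J K S) (f : J → ZMod r) (g : J → K),
      (∀ k, u (e k) = AddChar.zmodChar r hζ.pow_eq_one (f k) • e k) ∧ (∀ k, X (e k) = g k • e k) ∧
      ∀ k, g k ^ N = 1 := by
  classical
  obtain ⟨J, hJ, e, g, hg⟩ := exists_eigenbasis (u * X) (n := r * N) (by push_cast; exact mul_ne_zero hr hN)
    (by rw [hcomm.mul_pow, pow_mul, hu, one_pow, one_mul, mul_comm, pow_mul, hX, one_pow])
  have hpow : ∀ (m : ℕ) (k : J), ((u * X) ^ m) (e k) = g k ^ m • e k := by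
    intro m k
    induction m with
    | zero => simp
    | succ m ih => rw [pow_succ', Module.End.mul_apply, ih, map_smul, hg, smul_smul, ← pow_succ]
  obtain ⟨m₁, h₁, h₁'⟩ := Nat.chineseRemainder hco 1 0
  obtain ⟨m₂, h₂, h₂'⟩ := Nat.chineseRemainder hco 0 1
  have hmod : ∀ (T : Module.End K S) (n m m' : ℕ), T ^ n = 1 → m ≡ m' [MOD n] → T ^ m = T ^ m' :=
    fun T n m m' hT hm => by rw [pow_eq_pow_mod m hT, pow_eq_pow_mod m' hT, hm]
  have e1 : (u * X) ^ m₁ = u := by
    rw [hcomm.mul_pow, hmod u r _ _ hu h₁, hmod X N _ _ hX h₁', pow_one, pow_zero, mul_one]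
  have e2 : (u * X) ^ m₂ = X := by
    rw [hcomm.mul_pow, hmod u r _ _ hu h₂, hmod X N _ _ hX h₂', pow_one, pow_zero, one_mul]
  have hru : ∀ k, (g k ^ m₁) ^ r = 1 := fun k => by
    refine smul_left_injective K (e.ne_zero k) ?_
    show (g k ^ m₁) ^ r • e k = (1 : K) • e k
    rw [← pow_mul, ← hpow, pow_mul, e1, hu, one_smul]
    rfl
  have hrX : ∀ k, (g k ^ m₂) ^ N = 1 := fun k => by
    refine smul_left_injective K (e.ne_zero k) ?_
    show (g k ^ m₂) ^ N • e k = (1 : K) • e k
    rw [← pow_mul, ← hpow, pow_mul, e2, hX, one_smul]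
    rfl
  have hex : ∀ k, ∃ i : ZMod r, AddChar.zmodChar r hζ.pow_eq_one i = g k ^ m₁ := fun k => by
    obtain ⟨i, hi, hi'⟩ := hζ.eq_pow_of_pow_eq_one (hru k)
    exact ⟨(i : ZMod r), by rw [AddChar.zmodChar_apply, ZMod.val_natCast, Nat.mod_eq_of_lt hi, hi']⟩
  choose f hf using hex
  exact ⟨J, hJ, e, f, fun k => g k ^ m₂, fun k => by rw [hf, ← hpow, e1], fun k => by rw [← hpow, e2], hrX⟩

/-- Conjugation by an operator of finite order. -/
def conjEnd (u : Module.End K S) (n : ℕ) : Module.End K (Module.End K S) where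
  toFun T := u * T * u ^ (n - 1)
  map_add' A B := by rw [mul_add, add_mul]
  map_smul' c A := by simp

theorem conjEnd_apply (u : Module.End K S) (n : ℕ) (T : Module.End K S) : conjEnd u n T = u * T * u ^ (n - 1) :=
  rfl

theorem pow_mul_pow_pred {M : Type*} [Monoid M] {u : M} {n : ℕ} (hn : n ≠ 0) (hu : u ^ n = 1) :
    u * u ^ (n - 1) = 1 ∧ u ^ (n - 1) * u = 1 :=
  ⟨by rw [← pow_succ', show n - 1 + 1 = n by omega, hu], by rw [← pow_succ, show n - 1 + 1 = n by omega, hu]⟩

/-- The pairs of basis vectors with given eigenvalue ratios are equidistributed apart from one. -/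
theorem pair_count {ι : Type*} [Fintype ι] (o : ι) (σ τ : Equiv.Perm ι) {r N : ℕ} [NeZero r] (hr : r.Prime)
    (hN : N ≠ 0) (hrN : ¬ r ∣ N) {ζ : K} (hζ : IsPrimitiveRoot ζ r)
    (hσo : σ o = o) (hτo : τ o = o) (hcomm : Commute σ τ) (hσ : σ ^ r = 1) (hτ : τ ^ N = 1)
    (hfree : ∀ g, σ g = g → g = o)
    (b : Basis ι K (Module.End K S)) (hbo : b o = 1) (u X : Module.End K S) (hu : u ^ r = 1) (hX : X ^ N = 1)
    (hub : ∀ g, ∃ c : K, conjEnd u r (b g) = c • b (σ g))
    (hXb : ∀ g, ∃ c : K, conjEnd X N (b g) = c • b (τ g))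
    {J : Type*} [Fintype J] (e : Basis J K S) (f : J → ZMod r) (g : J → K)
    (he : ∀ k, u (e k) = AddChar.zmodChar r hζ.pow_eq_one (f k) • e k) (hg : ∀ k, X (e k) = g k • e k) :
    ∃ c : ℕ, ∀ j : ZMod r,
      Nat.card {kl : J × J // f kl.1 - f kl.2 = j ∧ g kl.1 = g kl.2} = c + if j = 0 then 1 else 0 := by
  classical
  set χ := AddChar.zmodChar r hζ.pow_eq_one with hχ
  set Φ := conjEnd u r with hΦ
  set Ψ := conjEnd X N with hΨ
  set E := e.linearMap e with hE
  have hEapply : ∀ (kl : J × J) t, E kl (e t) = if kl.2 = t then e kl.1 else 0 := fun kl t => by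
    rw [hE, Module.Basis.linearMap_apply_apply]
  have hgN : ∀ (m : ℕ) k, (X ^ m) (e k) = g k ^ m • e k := by
    intro m k
    induction m with
    | zero => simp
    | succ m ih => rw [pow_succ', Module.End.mul_apply, ih, map_smul, hg, smul_smul, ← pow_succ]
  have hfN : ∀ (m : ℕ) k, (u ^ m) (e k) = χ (m • f k) • e k := by
    intro m k
    induction m with
    | zero => simp
    | succ m ih => rw [pow_succ', Module.End.mul_apply, ih, map_smul, he, smul_smul, succ_nsmul, AddChar.map_add_eq_mul]
  have hΦE : ∀ kl : J × J, Φ (E kl) = χ (f kl.1 - f kl.2) • E kl := by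
    intro kl
    refine e.ext fun t => ?_
    rw [hΦ, conjEnd_apply, Module.End.mul_apply, Module.End.mul_apply, hfN, map_smul, map_smul,
      LinearMap.smul_apply, hEapply]
    by_cases hkt : kl.2 = t
    · rw [if_pos hkt, he, smul_smul, ← AddChar.map_add_eq_mul]
      congr 2
      subst hkt
      rw [nsmul_eq_mul, Nat.cast_sub hr.one_le, ZMod.natCast_self, Nat.cast_one]
      ring
    · rw [if_neg hkt, map_zero, smul_zero, smul_zero]
  have hgne : ∀ k, g k ≠ 0 := fun k h => e.ne_zero k (by
    have h1 := hgN N k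
    rwa [hX, h, zero_pow hN, zero_smul, Module.End.one_apply] at h1)
  have hginv : ∀ k, g k ^ (N - 1) = (g k)⁻¹ := fun k => by
    have h1 := hgN N k
    rw [hX, Module.End.one_apply] at h1
    have h2 : g k ^ N = 1 := smul_left_injective K (e.ne_zero k) (by simpa using h1.symm)
    exact eq_inv_of_mul_eq_one_left (by rw [← pow_succ, show N - 1 + 1 = N by omega, h2])
  have hΨE : ∀ kl : J × J, Ψ (E kl) = (g kl.1 * (g kl.2)⁻¹) • E kl := by
    intro kl
    refine e.ext fun t => ?_
    rw [hΨ, conjEnd_apply, Module.End.mul_apply, Module.End.mul_apply, hgN, map_smul, map_smul,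
      LinearMap.smul_apply, hEapply]
    by_cases hkt : kl.2 = t
    · rw [if_pos hkt, hg, smul_smul, hginv, hkt, mul_comm]
    · rw [if_neg hkt, map_zero, smul_zero, smul_zero]
  -- the common eigenspaces
  let C : ZMod r → Submodule K (Module.End K S) := fun j =>
    Module.End.eigenspace Φ (χ j) ⊓ Module.End.eigenspace Ψ 1
  have hχinj : Function.Injective χ := by
    intro x y hxy
    simp only [hχ, AddChar.zmodChar_apply] at hxy
    exact ZMod.val_injective r (hζ.pow_inj (ZMod.val_lt x) (ZMod.val_lt y) hxy)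
  have hNC : ∀ j, Nat.card {kl : J × J // f kl.1 - f kl.2 = j ∧ g kl.1 = g kl.2} = finrank K (C j) := by
    intro j
    set s : Set (J × J) := {kl | f kl.1 - f kl.2 = j ∧ g kl.1 = g kl.2} with hs
    have hC : C j = Submodule.span K (Set.range fun kl : ↥s => E kl) := by
      refine le_antisymm (fun T hT => ?_) (Submodule.span_le.mpr ?_)
      · have h1 : ∀ kl, E.repr T kl ≠ 0 → kl ∈ s := by
          intro kl hne
          have hΦT := Module.End.mem_eigenspace_iff.mp hT.1
          have hΨT := Module.End.mem_eigenspace_iff.mp hT.2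
          have key : ∀ (L : Module.End K (Module.End K S)) (l : J × J → K), (∀ kl, L (E kl) = l kl • E kl) →
              E.repr (L T) kl = l kl * E.repr T kl := by
            intro L l hL
            conv_lhs => rw [← E.sum_repr T, map_sum, map_sum]
            rw [Finsupp.coe_finset_sum, Finset.sum_apply, Finset.sum_eq_single kl]
            · rw [map_smul, hL, smul_smul, map_smul, Basis.repr_self, Finsupp.smul_apply, Finsupp.single_eq_same,
                smul_eq_mul, mul_one, mul_comm]
            · intro m _ hm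
              rw [map_smul, hL, smul_smul, map_smul, Basis.repr_self, Finsupp.smul_apply,
                Finsupp.single_eq_of_ne (Ne.symm hm), smul_zero]
            · simp
          refine ⟨hχinj ?_, ?_⟩
          · have h2 := key Φ _ hΦE
            rw [hΦT, map_smul, Finsupp.smul_apply, smul_eq_mul] at h2
            exact (mul_right_cancel₀ hne h2).symm
          · have h2 := key Ψ _ hΨE
            rw [hΨT, one_smul, eq_comm, mul_left_eq_self₀] at h2
            exact (mul_inv_eq_one₀ (hgne _)).mp (h2.resolve_right hne)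
        rw [← E.sum_repr T]
        refine Submodule.sum_mem _ fun kl _ => ?_
        by_cases hne : E.repr T kl = 0
        · rw [hne, zero_smul]; exact Submodule.zero_mem _
        · exact Submodule.smul_mem _ _ (Submodule.subset_span ⟨⟨kl, h1 kl hne⟩, rfl⟩)
      · rintro _ ⟨⟨kl, h1, h2⟩, rfl⟩
        refine ⟨Module.End.mem_eigenspace_iff.mpr ?_, Module.End.mem_eigenspace_iff.mpr ?_⟩
        · show Φ (E kl) = χ j • E kl
          rw [hΦE, h1]
        · show Ψ (E kl) = (1 : K) • E kl
          rw [hΨE, h2, mul_inv_cancel₀ (hgne _)]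
    haveI : Fintype ↥s := Fintype.ofFinite _
    have hli : LinearIndependent K fun kl : ↥s => E kl := E.linearIndependent.comp Subtype.val Subtype.val_injective
    rw [hC, finrank_span_eq_card hli, ← Nat.card_eq_fintype_card]
    rfl
  -- a labelling of the basis
  let R : Setoid ι :=
    { r := fun x y => ∃ i n : ℤ, (σ ^ i * τ ^ n) x = y
      iseqv := ⟨fun x => ⟨0, 0, by simp⟩,
        fun {x y} ⟨i, n, h⟩ => ⟨-i, -n, by
          rw [← h, ← Equiv.Perm.mul_apply, mul_assoc, ← mul_assoc (τ ^ (-n)), ((hcomm.symm.zpow_zpow (-n) i)).eq,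
            mul_assoc, ← zpow_add, neg_add_cancel, zpow_zero, mul_one, ← zpow_add, neg_add_cancel, zpow_zero,
            Equiv.Perm.one_apply]⟩,
        fun {x y z} ⟨i, n, h⟩ ⟨i', n', h'⟩ => ⟨i' + i, n' + n, by
          rw [← h', ← h, ← Equiv.Perm.mul_apply, mul_assoc (σ ^ i'), ← mul_assoc (τ ^ n'),
            (hcomm.symm.zpow_zpow n' i).eq, mul_assoc, ← zpow_add, ← mul_assoc, ← zpow_add]⟩⟩ }
  have hrep : ∀ x : ι, ∃ i n : ℤ, (σ ^ i * τ ^ n) (Quotient.mk R x).out = x := fun x =>
    Quotient.exact (Quotient.out_eq (Quotient.mk R x))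
  choose li ln hl using hrep
  have hσz : ∀ i : ℤ, (σ ^ i) o = o := fun i => Equiv.Perm.zpow_apply_eq_self_of_apply_eq_self hσo i
  have huniq : ∀ (y : ι), y ≠ o → ∀ i n i' n' : ℤ, (σ ^ i * τ ^ n) y = (σ ^ i' * τ ^ n') y → (r : ℤ) ∣ i - i' := by
    intro y hy i n i' n' h
    have h1 : (σ ^ (i - i') * τ ^ (n - n')) y = y := by
      have h2 := congrArg (σ ^ (-i') * τ ^ (-n')) h
      rw [← Equiv.Perm.mul_apply, ← Equiv.Perm.mul_apply, mul_assoc, ← mul_assoc (τ ^ (-n')),
        (hcomm.symm.zpow_zpow (-n') i).eq, mul_assoc, ← zpow_add, ← mul_assoc, ← zpow_add, mul_assoc,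
        ← mul_assoc (τ ^ (-n')), (hcomm.symm.zpow_zpow (-n') i').eq, mul_assoc, ← zpow_add, ← mul_assoc, ← zpow_add,
        neg_add_cancel, neg_add_cancel, zpow_zero, zpow_zero, mul_one, Equiv.Perm.one_apply] at h2
      convert h2 using 2
      congr 2 <;> ring
    have h3 : ((σ ^ (i - i') * τ ^ (n - n')) ^ N) y = y := Equiv.Perm.pow_apply_eq_self_of_apply_eq_self h1 N
    rw [(hcomm.zpow_zpow _ _).mul_pow, ← zpow_natCast (τ ^ _), ← zpow_mul, mul_comm (n - n'), zpow_mul,
      zpow_natCast, hτ, one_zpow, mul_one, ← zpow_natCast (σ ^ _), ← zpow_mul] at h3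
    by_contra hnd
    have hco : IsCoprime ((i - i') * (N : ℤ)) (r : ℤ) := by
      rw [IsCoprime.mul_left_iff]
      exact ⟨(Nat.prime_iff_prime_int.mp hr).coprime_iff_not_dvd.mpr hnd |>.symm,
        (Nat.isCoprime_iff_coprime.mpr (hr.coprime_iff_not_dvd.mpr hrN).symm)⟩
    obtain ⟨a, c, hac⟩ := hco
    refine hy (hfree y ?_)
    have h4 := Equiv.Perm.zpow_apply_eq_self_of_apply_eq_self h3 a
    rw [← zpow_mul, mul_comm, show a * ((i - i') * (N : ℤ)) = 1 - c * r by linarith, zpow_sub, zpow_one, zpow_mul',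
      zpow_natCast, hσ, one_zpow, inv_one, mul_one] at h4
    exact h4
  let lab : ι → ZMod r := fun x => (li x : ZMod r)
  have hne' : ∀ x, x ≠ o → (Quotient.mk R x).out ≠ o := fun x hx h => hx (by
    rw [← hl x, h, Equiv.Perm.mul_apply, Equiv.Perm.zpow_apply_eq_self_of_apply_eq_self hτo, hσz])
  have hσlab : ∀ x, x ≠ o → lab (σ x) = lab x + 1 := by
    intro x hx
    have hq : Quotient.mk R (σ x) = Quotient.mk R x :=
      (Quotient.sound (⟨1, 0, by simp⟩ : R.r x (σ x))).symm
    have h1 := hl (σ x)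
    rw [hq] at h1
    have h2 : (σ ^ (li x + 1) * τ ^ ln x) (Quotient.mk R x).out = σ x := by
      rw [add_comm, zpow_add, zpow_one, mul_assoc, Equiv.Perm.mul_apply, hl x]
    have h3 := huniq _ (hne' x hx) _ _ _ _ (h1.trans h2.symm)
    have h4 := (ZMod.intCast_eq_intCast_iff_dvd_sub _ _ r).mpr h3
    simp only [lab]
    rw [← h4]
    push_cast
    rfl
  have hτlab : ∀ x, x ≠ o → lab (τ x) = lab x := by
    intro x hx
    have hq : Quotient.mk R (τ x) = Quotient.mk R x :=
      (Quotient.sound (⟨0, 1, by simp⟩ : R.r x (τ x))).symm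
    have h1 := hl (τ x)
    rw [hq] at h1
    have h2 : (σ ^ li x * τ ^ (ln x + 1)) (Quotient.mk R x).out = τ x := by
      rw [add_comm, zpow_add, zpow_one, ← mul_assoc, ((hcomm.zpow_left _)).eq, mul_assoc, Equiv.Perm.mul_apply, hl x]
    have h3 := huniq _ (hne' x hx) _ _ _ _ (h1.trans h2.symm)
    exact ((ZMod.intCast_eq_intCast_iff_dvd_sub _ _ r).mpr h3).symm
  -- the shifting map
  let D : Module.End K (Module.End K S) := b.constr K fun x => if x = o then 0 else χ (lab x) • b x
  have hDb : ∀ x, D (b x) = if x = o then 0 else χ (lab x) • b x := fun x => Basis.constr_basis _ _ _ _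
  have hΦo : Φ (b o) = b o := by
    rw [hbo, hΦ, conjEnd_apply, mul_one]; exact (pow_mul_pow_pred hr.ne_zero hu).1
  have hΨo : Ψ (b o) = b o := by
    rw [hbo, hΨ, conjEnd_apply, mul_one]; exact (pow_mul_pow_pred hN hX).1
  have hσne : ∀ x, x ≠ o → σ x ≠ o := fun x hx h => hx (σ.injective (h.trans hσo.symm))
  have hτne : ∀ x, x ≠ o → τ x ≠ o := fun x hx h => hx (τ.injective (h.trans hτo.symm))
  have hDΦ : D ∘ₗ Φ = χ 1 • (Φ ∘ₗ D) := by
    refine b.ext fun x => ?_
    rw [LinearMap.comp_apply, LinearMap.smul_apply, LinearMap.comp_apply, hDb]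
    by_cases hx : x = o
    · subst hx; rw [hΦo, hDb, if_pos rfl, map_zero, smul_zero]
    · obtain ⟨c, hc⟩ := hub x
      rw [if_neg hx, map_smul, hc, map_smul, hDb, if_neg (hσne x hx), hσlab x hx, AddChar.map_add_eq_mul]
      simp only [smul_smul]
      congr 1
      ring
  have hDΨ : D ∘ₗ Ψ = Ψ ∘ₗ D := by
    refine b.ext fun x => ?_
    rw [LinearMap.comp_apply, LinearMap.comp_apply, hDb]
    by_cases hx : x = o
    · subst hx; rw [hΨo, hDb, if_pos rfl, map_zero]
    · obtain ⟨c, hc⟩ := hXb x
      rw [if_neg hx, map_smul, hc, map_smul, hDb, if_neg (hτne x hx), hτlab x hx]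
      simp only [smul_smul]
      congr 1
      ring
  set co := b.coord o with hco'
  have hcoD : ∀ T, co (D T) = 0 := by
    have h1 : co ∘ₗ D = 0 := b.ext fun x => by
      rw [LinearMap.comp_apply, hDb, LinearMap.zero_apply]
      by_cases hx : x = o
      · rw [if_pos hx, map_zero]
      · rw [if_neg hx, map_smul, hco', Basis.coord_apply, Basis.repr_self, Finsupp.single_eq_of_ne (Ne.symm hx), smul_zero]
    exact fun T => LinearMap.congr_fun h1 T
  have hDinj : ∀ T, co T = 0 → D T = 0 → T = 0 := by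
    intro T hT hDT
    refine b.repr.injective (Finsupp.ext fun x => ?_)
    rw [map_zero, Finsupp.coe_zero, Pi.zero_apply]
    by_cases hx : x = o
    · subst hx; exact hT
    · have h1 : b.coord x ∘ₗ D = χ (lab x) • b.coord x := b.ext fun y => by
        rw [LinearMap.comp_apply, hDb, LinearMap.smul_apply]
        by_cases hyx : y = x
        · subst hyx; rw [if_neg hx, map_smul]
        · rw [Basis.coord_apply, Basis.coord_apply, Basis.repr_self, Finsupp.single_eq_of_ne (Ne.symm hyx), smul_zero]
          split_ifs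
          · simp
          · rw [map_smul, Basis.repr_self, Finsupp.smul_apply, Finsupp.single_eq_of_ne (Ne.symm hyx), smul_zero]
      have h2 := LinearMap.congr_fun h1 T
      rw [LinearMap.comp_apply, hDT, map_zero, LinearMap.smul_apply, Basis.coord_apply, smul_eq_mul] at h2
      have hne : χ (lab x) ≠ 0 := by
        rw [hχ, AddChar.zmodChar_apply]; exact pow_ne_zero _ (hζ.ne_zero hr.ne_zero)
      exact (mul_eq_zero.mp h2.symm).resolve_left hne
  have hcoΦ : ∀ T, co (Φ T) = co T := by
    have h1 : co ∘ₗ Φ = co := b.ext fun x => by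
      rw [LinearMap.comp_apply]
      by_cases hx : x = o
      · rw [hx, hΦo]
      · obtain ⟨c, hc⟩ := hub x
        rw [hc, map_smul, hco', Basis.coord_apply, Basis.coord_apply, Basis.repr_self, Basis.repr_self,
          Finsupp.single_eq_of_ne (Ne.symm (hσne x hx)), Finsupp.single_eq_of_ne (Ne.symm hx), smul_zero]
    exact fun T => LinearMap.congr_fun h1 T
  let C' : ZMod r → Submodule K (Module.End K S) := fun j => C j ⊓ LinearMap.ker co
  have hstep : ∀ j, finrank K (C' j) ≤ finrank K (C' (j - 1)) := by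
    intro j
    let L : ↥(C' j) →ₗ[K] ↥(C' (j - 1)) := D.restrict (p := C' j) (q := C' (j - 1)) fun T hT => by
      refine ⟨⟨Module.End.mem_eigenspace_iff.mpr ?_, Module.End.mem_eigenspace_iff.mpr ?_⟩, hcoD T⟩
      · have h1 := LinearMap.congr_fun hDΦ T
        rw [LinearMap.comp_apply, LinearMap.smul_apply, LinearMap.comp_apply,
          Module.End.mem_eigenspace_iff.mp hT.1.1, map_smul] at h1
        have hne : χ 1 ≠ 0 := by
          rw [hχ, AddChar.zmodChar_apply]; exact pow_ne_zero _ (hζ.ne_zero hr.ne_zero)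
        refine smul_right_injective _ hne ?_
        show χ 1 • Φ (D T) = χ 1 • χ (j - 1) • D T
        rw [← h1, smul_smul, ← AddChar.map_add_eq_mul, add_sub_cancel]
      · have h1 := LinearMap.congr_fun hDΨ T
        rw [LinearMap.comp_apply, LinearMap.comp_apply, Module.End.mem_eigenspace_iff.mp hT.1.2, one_smul] at h1
        rw [one_smul]
        exact h1.symm
    refine LinearMap.finrank_le_finrank_of_injective (f := L) ((injective_iff_map_eq_zero L).mpr fun T hT => ?_)
    exact Subtype.ext (hDinj _ T.2.2 (congrArg Subtype.val hT))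
  have hall : ∀ j, finrank K (C' j) = finrank K (C' 0) := by
    have h1 : ∀ (n : ℕ) j, finrank K (C' j) ≤ finrank K (C' (j - n)) := by
      intro n
      induction n with
      | zero => intro j; rw [Nat.cast_zero, sub_zero]
      | succ n ih =>
        intro j
        rw [show j - ((n + 1 : ℕ) : ZMod r) = j - 1 - n by push_cast; ring]
        exact (hstep j).trans (ih (j - 1))
    intro j
    refine le_antisymm ?_ ?_
    · have := h1 j.val j
      rwa [ZMod.natCast_zmod_val, sub_self] at this
    · have := h1 (-j).val 0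
      rwa [ZMod.natCast_zmod_val, zero_sub, neg_neg] at this
  refine ⟨finrank K (C' 0), fun j => ?_⟩
  rw [hNC]
  by_cases hj : j = 0
  · subst hj
    rw [if_pos rfl]
    let L : ↥(C 0) →ₗ[K] K := co ∘ₗ (C 0).subtype
    have hone : b o ∈ C 0 := ⟨Module.End.mem_eigenspace_iff.mpr (by rw [hΦo, AddChar.map_zero_eq_one, one_smul]),
      Module.End.mem_eigenspace_iff.mpr (by rw [hΨo, one_smul])⟩
    have hsurj : LinearMap.range L = ⊤ := top_le_iff.mp fun c _ => ⟨c • ⟨b o, hone⟩, by
      show co (c • b o) = c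
      rw [map_smul, hco', Basis.coord_apply, Basis.repr_self, Finsupp.single_eq_same, smul_eq_mul, mul_one]⟩
    have h1 := L.finrank_range_add_finrank_ker
    rw [hsurj, finrank_top, finrank_self] at h1
    have h2 : finrank K (LinearMap.ker L) = finrank K (C' 0) := by
      have e : (LinearMap.ker L).map (C 0).subtype = C' 0 := by
        refine le_antisymm ?_ ?_
        · rintro _ ⟨T, hT, rfl⟩
          exact ⟨T.2, hT⟩
        · rintro T ⟨hT, hT'⟩
          exact ⟨⟨T, hT⟩, hT', rfl⟩
      rw [← e, Submodule.finrank_map_subtype_eq]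
    omega
  · rw [if_neg hj, add_zero]
    have h1 : C j = C' j := by
      refine le_antisymm (fun T hT => ⟨hT, ?_⟩) inf_le_left
      have h2 := hcoΦ T
      rw [Module.End.mem_eigenspace_iff.mp hT.1, map_smul, smul_eq_mul] at h2
      by_contra hne
      have h3 : χ j = χ 0 := by
        rw [AddChar.map_zero_eq_one]
        exact (mul_eq_right₀ hne).mp h2
      exact hj (hχinj h3)
    rw [h1, hall]

/-- Equidistributed pairs force nearly equal multiplicities. -/
theorem multiplicity_near {J : Type*} [Fintype J] {r : ℕ} [NeZero r] (f : J → ZMod r) {α : Type*} (g : J → α)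
    {c : ℕ}
    (hc : ∀ j : ZMod r, Nat.card {kl : J × J // f kl.1 - f kl.2 = j ∧ g kl.1 = g kl.2} = c + if j = 0 then 1 else 0)
    {i : ZMod r} (hi : i ≠ 0) :
    (∀ x, Nat.card {k : J // f k = i ∧ g k = x} ≤ Nat.card {k : J // f k = 0 ∧ g k = x} + 1) ∧
    (∀ x y, Nat.card {k : J // f k = i ∧ g k = x} ≠ Nat.card {k : J // f k = 0 ∧ g k = x} →
      Nat.card {k : J // f k = i ∧ g k = y} ≠ Nat.card {k : J // f k = 0 ∧ g k = y} → x = y) := by
  classical
  set V : Finset α := Finset.univ.image g with hV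
  let n : ZMod r → α → ℤ := fun l x => ((Finset.univ.filter fun k => f k = l ∧ g k = x).card : ℤ)
  have hn : ∀ l x, (Nat.card {k : J // f k = l ∧ g k = x} : ℤ) = n l x := fun l x => by
    rw [Nat.card_eq_fintype_card, Fintype.card_subtype]
  have hpair : ∀ j, (Nat.card {kl : J × J // f kl.1 - f kl.2 = j ∧ g kl.1 = g kl.2} : ℤ) =
      ∑ x ∈ V, ∑ l, n (l + j) x * n l x := by
    intro j
    have h1 : Nat.card {kl : J × J // f kl.1 - f kl.2 = j ∧ g kl.1 = g kl.2} =
        ∑ l : J, (Finset.univ.filter fun k => f k = f l + j ∧ g k = g l).card := by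
      rw [Nat.card_eq_fintype_card, Fintype.card_subtype]
      rw [← Finset.card_sigma]
      refine Finset.card_bij (fun kl _ => ⟨kl.2, kl.1⟩) ?_ ?_ ?_
      · intro kl hkl
        simp only [Finset.mem_filter, Finset.mem_univ, true_and] at hkl
        simp only [Finset.mem_sigma, Finset.mem_univ, Finset.mem_filter, true_and]
        exact ⟨by rw [← hkl.1]; ring, hkl.2⟩
      · intro kl _ kl' _ h
        simp only [Sigma.mk.injEq, heq_eq_eq] at h
        exact Prod.ext h.2 h.1
      · rintro ⟨l, k⟩ hlk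
        simp only [Finset.mem_sigma, Finset.mem_univ, Finset.mem_filter, true_and] at hlk
        exact ⟨(k, l), by simp [hlk.1, hlk.2], rfl⟩
    rw [h1, Nat.cast_sum]
    rw [← Finset.sum_fiberwise_of_maps_to (t := V ×ˢ Finset.univ) (g := fun l => (g l, f l))
      (fun l _ => by simp [hV]), Finset.sum_product]
    refine Finset.sum_congr rfl fun x _ => Finset.sum_congr rfl fun l _ => ?_
    rw [Finset.sum_congr rfl (fun k hk => ?_), Finset.sum_const, nsmul_eq_mul, mul_comm]
    · congr 1
      show (((Finset.univ.filter fun k => (g k, f k) = (x, l)).card : ℕ) : ℤ) = n l x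
      simp only [n]
      congr 2
      ext k
      simp [and_comm]
    · simp only [Finset.mem_filter, Prod.mk.injEq] at hk
      show _ = n (l + j) x
      rw [hk.2.1, hk.2.2]
  have hsq : ∑ x ∈ V, ∑ l, (n (l + i) x - n l x) ^ 2 = 2 := by
    have e0 := hpair 0
    have ei := hpair i
    rw [hc, if_pos rfl] at e0
    rw [hc, if_neg hi, add_zero] at ei
    simp only [add_zero] at e0
    have hshift : ∀ x, ∑ l, n (l + i) x * n (l + i) x = ∑ l, n l x * n l x := fun x =>
      Fintype.sum_equiv (Equiv.addRight i) _ _ fun l => rfl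
    have e : ∀ x, ∑ l, (n (l + i) x - n l x) ^ 2 =
        2 * (∑ l, n l x * n l x) - 2 * ∑ l, n (l + i) x * n l x := fun x => by
      rw [show 2 * (∑ l, n l x * n l x) = ∑ l, n (l + i) x * n (l + i) x + ∑ l, n l x * n l x by
        rw [hshift]; ring, Finset.mul_sum, ← Finset.sum_add_distrib, ← Finset.sum_sub_distrib]
      exact Finset.sum_congr rfl fun l _ => by ring
    rw [Finset.sum_congr rfl fun x _ => e x, Finset.sum_sub_distrib, ← Finset.mul_sum, ← Finset.mul_sum, ← e0, ← ei]
    push_cast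
    ring
  have hpart : ∀ x, n i x ≠ n 0 x → x ∈ V ∧ (n i x - n 0 x) ^ 2 + 1 ≤ ∑ l, (n (l + i) x - n l x) ^ 2 := by
    intro x hx
    refine ⟨?_, ?_⟩
    · by_contra hxV
      have h0 : ∀ l, n l x = 0 := fun l => by
        simp only [n, Nat.cast_eq_zero, Finset.card_eq_zero, Finset.filter_eq_empty_iff]
        rintro k - ⟨-, hk⟩
        exact hxV (hk ▸ Finset.mem_image_of_mem g (Finset.mem_univ k))
      exact hx (by rw [h0, h0])
    · have hsum : ∑ l, (n (l + i) x - n l x) = 0 := by
        rw [Finset.sum_sub_distrib, sub_eq_zero]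
        exact Fintype.sum_equiv (Equiv.addRight i) _ _ fun l => rfl
      obtain ⟨l, hl0, hl⟩ : ∃ l, l ≠ 0 ∧ n (l + i) x - n l x ≠ 0 := by
        by_contra hne
        push Not at hne
        rw [Finset.sum_eq_single (0 : ZMod r) (fun l _ hl => hne l hl) (by simp), zero_add] at hsum
        exact hx (sub_eq_zero.mp hsum)
      have h1 : ∑ l' ∈ ({0, l} : Finset (ZMod r)), (n (l' + i) x - n l' x) ^ 2 ≤
          ∑ l', (n (l' + i) x - n l' x) ^ 2 :=
        Finset.sum_le_sum_of_subset_of_nonneg (Finset.subset_univ _) fun _ _ _ => sq_nonneg _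
      rw [Finset.sum_pair hl0.symm, zero_add] at h1
      have h2 : 1 ≤ (n (l + i) x - n l x) ^ 2 := (sq_pos_of_ne_zero hl)
      linarith
  refine ⟨fun x => ?_, fun x y hx hy => ?_⟩
  · rw [← Int.ofNat_le, Nat.cast_add, Nat.cast_one, hn, hn]
    by_cases hx : n i x = n 0 x
    · omega
    obtain ⟨hxV, h1⟩ := hpart x hx
    have h2 := Finset.single_le_sum (f := fun x => ∑ l, (n (l + i) x - n l x) ^ 2)
      (fun x _ => Finset.sum_nonneg fun _ _ => sq_nonneg _) hxV
    rw [hsq] at h2
    nlinarith
  · by_contra hne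
    have hx' : n i x ≠ n 0 x := by rw [← hn, ← hn]; exact_mod_cast hx
    have hy' : n i y ≠ n 0 y := by rw [← hn, ← hn]; exact_mod_cast hy
    obtain ⟨hxV, h1⟩ := hpart x hx'
    obtain ⟨hyV, h2⟩ := hpart y hy'
    have h3 : ∑ z ∈ ({x, y} : Finset α), ∑ l, (n (l + i) z - n l z) ^ 2 ≤ ∑ z ∈ V, ∑ l, (n (l + i) z - n l z) ^ 2 :=
      Finset.sum_le_sum_of_subset_of_nonneg (by simp [Finset.insert_subset_iff, hxV, hyV])
        fun _ _ _ => Finset.sum_nonneg fun _ _ => sq_nonneg _
    rw [Finset.sum_pair hne, hsq] at h3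
    have := sq_pos_of_ne_zero (sub_ne_zero.mpr hx')
    have := sq_pos_of_ne_zero (sub_ne_zero.mpr hy')
    linarith

end Cfsg.Agent.Grp.Turull
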