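import Mathlib
import Cfsg.Agent.Lib.Grp.TurullHeight.Monomial

/-!
A group of monomial operators trivial on the fixed points of a free monomial operator, and generated
by its commutators with symmetries of that operator, is trivial.
-/

set_option autoImplicit false
set_option linter.unusedSectionVars false

namespace Cfsg.Agent.Grp.Turull

open Module

universe u v

variable {K : Type u} [Field K] {S : Type v} [AddCommGroup S] [Module K S] [FiniteDimensional K S]

section Basic

variable {ι : Type*} [Fintype ι] (b : Basis ι K (Module.End K S))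

theorem conjEnd_pow {u : Module.End K S} {n : ℕ} (hn : n ≠ 0) (hu : u ^ n = 1) (T : Module.End K S) :
    ∀ m : ℕ, (conjEnd u n ^ m) T = u ^ m * T * u ^ ((n - 1) * m) := by
  intro m
  induction m with
  | zero => simp
  | succ m ih =>
    rw [pow_succ', Module.End.mul_apply, ih, conjEnd_apply, mul_add, mul_one, pow_succ' u m,
      pow_add u ((n - 1) * m)]
    simp only [mul_assoc]

theorem conjEnd_injective {u : Module.End K S} {n : ℕ} (hn : n ≠ 0) (hu : u ^ n = 1) :
    Function.Injective (conjEnd u n) := by
  obtain ⟨h1, h2⟩ := pow_mul_pow_pred hn hu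
  intro A B h
  rw [conjEnd_apply, conjEnd_apply] at h
  calc A = u ^ (n - 1) * (u * A * u ^ (n - 1)) * u := by
        rw [mul_assoc, mul_assoc (u * A), h2, mul_one, ← mul_assoc, h2, one_mul]
    _ = u ^ (n - 1) * (u * B * u ^ (n - 1)) * u := by rw [h]
    _ = B := by rw [mul_assoc, mul_assoc (u * B), h2, mul_one, ← mul_assoc, h2, one_mul]

theorem conjEnd_eq_self {u : Module.End K S} {n : ℕ} (hn : n ≠ 0) (hu : u ^ n = 1) (T : Module.End K S) :
    conjEnd u n T = T ↔ u * T = T * u := by
  obtain ⟨h1, h2⟩ := pow_mul_pow_pred hn hu
  rw [conjEnd_apply]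
  constructor
  · intro h
    calc u * T = u * T * (u ^ (n - 1) * u) := by rw [h2, mul_one]
      _ = T * u := by rw [← mul_assoc, h]
  · intro h
    rw [h, mul_assoc, h1, mul_one]

/-- Powers of a monomial conjugation are monomial, without vanishing coefficients. -/
theorem monomial_pow {u : Module.End K S} {n : ℕ} (hn : n ≠ 0) (hu : u ^ n = 1) (σ : Equiv.Perm ι)
    (hub : ∀ g, ∃ c : K, conjEnd u n (b g) = c • b (σ g)) (g : ι) :
    ∀ m : ℕ, ∃ c : K, c ≠ 0 ∧ (conjEnd u n ^ m) (b g) = c • b ((σ ^ m) g) := by
  intro m
  induction m with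
  | zero => exact ⟨1, one_ne_zero, by simp⟩
  | succ m ih =>
    obtain ⟨c, hc0, hc⟩ := ih
    obtain ⟨c', hc'⟩ := hub ((σ ^ m) g)
    have hne : c' ≠ 0 := by
      rintro rfl
      rw [zero_smul] at hc'
      exact b.ne_zero _ (conjEnd_injective hn hu (by rw [hc', map_zero]))
    refine ⟨c * c', mul_ne_zero hc0 hne, ?_⟩
    rw [pow_succ', Module.End.mul_apply, hc, map_smul, hc', smul_smul, pow_succ', Equiv.Perm.mul_apply]

theorem coord_monomial [DecidableEq ι] (c : K) (x g : ι) : b.coord g (c • b x) = if x = g then c else 0 := by
  rw [Basis.coord_apply, map_smul, Basis.repr_self, Finsupp.smul_apply, Finsupp.single_apply]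
  split_ifs <;> simp

theorem free_pow {r : ℕ} (hr : r.Prime) (σ : Equiv.Perm ι) (hσ : σ ^ r = 1) (o : ι)
    (hfree : ∀ g, σ g = g → g = o) {g : ι} (hg : g ≠ o) {i : ℕ} (h : (σ ^ i) g = g) : r ∣ i := by
  by_contra hnd
  obtain ⟨j, hj⟩ : ∃ j, (σ ^ i) ^ j = σ := exists_pow_eq_self_of_coprime
    ((Nat.Coprime.symm (hr.coprime_iff_not_dvd.mpr hnd)).coprime_dvd_right (orderOf_dvd_of_pow_eq_one hσ))
  refine hg (hfree g ?_)
  rw [← hj]
  exact Equiv.Perm.pow_apply_eq_self_of_apply_eq_self h j

/-- A monomial operator commuting with the centralizer of a free one fixes the basis. -/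
theorem perm_eq_of_commute (o : ι) (σ τ : Equiv.Perm ι) {r N : ℕ} (hr : r.Prime) (hN : N ≠ 0)
    (hrN : ¬ r ∣ N) (hτo : τ o = o) (hcomm : Commute σ τ) (hσ : σ ^ r = 1) (hτ : τ ^ N = 1)
    (hfree : ∀ g, σ g = g → g = o) (u X : Module.End K S) (hu : u ^ r = 1) (hX : X ^ N = 1)
    (hub : ∀ g, ∃ c : K, conjEnd u r (b g) = c • b (σ g))
    (hXb : ∀ g, ∃ c : K, conjEnd X N (b g) = c • b (τ g))
    (hcen : ∀ T : Module.End K S, u * T = T * u → X * T = T * X) : ∀ g, τ g = g := by
  classical
  intro g
  by_cases hg : g = o
  · rw [hg, hτo]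
  set Φ := conjEnd u r with hΦ
  set T := ∑ i ∈ Finset.range r, (Φ ^ i) (b g) with hT
  have hΦr : (Φ ^ r) (b g) = b g := by
    rw [hΦ, conjEnd_pow hr.ne_zero hu, hu, mul_comm (r - 1) r, pow_mul, hu, one_pow, one_mul, mul_one]
  have hΦT : Φ T = T := by
    rw [hT, map_sum]
    simp only [← Module.End.mul_apply, ← pow_succ']
    have h1 := (Finset.sum_range_succ (fun i => (Φ ^ i) (b g)) r).symm.trans
      (Finset.sum_range_succ' (fun i => (Φ ^ i) (b g)) r)
    rw [hΦr, pow_zero, Module.End.one_apply] at h1
    exact (add_right_cancel h1).symm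
  have hXT : conjEnd X N T = T :=
    (conjEnd_eq_self hN hX T).mpr (hcen T ((conjEnd_eq_self hr.ne_zero hu T).mp hΦT))
  choose c hc0 hc using fun i : ℕ => monomial_pow b hr.ne_zero hu σ hub g i
  have hcoord : b.coord g T = c 0 := by
    rw [hT, map_sum, Finset.sum_eq_single 0]
    · rw [hc, coord_monomial, if_pos (by simp)]
    · intro i hi hi0
      rw [hc, coord_monomial, if_neg]
      intro h
      exact hi0 (Nat.eq_zero_of_dvd_of_lt (free_pow hr σ hσ o hfree hg h) (Finset.mem_range.mp hi))
    · intro h; exact absurd (Finset.mem_range.mpr hr.pos) h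
  obtain ⟨i, hi⟩ : ∃ i : ℕ, τ ((σ ^ i) g) = g := by
    by_contra hne
    push Not at hne
    refine hc0 0 ?_
    rw [← hcoord, ← hXT, hT, map_sum, map_sum]
    refine Finset.sum_eq_zero fun i _ => ?_
    obtain ⟨d, hd⟩ := hXb ((σ ^ i) g)
    rw [hc, map_smul, hd, smul_smul, coord_monomial, if_neg (hne i)]
  have h1 : (σ ^ i * τ) g = g := by
    rw [((hcomm.pow_left i)).eq, Equiv.Perm.mul_apply]
    exact hi
  have h2 := Equiv.Perm.pow_apply_eq_self_of_apply_eq_self h1 N
  rw [(hcomm.pow_left i).mul_pow, hτ, mul_one, ← pow_mul] at h2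
  have h3 : r ∣ i := (hr.dvd_mul.mp (free_pow hr σ hσ o hfree hg h2)).resolve_right hrN
  obtain ⟨j, rfl⟩ := h3
  rwa [pow_mul, hσ, one_pow, one_mul] at h1

end Basic

section Eigen

variable {r : ℕ} [NeZero r] {ζ : K} (hζ : IsPrimitiveRoot ζ r) {J : Type*} [Fintype J]
  (e : Basis J K S) (f : J → ZMod r) {u : Module.End K S}
  (he : ∀ k, u (e k) = AddChar.zmodChar r hζ.pow_eq_one (f k) • e k)

include he

/-- Operators commuting with `u` preserve its eigenspaces. -/
theorem repr_eq_zero_of_commute {T : Module.End K S} (hT : u * T = T * u) {k l : J} (h : f l ≠ f k) :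
    e.repr (T (e k)) l = 0 := by
  classical
  set χ := AddChar.zmodChar r hζ.pow_eq_one with hχ
  have hχinj : Function.Injective χ := by
    intro x y hxy
    simp only [hχ, AddChar.zmodChar_apply] at hxy
    exact ZMod.val_injective r (hζ.pow_inj (ZMod.val_lt x) (ZMod.val_lt y) hxy)
  have h1 : u (T (e k)) = χ (f k) • T (e k) := by
    rw [← Module.End.mul_apply, hT, Module.End.mul_apply, he, map_smul]
  have h2 : e.coord l ∘ₗ u = χ (f l) • e.coord l := e.ext fun m => by
    rw [LinearMap.comp_apply, he, map_smul, LinearMap.smul_apply, Basis.coord_apply, Basis.repr_self,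
      Finsupp.single_apply]
    by_cases hm : m = l
    · rw [if_pos hm, hm]
    · rw [if_neg hm, smul_zero, smul_zero]
  have h3 := LinearMap.congr_fun h2 (T (e k))
  rw [LinearMap.comp_apply, h1, map_smul, LinearMap.smul_apply, smul_eq_mul, smul_eq_mul] at h3
  by_contra hne
  exact h (hχinj ((mul_right_cancel₀ hne h3).symm))

/-- Operators commuting with a multiplicity free `u` commute. -/
theorem commute_of_multiplicity_one (h1 : ∀ k l, f k = f l → k = l) {A B : Module.End K S}
    (hA : u * A = A * u) (hB : u * B = B * u) : A * B = B * A := by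
  classical
  have hd : ∀ T : Module.End K S, u * T = T * u → ∀ k, T (e k) = e.repr (T (e k)) k • e k := by
    intro T hT k
    conv_lhs => rw [← e.sum_repr (T (e k))]
    refine Finset.sum_eq_single k (fun l _ hl => ?_) (by simp)
    rw [repr_eq_zero_of_commute hζ e f he hT (fun h => hl (h1 l k h)), zero_smul]
  refine e.ext fun k => ?_
  obtain ⟨x, hx⟩ : ∃ x : K, A (e k) = x • e k := ⟨_, hd A hA k⟩
  obtain ⟨y, hy⟩ : ∃ y : K, B (e k) = y • e k := ⟨_, hd B hB k⟩
  rw [Module.End.mul_apply, Module.End.mul_apply, hy, map_smul, hx, map_smul, hy,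
    smul_smul, smul_smul, mul_comm]

end Eigen

theorem finrank_le_two_nilpotent {W : Type*} [AddCommGroup W] [Module K W] [FiniteDimensional K W]
    (hW : finrank K W ≤ 2) {N : Module.End K W} (hN : IsNilpotent N) : N * N = 0 := by
  classical
  obtain ⟨m, hm⟩ := hN
  refine LinearMap.ext fun v => ?_
  by_contra hne
  have hv : ∀ j, j < 3 → (N ^ j) v ≠ 0 := by
    intro j hj h
    refine hne ?_
    rw [← sq, show 2 = (2 - j) + j by omega, pow_add, Module.End.mul_apply, h, map_zero]
    rfl
  have hex : ∃ j, (N ^ j) v = 0 := ⟨m, by rw [hm]; rfl⟩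
  set j₀ := Nat.find hex with hj₀
  have hj3 : 3 ≤ j₀ := not_lt.mp fun h => hv j₀ h (Nat.find_spec hex)
  set w := (N ^ (j₀ - 3)) v with hw
  have hw3 : (N ^ 3) w = 0 := by
    rw [hw, ← Module.End.mul_apply, ← pow_add, show 3 + (j₀ - 3) = j₀ by omega]
    exact Nat.find_spec hex
  have hw2 : (N ^ 2) w ≠ 0 := by
    rw [hw, ← Module.End.mul_apply, ← pow_add]
    exact Nat.find_min hex (by omega)
  have hli : LinearIndependent K fun i : Fin 3 => (N ^ (i : ℕ)) w := by
    rw [Fintype.linearIndependent_iff]
    intro c hc
    simp only [Fin.sum_univ_three, Fin.val_zero, Fin.val_one, Fin.val_two, pow_zero, pow_one,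
      Module.End.one_apply] at hc
    have hN3 : N ((N ^ 2) w) = 0 := by rw [← Module.End.mul_apply, ← pow_succ']; exact hw3
    have hN2 : N (N w) = (N ^ 2) w := by rw [sq]; rfl
    have e1 := congrArg N hc
    rw [map_add, map_add, map_smul, map_smul, map_smul, hN3, smul_zero, add_zero, map_zero, hN2] at e1
    have e2 := congrArg N e1
    rw [map_add, map_smul, map_smul, hN3, smul_zero, add_zero, hN2, map_zero] at e2
    have c0 : c 0 = 0 := (smul_eq_zero.mp e2).resolve_right hw2
    rw [c0, zero_smul, zero_add] at e1
    have c1 : c 1 = 0 := (smul_eq_zero.mp e1).resolve_right hw2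
    rw [c0, c1, zero_smul, zero_smul, zero_add, zero_add] at hc
    have c2 : c 2 = 0 := (smul_eq_zero.mp hc).resolve_right hw2
    intro i
    fin_cases i <;> assumption
  have := hli.fintype_card_le_finrank
  rw [Fintype.card_fin] at this
  omega

/-- Two commuting square-zero operators on a space of dimension at most two in characteristic two. -/
theorem two_dim_char_two {W : Type*} [AddCommGroup W] [Module K W] [FiniteDimensional K W] [CharP K 2]
    (hW : finrank K W ≤ 2) {N M : Module.End K W} (hN : N * N = 0) (hM : M * M = 0) (hcomm : N * M = M * N) :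
    N * M = 0 ∧ ∀ T : Module.End K W, N * T * M + M * T * N = 0 := by
  have hNM : N * M = 0 := by
    refine LinearMap.ext fun v => ?_
    rw [Module.End.mul_apply, LinearMap.zero_apply]
    by_contra hne
    have hNN : ∀ w, N (N w) = 0 := fun w => by rw [← Module.End.mul_apply, hN]; rfl
    have hMM : ∀ w, M (M w) = 0 := fun w => by rw [← Module.End.mul_apply, hM]; rfl
    have hc : ∀ w, N (M w) = M (N w) := fun w => by rw [← Module.End.mul_apply, hcomm]; rfl
    have hli : LinearIndependent K ![v, M v, N (M v)] := by
      rw [Fintype.linearIndependent_iff]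
      intro c hc'
      simp only [Fin.sum_univ_three, Matrix.cons_val_zero, Matrix.cons_val_one, Matrix.cons_val] at hc'
      have e1 := congrArg N hc'
      rw [map_add, map_add, map_smul, map_smul, map_smul, hNN, smul_zero, add_zero, map_zero] at e1
      have e2 := congrArg M e1
      rw [map_add, map_smul, map_smul, ← hc, ← hc, hMM, map_zero, smul_zero, add_zero, map_zero] at e2
      have c0 : c 0 = 0 := (smul_eq_zero.mp e2).resolve_right hne
      rw [c0, zero_smul, zero_add] at e1
      have c1 : c 1 = 0 := (smul_eq_zero.mp e1).resolve_right hne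
      rw [c0, c1, zero_smul, zero_smul, zero_add, zero_add] at hc'
      have c2 : c 2 = 0 := (smul_eq_zero.mp hc').resolve_right hne
      intro i
      fin_cases i <;> assumption
    have := hli.fintype_card_le_finrank
    rw [Fintype.card_fin] at this
    omega
  refine ⟨hNM, fun T => ?_⟩
  by_cases hN0 : N = 0
  · rw [hN0]; simp
  obtain ⟨v, hv⟩ : ∃ v, N v ≠ 0 := by
    by_contra h
    push Not at h
    exact hN0 (LinearMap.ext h)
  have hNN : ∀ w, N (N w) = 0 := fun w => by rw [← Module.End.mul_apply, hN]; rfl
  have hMN : ∀ w, M (N w) = 0 := fun w => by rw [← Module.End.mul_apply, ← hcomm, hNM]; rfl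
  have hli : LinearIndependent K ![v, N v] := by
    rw [Fintype.linearIndependent_iff]
    intro c hc'
    simp only [Fin.sum_univ_two, Matrix.cons_val_zero, Matrix.cons_val_one] at hc'
    have e1 := congrArg N hc'
    rw [map_add, map_smul, map_smul, hNN, smul_zero, add_zero, map_zero] at e1
    have c0 : c 0 = 0 := (smul_eq_zero.mp e1).resolve_right hv
    rw [c0, zero_smul, zero_add] at hc'
    have c1 : c 1 = 0 := (smul_eq_zero.mp hc').resolve_right hv
    intro i
    fin_cases i <;> assumption
  have hspan : ∀ w, ∃ a c : K, w = a • v + c • N v := by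
    intro w
    have htop := hli.span_eq_top_of_card_eq_finrank' (by
      rw [Fintype.card_fin]
      exact le_antisymm (by simpa using hli.fintype_card_le_finrank) hW)
    have hw : w ∈ Submodule.span K (Set.range ![v, N v]) := htop ▸ Submodule.mem_top
    obtain ⟨c, hc⟩ := (Submodule.mem_span_range_iff_exists_fun K).mp hw
    exact ⟨c 0, c 1, by rw [← hc]; simp [Fin.sum_univ_two]⟩
  obtain ⟨a, d, had⟩ := hspan (M v)
  have ha : a = 0 := by
    have h1 := congrArg N had
    rw [map_add, map_smul, map_smul, hNN, smul_zero, add_zero, ← Module.End.mul_apply, hNM] at h1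
    exact (smul_eq_zero.mp h1.symm).resolve_right hv
  rw [ha, zero_smul, zero_add] at had
  have hMeq : M = d • N := by
    refine LinearMap.ext fun w => ?_
    obtain ⟨a', c', rfl⟩ := hspan w
    rw [map_add, map_smul, map_smul, LinearMap.smul_apply, map_add, map_smul, map_smul, had, hMN, hNN]
    simp only [smul_zero, add_zero, smul_smul, mul_comm]
  rw [hMeq, mul_smul_comm, smul_mul_assoc, smul_mul_assoc, ← two_smul K (d • (N * T * N)), CharTwo.two_eq_zero,
    zero_smul]

/-- A sum of an invariant function over the points moved by a `p`-group vanishes in characteristic `p`. -/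
theorem sum_eq_fixed {p : ℕ} (hp : p.Prime) {R : Type*} [Group R] [Finite R] (hR : IsPGroup p R) {ι : Type*}
    [Fintype ι] [MulAction R ι] {A : Type*} [AddCommMonoid A] (hA : ∀ v : A, p • v = 0) (F : ι → A)
    (hF : ∀ (x : R) g, F (x • g) = F g) (o : ι) (hfix : ∀ g, (∀ x : R, x • g = g) → g = o)
    (ho : ∀ x : R, x • o = o) : ∑ g, F g = F o := by
  classical
  haveI := Fact.mk hp
  set Ω := MulAction.orbitRel.Quotient R ι with hΩ
  haveI : Fintype Ω := Fintype.ofFinite _
  rw [← Finset.sum_fiberwise (Finset.univ : Finset ι) (Quotient.mk (MulAction.orbitRel R ι)) F,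
    Finset.sum_eq_single (Quotient.mk (MulAction.orbitRel R ι) o)]
  · rw [Finset.sum_eq_single_of_mem o (by simp)]
    intro g hg hne
    exfalso
    simp only [Finset.mem_filter, Finset.mem_univ, true_and] at hg
    obtain ⟨x, hx⟩ := MulAction.orbitRel_apply.mp (Quotient.exact hg)
    exact hne (by rw [← hx]; exact ho x)
  · intro ω _ hω
    induction ω using Quotient.inductionOn with
    | h g =>
      set s := Finset.univ.filter fun g' => Quotient.mk (MulAction.orbitRel R ι) g' = Quotient.mk _ g with hs
      have hconst : ∀ g' ∈ s, F g' = F g := by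
        intro g' hg'
        simp only [hs, Finset.mem_filter, Finset.mem_univ, true_and] at hg'
        obtain ⟨x, hx⟩ := MulAction.orbitRel_apply.mp (Quotient.exact hg')
        rw [← hx]; exact hF x g
      rw [Finset.sum_congr rfl hconst, Finset.sum_const]
      have hcard : s.card = Nat.card (MulAction.orbit R g) := by
        rw [Nat.card_eq_fintype_card, ← Set.toFinset_card]
        congr 1
        ext g'
        simp only [hs, Finset.mem_filter, Finset.mem_univ, true_and, Set.mem_toFinset]
        exact ⟨fun h => MulAction.orbitRel_apply.mp (Quotient.exact h),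
          fun h => Quotient.sound (MulAction.orbitRel_apply.mpr h)⟩
      obtain ⟨k, hk⟩ := hR.card_orbit g
      rw [hcard, hk]
      rcases Nat.eq_zero_or_pos k with rfl | hk0
      · exfalso
        refine hω (congrArg _ (hfix g fun x => ?_))
        rw [pow_zero] at hk
        haveI := (Nat.card_eq_one_iff_unique.mp hk).1
        exact congrArg Subtype.val
          (Subsingleton.elim (⟨x • g, ⟨x, rfl⟩⟩ : MulAction.orbit R g) ⟨g, MulAction.mem_orbit_self g⟩)
      · rw [show k = (k - 1) + 1 by omega, pow_succ, mul_smul, hA, smul_zero]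
  · simp

/-- The count for an operator of order three. -/
theorem not_three_orbits {q D s m m' F n : ℕ} (hq : q.Prime) (hq3 : q ≠ 3) (hn : F * m' = n) (hn' : n = q ^ m)
    (hD : D * D = n) (h3 : 3 ∣ n - F) (hs : n - F ≤ 3 * (s * s)) (h2s : 2 * s < D) : F = n := by
  by_contra hne
  have hF : F ∣ q ^ m := hn' ▸ ⟨m', hn.symm⟩
  obtain ⟨i, -, rfl⟩ := (Nat.dvd_prime_pow hq).mp hF
  obtain ⟨j, -, rfl⟩ := (Nat.dvd_prime_pow hq).mp (show m' ∣ q ^ m from hn' ▸ ⟨q ^ i, by rw [← hn, mul_comm]⟩)
  have h4 : 4 ≤ q ^ j := by
    rcases Nat.eq_zero_or_pos j with rfl | hj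
    · simp at hn; exact absurd hn hne
    · have h1 : q ≤ q ^ j := Nat.le_self_pow (by omega) q
      rcases eq_or_ne q 2 with rfl | hq2
      · by_contra hlt
        have h2 : 2 ^ j = 2 := by
          rcases Nat.lt_or_ge j 2 with hj2 | hj2
          · rw [show j = 1 by omega]; rfl
          · exact absurd (Nat.pow_le_pow_right (show 0 < 2 by norm_num) hj2) hlt
        rw [h2] at hn
        rw [← hn, show 2 ^ i * 2 - 2 ^ i = 2 ^ i by omega] at h3
        exact absurd (Nat.prime_three.dvd_of_dvd_pow h3) (by decide)
      · have h5 := hq.two_le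
        have h6 : 4 ≤ q := by
          rcases Nat.lt_or_ge q 4 with h | h
          · interval_cases q <;> simp_all
          · exact h
        omega
  have h7 := Nat.mul_le_mul_left (q ^ i) h4
  rw [hn] at h7
  have h8 : 4 * (s * s) + 1 ≤ D * D := by nlinarith
  omega

variable [IsAlgClosed K]

set_option maxHeartbeats 1600000 in
/-- Monomial operators trivial on the fixed points of a free monomial operator, invariantly generated, are
trivial. -/
theorem rigid {ι : Type*} [Group ι] [Finite ι] {R : Type*} [Group R] [Finite R] {p q t r : ℕ} [CharP K p]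
    (hp : p.Prime) (hq : q.Prime) (ht : t.Prime) (hr : r.Prime) (hpr : p ≠ r) (htr : t ≠ r) (hqt : q ≠ t)
    (hcard : ∃ m, Nat.card ι = q ^ m) (hR : IsPGroup t R)
    (σ : MulAut ι) (hσ : σ ^ r = 1) (hfree : ∀ g, σ g = g → g = 1)
    (τ : R →* MulAut ι) (hτσ : ∀ x g, σ (τ x g) = τ x (σ g)) (hfix : ∀ g, (∀ x, τ x g = g) → g = 1)
    (b : Basis ι K (Module.End K S)) (hbo : b 1 = 1) (u : Module.End K S) (hu : u ^ r = 1)
    (hub : ∀ g, ∃ c : K, conjEnd u r (b g) = c • b (σ g))
    (lift : R →* Module.End K S) (hlu : ∀ x, lift x * u = u * lift x)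
    (hlb : ∀ x g, ∃ c : K, lift x * b g = c • (b (τ x g) * lift x))
    (hl0 : ∀ x v, u v = v → lift x v = v) (hu0 : ∃ v, v ≠ 0 ∧ u v = v)
    (C : Set (R → R))
    (hC : ∀ c ∈ C, ∃ φ φ' : Module.End K S, φ' * φ = 1 ∧ φ * φ' = 1 ∧ φ * u = u * φ ∧
      ∀ x, lift (c x) * φ = φ * lift x)
    (hgen : ⊤ ≤ Subgroup.closure {g : R | ∃ c ∈ C, ∃ x, g = c x * x⁻¹}) :
    ∀ x, lift x = 1 := by
  classical
  haveI := Fact.mk hp
  haveI := Fact.mk ht
  haveI : NeZero r := ⟨hr.ne_zero⟩
  haveI : Fintype ι := Fintype.ofFinite _
  have hr0 : (r : K) ≠ 0 := fun h => hpr ((Nat.prime_dvd_prime_iff_eq hp hr).mp ((CharP.cast_eq_zero_iff K p r).mp h))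
  haveI : NeZero (r : K) := ⟨hr0⟩
  obtain ⟨ζ, hζ⟩ := HasEnoughRootsOfUnity.exists_primitiveRoot K r
  set N := Nat.card R with hN
  have hN0 : N ≠ 0 := Nat.card_pos.ne'
  have hrN : ¬ r ∣ N := by
    obtain ⟨k, hk⟩ := hR.exists_card_eq
    rw [hN, hk]
    exact fun h => htr ((Nat.prime_dvd_prime_iff_eq hr ht).mp (hr.dvd_of_dvd_pow h)).symm
  let σp : Equiv.Perm ι := σ.toEquiv
  let τp : R →* Equiv.Perm ι :=
    { toFun := fun x => (τ x).toEquiv
      map_one' := Equiv.ext fun g => by show τ 1 g = g; rw [map_one]; rfl
      map_mul' := fun x y => Equiv.ext fun g => by show τ (x * y) g = τ x (τ y g); rw [map_mul]; rfl }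
  have hσp : σp ^ r = 1 := by
    refine Equiv.ext fun g => ?_
    have h1 : ∀ m : ℕ, ∀ g, (σp ^ m) g = (σ ^ m) g := by
      intro m
      induction m with
      | zero => intro g; rfl
      | succ m ih => intro g; rw [pow_succ, pow_succ]; exact ih (σ g)
    rw [h1, hσ]; rfl
  have hτp : ∀ x, τp x ^ N = 1 := fun x => by rw [← map_pow, pow_card_eq_one', map_one]
  have hX : ∀ x, lift x ^ N = 1 := fun x => by rw [← map_pow, pow_card_eq_one', map_one]
  have hcomm : ∀ x, Commute σp (τp x) := fun x => Equiv.ext fun g => hτσ x g
  have hXb : ∀ x g, ∃ c : K, conjEnd (lift x) N (b g) = c • b (τp x g) := by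
    intro x g
    obtain ⟨c, hc⟩ := hlb x g
    refine ⟨c, ?_⟩
    rw [conjEnd_apply, hc, smul_mul_assoc, mul_assoc, (pow_mul_pow_pred hN0 (hX x)).1, mul_one]
    rfl
  -- an element acting trivially on the basis is a scalar
  have htriv : ∀ x, (∀ g, τ x g = g) → (∃ c : K, lift x = c • 1) → lift x = 1 := by
    intro x _ hc
    obtain ⟨c, hc⟩ := hc
    obtain ⟨v, hv0, hv⟩ := hu0
    have h1 := hl0 x v hv
    rw [hc, LinearMap.smul_apply, Module.End.one_apply] at h1
    rw [hc, smul_left_injective K hv0 (h1.trans (one_smul K v).symm), one_smul]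
  have hu1 : ∃ v, v ≠ 0 ∧ u v = v := hu0
  obtain ⟨J, hJ, e, f, hf⟩ : ∃ (J : Type (max u v)) (_ : Fintype J) (e : Basis J K S) (f : J → ZMod r),
      ∀ k, u (e k) = AddChar.zmodChar r hζ.pow_eq_one (f k) • e k := by
    obtain ⟨J, hJ, e, f, -, h, -, -⟩ := exists_eigenbasis_pair hζ hr0 (N := 1) (by simp) (Nat.coprime_one_right r)
      u 1 hu (one_pow 1) (Commute.one_right u)
    exact ⟨J, hJ, e, f, h⟩
  set χ := AddChar.zmodChar r hζ.pow_eq_one with hχ
  have hf0 : ∀ k, f k = 0 → u (e k) = e k := fun k hk => by rw [hf, hk, AddChar.map_zero_eq_one, one_smul]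
  by_cases htp : t = p
  · subst htp
    letI : MulAction R ι := MulAction.compHom ι τp
    have hsmul : ∀ (x : R) g, x • g = τ x g := fun x g => rfl
    -- one fixed line
    have hone : ∀ k l, f k = 0 → f l = 0 → k = l := by
      intro k₀ l₀ hk₀ hl₀
      by_contra hne
      let e0 : Module.End K S := e.constr K fun k => if f k = 0 then e k else 0
      have he0 : ∀ k, e0 (e k) = if f k = 0 then e k else 0 := fun k => Basis.constr_basis _ _ _ _
      have hle : ∀ x, lift x * e0 = e0 := fun x => e.ext fun k => by
        rw [Module.End.mul_apply, he0]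
        split_ifs with hk
        · exact hl0 x _ (hf0 k hk)
        · exact map_zero _
      have hel : ∀ x, e0 * lift x = e0 := fun x => e.ext fun k => by
        rw [Module.End.mul_apply]
        by_cases hk : f k = 0
        · rw [hl0 x _ (hf0 k hk)]
        · conv_lhs => rw [← e.sum_repr (lift x (e k))]
          rw [map_sum, he0 k, if_neg hk]
          refine Finset.sum_eq_zero fun l _ => ?_
          rw [map_smul, he0]
          by_cases hl : f l = 0
          · rw [if_pos hl, repr_eq_zero_of_commute hζ e f hf (hlu x).symm (k := k) (l := l)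
              (fun h => hk (h ▸ hl)), zero_smul]
          · rw [if_neg hl, smul_zero]
      set T := e0 * e.linearMap e (k₀, k₀) * e0 with hT
      have hTx : ∀ x, lift x * T = T * lift x := fun x => by
        rw [hT, mul_assoc _ e0 (lift x), hel x, ← mul_assoc, ← mul_assoc, hle x]
      let F : ι → Module.End K S := fun g => b.repr T g • (e0 * b g * e0)
      have hFinv : ∀ (x : R) g, F (x • g) = F g := by
        intro x g
        obtain ⟨c, hc⟩ := hlb x g
        have h1 : b.repr T (x • g) = c * b.repr T g := by
          have hLT : conjEnd (lift x) N T = T := (conjEnd_eq_self hN0 (hX x) T).mpr (hTx x)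
          have h2 : b.coord (x • g) ∘ₗ conjEnd (lift x) N = c • b.coord g := b.ext fun g' => by
            rw [LinearMap.comp_apply, LinearMap.smul_apply]
            obtain ⟨c', hc'⟩ := hlb x g'
            rw [conjEnd_apply, hc', smul_mul_assoc, mul_assoc, (pow_mul_pow_pred hN0 (hX x)).1, mul_one,
              coord_monomial, Basis.coord_apply, Basis.repr_self, Finsupp.single_apply]
            by_cases hgg : g' = g
            · subst hgg
              rw [if_pos rfl, if_pos (hsmul x g').symm, smul_eq_mul, mul_one]
              by_contra hcc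
              have h3 := hc.symm.trans hc'
              have h4 : ∀ d : K, d • b (τ x g') = d • (b (τ x g') * lift x) * lift x ^ (N - 1) := fun d => by
                rw [smul_mul_assoc, mul_assoc, (pow_mul_pow_pred hN0 (hX x)).1, mul_one]
              have h5 : c • b (τ x g') = c' • b (τ x g') := by rw [h4, h4 c', h3]
              exact hcc ((smul_left_injective K (b.ne_zero _) h5).symm)
            · rw [if_neg (fun h => hgg ((τ x).injective (h.trans (hsmul x g)))), if_neg hgg, smul_zero]
          have h3 := LinearMap.congr_fun h2 T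
          rw [LinearMap.comp_apply, hLT] at h3
          exact h3
        have h6 : e0 * b g * e0 = c • (e0 * b (x • g) * e0) := by
          calc e0 * b g * e0 = (e0 * lift x) * b g * e0 := by rw [hel x]
            _ = e0 * (lift x * b g) * e0 := by rw [mul_assoc e0 (lift x)]
            _ = c • (e0 * (b (τ x g) * lift x) * e0) := by rw [hc, mul_smul_comm, smul_mul_assoc]
            _ = c • (e0 * b (x • g) * e0) := by rw [mul_assoc e0, mul_assoc (b _), hle x, ← mul_assoc, hsmul]
        show _ • _ = b.repr T g • (e0 * b g * e0)
        rw [h1, h6, smul_smul, mul_comm c]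
      have he00 : e0 * e0 = e0 := e.ext fun k => by
        rw [Module.End.mul_apply, he0]
        split_ifs with hk
        · rw [he0, if_pos hk]
        · exact map_zero _
      have hsum : ∑ g, F g = T := by
        have h1 : e0 * T * e0 = T := by
          rw [hT, ← mul_assoc e0 (e0 * _), ← mul_assoc e0 e0, he00, mul_assoc _ e0 e0, he00]
        conv_rhs => rw [← h1, ← b.sum_repr T]
        rw [Finset.mul_sum, Finset.sum_mul]
        exact Finset.sum_congr rfl fun g _ => by simp only [F, mul_smul_comm, smul_mul_assoc]
      rw [sum_eq_fixed hp hR (fun v => by rw [← Nat.cast_smul_eq_nsmul K, CharP.cast_eq_zero, zero_smul]) F hFinv 1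
        (fun g hg => hfix g fun x => hg x) (fun x => map_one (τ x))] at hsum
      have hE : T (e k₀) = e k₀ ∧ T (e l₀) = 0 := by
        rw [hT, Module.End.mul_apply, Module.End.mul_apply, Module.End.mul_apply, Module.End.mul_apply, he0,
          if_pos hk₀, he0, if_pos hl₀, Module.Basis.linearMap_apply_apply, Module.Basis.linearMap_apply_apply,
          if_pos rfl, if_neg hne, map_zero, he0, if_pos hk₀]
        exact ⟨rfl, rfl⟩
      simp only [F, hbo, mul_one, he00] at hsum
      have h7 := hE.2
      rw [← hsum, LinearMap.smul_apply, he0, if_pos hl₀] at h7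
      have h8 := hE.1
      rw [← hsum, LinearMap.smul_apply, he0, if_pos hk₀,
        (smul_eq_zero.mp h7).resolve_right (e.ne_zero l₀), zero_smul] at h8
      exact e.ne_zero k₀ h8.symm
    -- all multiplicities are at most two
    obtain ⟨c, hc⟩ := pair_count (1 : ι) σp (1 : Equiv.Perm ι) hr one_ne_zero (fun h => hr.one_lt.ne' (Nat.dvd_one.mp h))
      hζ (map_one σ) rfl (Commute.one_right _) hσp (one_pow 1) hfree b hbo u 1 hu (one_pow 1) hub
      (fun g => ⟨1, by simp [conjEnd_apply]⟩) e f (fun _ => (1 : K)) hf (fun k => by simp)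
    have hmult : ∀ i, Nat.card {k : J // f k = i} ≤ 2 := by
      intro i
      have hle1 : Nat.card {k : J // f k = 0} ≤ 1 := Finite.card_le_one_iff_subsingleton.mpr
        ⟨fun k l => Subtype.ext (hone _ _ k.2 l.2)⟩
      by_cases hi : i = 0
      · subst hi; omega
      have h1 := (multiplicity_near f (fun _ => (1 : K)) hc hi).1 1
      simp only [and_true] at h1
      omega
    have hblock : ∀ A : Module.End K S, (∀ W : Submodule K S, finrank K W ≤ 2 →
        (∀ T : Module.End K S, u * T = T * u → ∀ w ∈ W, T w ∈ W) → ∀ w ∈ W, A w = 0) → A = 0 := by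
      intro A hloc
      refine e.ext fun k => ?_
      set W := Submodule.span K (Set.range fun l : {l : J // f l = f k} => e l) with hW
      rw [LinearMap.zero_apply]
      refine hloc W ?_ ?_ (e k) (Submodule.subset_span ⟨⟨k, rfl⟩, rfl⟩)
      · refine (finrank_range_le_card _).trans ?_
        rw [← Nat.card_eq_fintype_card]
        exact hmult (f k)
      · intro T hT w hw
        induction hw using Submodule.span_induction with
        | mem w hw =>
          obtain ⟨⟨l, hl⟩, rfl⟩ := hw
          show T (e l) ∈ W
          rw [← e.sum_repr (T (e l))]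
          refine Submodule.sum_mem _ fun l' _ => ?_
          by_cases hl' : f l' = f k
          · exact Submodule.smul_mem _ _ (Submodule.subset_span ⟨⟨l', hl'⟩, rfl⟩)
          · rw [repr_eq_zero_of_commute hζ e f hf hT (fun h => hl' (h.trans hl)), zero_smul]
            exact Submodule.zero_mem _
        | zero => rw [map_zero]; exact Submodule.zero_mem _
        | add _ _ _ _ h1 h2 => rw [map_add]; exact Submodule.add_mem _ h1 h2
        | smul c _ _ h1 => rw [map_smul]; exact Submodule.smul_mem _ _ h1
    have hlu' : ∀ x, u * (lift x - 1) = (lift x - 1) * u := fun x => by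
      rw [mul_sub, sub_mul, mul_one, one_mul, hlu x]
    haveI : Nontrivial S := by
      obtain ⟨v, hv0, -⟩ := hu0
      exact ⟨⟨v, 0, hv0⟩⟩
    haveI : CharP (Module.End K S) t := charP_of_injective_algebraMap (algebraMap K (Module.End K S)).injective t
    have hnil : ∀ x, ∃ m, (lift x - 1) ^ m = 0 := fun x => by
      obtain ⟨k, hk⟩ := hR.exists_card_eq
      refine ⟨t ^ k, ?_⟩
      rw [sub_pow_char_pow_of_commute _ _ (Commute.one_right _), one_pow, ← hk, ← hN, hX, sub_self]
    have hsq : ∀ x, (lift x - 1) * (lift x - 1) = 0 := by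
      intro x
      refine hblock _ fun W hW hWinv w hw => ?_
      have h1 := finrank_le_two_nilpotent hW (N := (lift x - 1).restrict (hWinv _ (hlu' x))) (by
        obtain ⟨m, hm⟩ := hnil x
        refine ⟨m, ?_⟩
        rw [Module.End.pow_restrict]
        exact LinearMap.ext fun w => Subtype.ext (by rw [LinearMap.restrict_apply]; simp [hm]))
      exact congrArg Subtype.val (LinearMap.congr_fun h1 ⟨w, hw⟩)
    have hXp : ∀ x, lift x ^ t = 1 := fun x => by
      have h1 : (lift x - 1) ^ t = 0 := by
        rw [show t = 2 + (t - 2) by have := ht.two_le; omega, pow_add, sq, hsq, zero_mul]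
      rw [sub_pow_char_of_commute _ (Commute.one_right _), one_pow] at h1
      exact sub_eq_zero.mp h1
    have hscal : ∀ x, (∀ g, τ x g = g) → lift x = 1 := by
      intro x hx
      refine htriv x hx ?_
      have hc1 : ∀ g, lift x * b g = b g * lift x := by
        intro g
        obtain ⟨c, hc⟩ := hlb x g
        rw [hx] at hc
        have hm : ∀ m : ℕ, lift x ^ m * b g = c ^ m • (b g * lift x ^ m) := by
          intro m
          induction m with
          | zero => simp
          | succ m ih => rw [pow_succ' (lift x), mul_assoc, ih, mul_smul_comm, ← mul_assoc, hc, smul_mul_assoc,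
              mul_assoc, smul_smul, pow_succ c]
        have h1 := hm t
        rw [hXp, one_mul, mul_one] at h1
        have h2 : c ^ t = 1 := smul_left_injective K (b.ne_zero g) (h1.symm.trans (one_smul K _).symm)
        have h3 : c = 1 := by
          haveI : ExpChar K t := ExpChar.prime ht
          exact frobenius_inj K t (by simpa [frobenius_def] using h2)
        rw [hc, h3, one_smul]
      obtain ⟨c, hc⟩ := Module.End.exists_eigenvalue (lift x)
      obtain ⟨w, hw, hw0⟩ := hc.exists_hasEigenvector
      refine ⟨c, LinearMap.ext fun v => ?_⟩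
      obtain ⟨k, hk⟩ : ∃ k, e.repr w k ≠ 0 := by
        by_contra hne
        push Not at hne
        exact hw0 (e.repr.injective (Finsupp.ext fun k => by simpa using hne k))
      let T : Module.End K S := ((e.repr w k)⁻¹ • e.coord k).smulRight v
      have hTw : T w = v := by simp [T, hk]
      have hcT : lift x * T = T * lift x := by
        conv_lhs => rw [← b.sum_repr T]
        conv_rhs => rw [← b.sum_repr T]
        rw [Finset.mul_sum, Finset.sum_mul]
        exact Finset.sum_congr rfl fun g _ => by rw [mul_smul_comm, smul_mul_assoc, hc1]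
      rw [LinearMap.smul_apply, Module.End.one_apply, ← hTw, ← Module.End.mul_apply, hcT, Module.End.mul_apply,
        Module.End.mem_eigenspace_iff.mp hw, map_smul]
    have hτt : ∀ x g, τ (x ^ t) g = g := by
      intro x g
      obtain ⟨c, -, hc⟩ := monomial_pow b hN0 (hX x) (τp x) (hXb x) g t
      rw [conjEnd_pow hN0 (hX x), hXp, one_mul, mul_comm (N - 1) t, pow_mul, hXp, one_pow, mul_one] at hc
      have h1 := congrArg (fun T => b.repr T g) hc
      simp only [map_smul, Basis.repr_self, Finsupp.smul_apply, Finsupp.single_eq_same] at h1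
      show (τp (x ^ t)) g = g
      rw [map_pow]
      by_contra hne
      rw [Finsupp.single_eq_of_ne (Ne.symm hne), smul_zero] at h1
      exact one_ne_zero h1
    rcases eq_or_ne t 2 with rfl | ht2
    · -- characteristic two: a single involution
      have hinv : ∀ x g, τ x (τ x g) = g := fun x g => by
        have := hτt x g
        rwa [sq, map_mul, MulAut.mul_apply] at this
      have hlinv : ∀ x, lift x * lift x = 1 := fun x => by rw [← sq]; exact hXp x
      have huniq : ∀ x y, (∃ g, τ x g ≠ g) → (∃ g, τ y g ≠ g) → ∀ g, τ x g = τ y g := by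
        intro x y hx hy
        have hcom : lift x * lift y = lift y * lift x := by
          calc lift x * lift y = (lift y * lift y) * (lift x * lift y) * (lift x * lift x) := by
                rw [hlinv, hlinv, one_mul, mul_one]
            _ = lift y * ((lift y * lift x) * (lift y * lift x)) * lift x := by simp only [mul_assoc]
            _ = lift y * lift x := by
              have h4 : lift y * lift x * (lift y * lift x) = 1 := by rw [← map_mul lift y x]; exact hlinv (y * x)
              calc lift y * ((lift y * lift x) * (lift y * lift x)) * lift x = lift y * 1 * lift x := by rw [h4]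
                _ = lift y * lift x := by rw [mul_one]
        set Nx := lift x - 1 with hNx
        set My := lift y - 1 with hMy
        have hNM : Nx * My = My * Nx := by
          simp only [hNx, hMy, mul_sub, sub_mul, one_mul, mul_one, hcom]; abel
        have hNM0 : Nx * My = 0 := by
          refine hblock _ fun W hW hWinv w hw => ?_
          have h1 := (two_dim_char_two hW (N := Nx.restrict (hWinv _ (hlu' x)))
            (M := My.restrict (hWinv _ (hlu' y)))
            (LinearMap.ext fun w => Subtype.ext (LinearMap.congr_fun (hsq x) (w : S)))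
            (LinearMap.ext fun w => Subtype.ext (LinearMap.congr_fun (hsq y) (w : S)))
            (LinearMap.ext fun w => Subtype.ext (LinearMap.congr_fun hNM (w : S)))).1
          exact congrArg Subtype.val (LinearMap.congr_fun h1 ⟨w, hw⟩)
        have hNTM : ∀ T, u * T = T * u → Nx * T * My + My * T * Nx = 0 := by
          intro T hT
          refine hblock _ fun W hW hWinv w hw => ?_
          have h1 := (two_dim_char_two hW (N := Nx.restrict (hWinv _ (hlu' x)))
            (M := My.restrict (hWinv _ (hlu' y)))
            (LinearMap.ext fun w => Subtype.ext (LinearMap.congr_fun (hsq x) (w : S)))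
            (LinearMap.ext fun w => Subtype.ext (LinearMap.congr_fun (hsq y) (w : S)))
            (LinearMap.ext fun w => Subtype.ext (LinearMap.congr_fun hNM (w : S)))).2 (T.restrict (hWinv T hT))
          exact congrArg Subtype.val (LinearMap.congr_fun h1 ⟨w, hw⟩)
        have h2End : ∀ A : Module.End K S, A + A = 0 := fun A => by
          rw [← two_smul K A, CharTwo.two_eq_zero, zero_smul]
        have hone3 : ∀ g, τ x g = g ∨ τ y g = g ∨ τ (x * y) g = g := by
          intro g
          by_contra hne
          push Not at hne
          obtain ⟨hgx, hgy, hgxy⟩ := hne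
          have hg1 : g ≠ 1 := fun h => hgx (by rw [h, map_one])
          choose c hc0 hc using fun i : ℕ => monomial_pow b hr.ne_zero hu σp hub g i
          set T := ∑ i ∈ Finset.range r, (conjEnd u r ^ i) (b g) with hT
          have hΦr : (conjEnd u r ^ r) (b g) = b g := by
            rw [conjEnd_pow hr.ne_zero hu, hu, mul_comm (r - 1) r, pow_mul, hu, one_pow, one_mul, mul_one]
          have hTu : u * T = T * u := by
            refine (conjEnd_eq_self hr.ne_zero hu T).mp ?_
            rw [hT, map_sum]
            simp only [← Module.End.mul_apply, ← pow_succ']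
            have h1 := (Finset.sum_range_succ (fun i => (conjEnd u r ^ i) (b g)) r).symm.trans
              (Finset.sum_range_succ' (fun i => (conjEnd u r ^ i) (b g)) r)
            rw [hΦr, pow_zero, Module.End.one_apply] at h1
            exact (add_right_cancel h1).symm
          have hsum : T + lift x * T * lift x + lift y * T * lift y +
              (lift x * lift y) * T * (lift x * lift y) = 0 := by
            have e1 : lift x = 1 + Nx := by rw [hNx]; abel
            have e2 : lift y = 1 + My := by rw [hMy]; abel
            have hz : Nx * My = 0 := hNM0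
            have hz' : My * Nx = 0 := hNM ▸ hNM0
            rw [e1, e2]
            have e3 : ((1 : Module.End K S) + Nx) * (1 + My) = 1 + (Nx + My) := by
              rw [mul_add, add_mul, add_mul, one_mul, one_mul, mul_one, hz]; abel
            rw [e3]
            have e4 : T + (1 + Nx) * T * (1 + Nx) + (1 + My) * T * (1 + My) +
                (1 + (Nx + My)) * T * (1 + (Nx + My)) =
                (T + T) + (T + T) + ((Nx * T + Nx * T) + (T * Nx + T * Nx) + (My * T + My * T) + (T * My + T * My) +
                  (Nx * T * Nx + Nx * T * Nx) + (My * T * My + My * T * My)) +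
                (Nx * T * My + My * T * Nx) := by
              simp only [add_mul, mul_add, one_mul, mul_one]; abel
            rw [e4, hNTM T hTu]
            simp only [h2End, add_zero]
          have hzero : ∀ z : R, τ z g ≠ g → b.coord g (lift z * T * lift z) = 0 := by
            intro z hz
            rw [hT, Finset.mul_sum, Finset.sum_mul, map_sum]
            refine Finset.sum_eq_zero fun i _ => ?_
            obtain ⟨d, hd⟩ := hlb z ((σp ^ i) g)
            rw [hc, mul_smul_comm, hd, smul_smul, smul_mul_assoc, mul_assoc, hlinv, mul_one, coord_monomial, if_neg]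
            intro h
            refine hz ?_
            have h1 : (σp ^ i * τp z) g = g := by
              rw [((hcomm z).pow_left i).eq, Equiv.Perm.mul_apply]; exact h
            have h2 := Equiv.Perm.pow_apply_eq_self_of_apply_eq_self h1 2
            have hτ2 : τp z ^ 2 = 1 := Equiv.ext fun g => by rw [sq]; exact hinv z g
            rw [((hcomm z).pow_left i).mul_pow, hτ2, mul_one, ← pow_mul] at h2
            obtain ⟨j, rfl⟩ : r ∣ i := (hr.dvd_mul.mp (free_pow hr σp hσp 1 hfree hg1 h2)).resolve_right fun h2r =>
              htr ((Nat.prime_dvd_prime_iff_eq hr Nat.prime_two).mp h2r).symm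
            rwa [pow_mul, hσp, one_pow, one_mul] at h1
          have h5 := congrArg (b.coord g) hsum
          rw [map_add, map_add, map_add, hzero x hgx, hzero y hgy, ← map_mul, hzero (x * y) hgxy, map_zero,
            add_zero, add_zero, add_zero, hT, map_sum, Finset.sum_eq_single 0] at h5
          · rw [hc, coord_monomial, if_pos (by simp)] at h5
            exact hc0 0 h5
          · intro i hi hi0
            rw [hc, coord_monomial, if_neg]
            exact fun h => hi0 (Nat.eq_zero_of_dvd_of_lt (free_pow hr σp hσp 1 hfree hg1 h) (Finset.mem_range.mp hi))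
          · intro h; exact absurd (Finset.mem_range.mpr hr.pos) h
        let Fx : R → Subgroup ι := fun z =>
          { carrier := {g | τ z g = g}
            one_mem' := map_one (τ z)
            mul_mem' := fun {a a'} ha ha' => by show τ z (a * a') = a * a'; rw [map_mul, ha, ha']
            inv_mem' := fun {a} ha => by show τ z a⁻¹ = a⁻¹; rw [map_inv, ha] }
        obtain ⟨m, hm⟩ := hcard
        have hsmall : ∀ z, (∃ g, τ z g ≠ g) → 3 * Nat.card (Fx z) ≤ Nat.card ι := by
          rintro z ⟨g, hg⟩
          obtain ⟨i, -, hi⟩ := (Nat.dvd_prime_pow hq).mp (hm ▸ (Fx z).index_dvd_card)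
          have hi0 : i ≠ 0 := by
            rintro rfl
            rw [pow_zero, Subgroup.index_eq_one] at hi
            exact hg (show g ∈ Fx z from hi ▸ Subgroup.mem_top g)
          have h3 : 3 ≤ (Fx z).index := by
            rw [hi]
            exact le_trans (by have := hq.two_le; omega) (Nat.le_self_pow hi0 q)
          rw [← Subgroup.card_mul_index (Fx z), mul_comm 3]
          exact Nat.mul_le_mul_left _ h3
        by_contra hcon
        push Not at hcon
        have hxy : ∃ g, τ (x * y) g ≠ g := by
          by_contra hall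
          push Not at hall
          obtain ⟨g, hg⟩ := hcon
          have h1 := hall g
          rw [map_mul, MulAut.mul_apply] at h1
          have h2 := congrArg (τ x) h1
          rw [hinv] at h2
          exact hg h2.symm
        have h1 := hsmall x hx
        have h2 := hsmall y hy
        have h3 := hsmall (x * y) hxy
        let sx : R → Finset ι := fun z => Finset.univ.filter fun g => τ z g = g ∧ g ≠ 1
        have hsub : (Finset.univ : Finset ι).erase 1 ⊆ sx x ∪ (sx y ∪ sx (x * y)) := by
          intro g hg
          have hg1 := Finset.ne_of_mem_erase hg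
          simp only [sx, Finset.mem_union, Finset.mem_filter, Finset.mem_univ, true_and]
          rcases hone3 g with h | h | h
          · exact Or.inl ⟨h, hg1⟩
          · exact Or.inr (Or.inl ⟨h, hg1⟩)
          · exact Or.inr (Or.inr ⟨h, hg1⟩)
        have hsx : ∀ z, (sx z).card + 1 = Nat.card (Fx z) := by
          intro z
          have e1 : sx z = (Finset.univ.filter fun g => τ z g = g).erase 1 := by
            ext g; simp [sx, and_comm]
          rw [e1, Finset.card_erase_add_one (by simp), Nat.card_eq_fintype_card, ← Fintype.card_subtype]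
          rfl
        have h4 := (Finset.card_le_card hsub).trans ((Finset.card_union_le _ _).trans
          (Nat.add_le_add_left (Finset.card_union_le _ _) _))
        rw [Finset.card_erase_of_mem (Finset.mem_univ _), Finset.card_univ, ← Nat.card_eq_fintype_card] at h4
        have := hsx x; have := hsx y; have := hsx (x * y)
        omega
      let Ker : Subgroup R :=
        { carrier := {x | lift x = 1}
          one_mem' := map_one lift
          mul_mem' := fun {a a'} ha ha' => by show lift (a * a') = 1; rw [map_mul, ha, ha', one_mul]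
          inv_mem' := fun {a} ha => by
            show lift a⁻¹ = 1
            have h1 : lift (a⁻¹ * a) = 1 := by rw [inv_mul_cancel, map_one]
            rwa [map_mul, ha, mul_one] at h1 }
      have hle : Subgroup.closure {g : R | ∃ c ∈ C, ∃ x, g = c x * x⁻¹} ≤ Ker := by
        rw [Subgroup.closure_le]
        rintro _ ⟨c, hcC, x, rfl⟩
        obtain ⟨φ, φ', h1, h2, -, h3⟩ := hC c hcC
        show lift (c x * x⁻¹) = 1
        by_cases hx : lift x = 1
        · have h4 : lift (c x) = 1 := by
            calc lift (c x) = lift (c x) * (φ * φ') := by rw [h2, mul_one]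
              _ = φ * lift x * φ' := by rw [← mul_assoc, h3]
              _ = 1 := by rw [hx, mul_one, h2]
          rw [map_mul, h4, one_mul]
          exact inv_mem (show x ∈ Ker from hx)
        · have hcx : lift (c x) ≠ 1 := fun h4 => hx (by
            calc lift x = (φ' * φ) * lift x := by rw [h1, one_mul]
              _ = φ' * (lift (c x) * φ) := by rw [mul_assoc, h3]
              _ = 1 := by rw [h4, one_mul, h1])
          have hmv : ∀ z, lift z ≠ 1 → ∃ g, τ z g ≠ g := fun z hz => by
            by_contra h; push Not at h; exact hz (hscal z h)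
          refine hscal _ fun g => ?_
          have h5 := huniq _ _ (hmv _ hcx) (hmv _ hx) (τ x⁻¹ g)
          rw [map_mul, MulAut.mul_apply, h5, map_inv, MulAut.apply_inv_self]
      exact fun x => hle (hgen (Subgroup.mem_top x))
    · -- odd characteristic
      intro x
      refine hscal x ?_
      by_contra hne
      push Not at hne
      obtain ⟨g₀, hg₀⟩ := hne
      set Nx := lift x - 1 with hNx
      have hz : Nx * Nx = 0 := hsq x
      have hinvX : lift x ^ (N - 1) = 1 - Nx := by
        have h1 : lift x * (1 - Nx) = 1 := by
          rw [show lift x = 1 + Nx by rw [hNx]; abel, mul_sub, mul_one, add_mul, one_mul, hz, add_zero,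
            add_sub_cancel_right]
        calc lift x ^ (N - 1) = lift x ^ (N - 1) * (lift x * (1 - Nx)) := by rw [h1, mul_one]
          _ = 1 - Nx := by rw [← mul_assoc, (pow_mul_pow_pred hN0 (hX x)).2, one_mul]
      set Δ := conjEnd (lift x) N - 1 with hΔ
      have hΔapply : ∀ T, Δ T = Nx * T - T * Nx - Nx * T * Nx := fun T => by
        rw [hΔ, LinearMap.sub_apply, Module.End.one_apply, conjEnd_apply, hinvX,
          show lift x = 1 + Nx by rw [hNx]; abel]
        noncomm_ring
      have hΔ2 : ∀ T, Δ (Δ T) = -(Nx * T * Nx + Nx * T * Nx) := by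
        intro T
        rw [hΔapply, hΔapply]
        have e1 : Nx * (Nx * T - T * Nx - Nx * T * Nx) = -(Nx * T * Nx) := by
          rw [mul_sub, mul_sub, ← mul_assoc, hz, zero_mul, ← mul_assoc, ← mul_assoc, ← mul_assoc, hz, zero_mul,
            zero_mul, sub_zero, zero_sub]
        have e2 : (Nx * T - T * Nx - Nx * T * Nx) * Nx = Nx * T * Nx := by
          rw [sub_mul, sub_mul, mul_assoc T, hz, mul_zero, sub_zero, mul_assoc _ Nx Nx, hz, mul_zero, sub_zero]
        rw [e1, e2, neg_mul, mul_assoc _ Nx Nx, hz, mul_zero, neg_zero, sub_zero]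
        abel
      have hτx : ∀ i : ℕ, ∀ g, (τp x ^ i) g = τ (x ^ i) g := fun i g => by rw [← map_pow]; rfl
      have hmove : ∀ g, τ x g ≠ g → ∀ i, 0 < i → i < t → τ (x ^ i) g ≠ g := by
        intro g hg i hi0 hit h
        refine hg ?_
        have hτt' : τp x ^ t = 1 := Equiv.ext fun g => by rw [hτx]; exact hτt x g
        obtain ⟨j, hj⟩ : ∃ j, (τp x ^ i) ^ j = τp x := exists_pow_eq_self_of_coprime
          ((Nat.Coprime.symm (ht.coprime_iff_not_dvd.mpr (Nat.not_dvd_of_pos_of_lt hi0 hit))).coprime_dvd_right
            (orderOf_dvd_of_pow_eq_one hτt'))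
        have h1 := Equiv.Perm.pow_apply_eq_self_of_apply_eq_self ((hτx i g).trans h) j
        rw [hj] at h1
        exact h1
      choose d hd0 hd using fun (g : ι) (i : ℕ) => monomial_pow b hN0 (hX x) (τp x) (hXb x) g i
      have hΨi : ∀ g g' (i : ℕ), τ (x ^ i) g ≠ g' → b.coord g' ((conjEnd (lift x) N ^ i) (b g)) = 0 :=
        fun g g' i h => by rw [hd, coord_monomial, if_neg]; rwa [hτx]
      have hexp2 : ∀ T, Δ (Δ T) = (conjEnd (lift x) N ^ 2) T - conjEnd (lift x) N T - conjEnd (lift x) N T + T := by
        intro T
        simp only [hΔ, LinearMap.sub_apply, Module.End.one_apply, map_sub, sq, Module.End.mul_apply]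
        abel
      rcases lt_or_ge t 4 with ht4 | ht4
      · obtain rfl : t = 3 := by have := ht.two_le; omega
        let Fx : Subgroup ι :=
          { carrier := {g | τ x g = g}
            one_mem' := map_one (τ x)
            mul_mem' := fun {a a'} ha ha' => by show τ x (a * a') = a * a'; rw [map_mul, ha, ha']
            inv_mem' := fun {a} ha => by show τ x a⁻¹ = a⁻¹; rw [map_inv, ha] }
        let st : Setoid ι := Equiv.Perm.SameCycle.setoid (τp x)
        let M : Finset ι := Finset.univ.filter fun g => τ x g ≠ g
        let Ω : Finset (Quotient st) := M.image (Quotient.mk st)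
        have hclass : ∀ g g', Quotient.mk st g' = Quotient.mk st g → ∃ i < 3, τ (x ^ i) g = g' := by
          intro g g' h
          obtain ⟨i, hi⟩ := ((Quotient.exact h).symm : Equiv.Perm.SameCycle (τp x) g g').exists_nat_pow_eq
          refine ⟨i % 3, Nat.mod_lt _ (by norm_num), ?_⟩
          have hτt' : τp x ^ 3 = 1 := Equiv.ext fun g => by rw [hτx]; exact hτt x g
          rw [← hτx, ← pow_eq_pow_mod _ hτt']
          exact hi
        have hmoved : ∀ g i, τ x g ≠ g → τ x (τ (x ^ i) g) ≠ τ (x ^ i) g := by
          intro g i hg h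
          refine hg ((τ (x ^ i)).injective ?_)
          rw [← MulAut.mul_apply, ← map_mul, (Commute.pow_self x i).eq, map_mul, MulAut.mul_apply]
          exact h
        have hMmem : ∀ g, g ∈ M ↔ τ x g ≠ g := fun g => by simp [M]
        have hout : ∀ ω ∈ Ω, τ x ω.out ≠ ω.out := by
          intro ω hω
          obtain ⟨g, hg, rfl⟩ := Finset.mem_image.mp hω
          obtain ⟨i, -, hi⟩ := hclass g _ (Quotient.out_eq (Quotient.mk st g))
          rw [← hi]
          exact hmoved g i ((hMmem g).mp hg)
        have hcls : ∀ ω ∈ Ω, (M.filter fun g => Quotient.mk st g = ω).card = 3 := by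
          intro ω hω
          have hne := hout ω hω
          have e : (M.filter fun g => Quotient.mk st g = ω) = (Finset.range 3).image fun i => τ (x ^ i) ω.out := by
            ext g
            simp only [Finset.mem_filter, Finset.mem_image, Finset.mem_range]
            constructor
            · rintro ⟨-, hg⟩
              exact hclass ω.out g (hg.trans (Quotient.out_eq ω).symm)
            · rintro ⟨i, -, rfl⟩
              refine ⟨(hMmem _).mpr (hmoved _ i hne), ?_⟩
              refine Eq.trans ?_ (Quotient.out_eq ω)
              refine (Quotient.sound ?_).symm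
              exact ⟨(i : ℤ), by rw [zpow_natCast, hτx]⟩
          rw [e, Finset.card_image_of_injOn, Finset.card_range]
          have key : ∀ i j, i < j → j < 3 → τ (x ^ i) ω.out ≠ τ (x ^ j) ω.out := fun i j hlt hj hij => by
            refine hmove ω.out hne (j - i) (by omega) (by omega) ((τ (x ^ i)).injective ?_)
            rw [← MulAut.mul_apply, ← map_mul, ← pow_add, show i + (j - i) = j by omega]
            exact hij.symm
          intro i hi j hj hij
          simp only [Finset.coe_range, Set.mem_Iio] at hi hj
          rcases lt_trichotomy i j with h | h | h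
          · exact absurd hij (key i j h hj)
          · exact h
          · exact absurd hij.symm (key j i h hi)
        have hMcard : M.card = Ω.card * 3 := by
          rw [Finset.card_eq_sum_card_fiberwise (f := Quotient.mk st) (t := Ω)
            (fun g hg => Finset.mem_image_of_mem _ hg), Finset.sum_congr rfl hcls, Finset.sum_const, smul_eq_mul]
        -- independence
        let L : Module.End K S →ₗ[K] Module.End K S := Δ ∘ₗ Δ
        have hli : LinearIndependent K fun ω : ↥Ω => L (b ω.1.out) := by
          rw [Fintype.linearIndependent_iff]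
          intro cf hcf ω
          have h1 := congrArg (b.coord ω.1.out) hcf
          rw [map_sum, map_zero, Finset.sum_eq_single ω] at h1
          · rw [map_smul, LinearMap.comp_apply, hexp2, map_add, map_sub, map_sub,
              hΨi _ _ 2 (hmove _ (hout _ ω.2) 2 (by norm_num) (by norm_num)),
              show b.coord ω.1.out (conjEnd (lift x) N (b ω.1.out)) = 0 from
                (congrArg (b.coord _) (by rw [pow_one])).trans (hΨi _ _ 1 (by rw [pow_one]; exact hout _ ω.2)),
              Basis.coord_apply, Basis.repr_self, Finsupp.single_eq_same] at h1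
            simpa using h1
          · intro ω' _ hne
            have hd' : ∀ i : ℕ, τ (x ^ i) ω'.1.out ≠ ω.1.out := fun i h => hne (Subtype.ext (by
              rw [← Quotient.out_eq ω'.1, ← Quotient.out_eq ω.1]
              exact Quotient.sound ⟨(i : ℤ), by rw [zpow_natCast, hτx]; exact h⟩))
            rw [map_smul, LinearMap.comp_apply, hexp2, map_add, map_sub, map_sub, hΨi _ _ 2 (hd' 2),
              show b.coord ω.1.out (conjEnd (lift x) N (b ω'.1.out)) = 0 from
                (congrArg (b.coord _) (by rw [pow_one])).trans (hΨi _ _ 1 (hd' 1)),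
              Basis.coord_apply, Basis.repr_self, Finsupp.single_eq_of_ne]
            · simp
            · intro h
              exact hd' 0 (by rw [pow_zero, map_one]; exact h.symm)
          · simp
        set W := LinearMap.range Nx with hW
        let back : Module.End K W →ₗ[K] Module.End K S :=
          { toFun := fun P => W.subtype ∘ₗ P ∘ₗ Nx.rangeRestrict
            map_add' := fun P Q => LinearMap.ext fun v => rfl
            map_smul' := fun a P => LinearMap.ext fun v => rfl }
        have hrange : ∀ T, L T ∈ LinearMap.range back := by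
          intro T
          rw [LinearMap.comp_apply, hΔ2]
          refine Submodule.neg_mem _ (Submodule.add_mem _ ?_ ?_) <;>
            exact ⟨Nx.rangeRestrict ∘ₗ T ∘ₗ W.subtype, LinearMap.ext fun v => rfl⟩
        have hΩle : Ω.card ≤ finrank K W * finrank K W := by
          have h1 : LinearIndependent K fun ω : ↥Ω => (⟨L (b ω.1.out), hrange _⟩ : LinearMap.range back) :=
            LinearIndependent.of_comp (LinearMap.range back).subtype hli
          have h2 := h1.fintype_card_le_finrank
          rw [Fintype.card_coe] at h2
          exact h2.trans ((LinearMap.finrank_range_le back).trans (le_of_eq (Module.finrank_linearMap K K W W)))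
        have hlt : 2 * finrank K W < finrank K S := by
          have h1 := Nx.finrank_range_add_finrank_ker
          have hle : W ≤ LinearMap.ker Nx := by
            rintro _ ⟨v, rfl⟩
            rw [LinearMap.mem_ker, ← Module.End.mul_apply, hz]; rfl
          have hlt' : W < LinearMap.ker Nx := by
            obtain ⟨v, hv0, hv⟩ := hu0
            refine lt_of_le_of_ne hle fun hWker => ?_
            have hvker : v ∈ LinearMap.ker Nx := by
              rw [LinearMap.mem_ker, hNx, LinearMap.sub_apply, hl0 x v hv, Module.End.one_apply, sub_self]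
            rw [← hWker] at hvker
            obtain ⟨w, hw⟩ := hvker
            obtain ⟨k, hk⟩ : ∃ k, e.repr v k ≠ 0 := by
              by_contra hne
              push Not at hne
              exact hv0 (e.repr.injective (Finsupp.ext fun k => by simpa using hne k))
            refine hk ?_
            have hfk : f k = 0 := by
              by_contra hfk
              have h2 : e.coord k ∘ₗ u = χ (f k) • e.coord k := e.ext fun m => by
                rw [LinearMap.comp_apply, hf, map_smul, LinearMap.smul_apply, Basis.coord_apply, Basis.repr_self,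
                  Finsupp.single_apply]
                by_cases hm : m = k
                · rw [if_pos hm, hm]
                · rw [if_neg hm, smul_zero, smul_zero]
              have h3 := LinearMap.congr_fun h2 v
              rw [LinearMap.comp_apply, hv, LinearMap.smul_apply, smul_eq_mul, Basis.coord_apply, eq_comm, mul_eq_right₀ hk] at h3
              rw [hχ, AddChar.zmodChar_apply] at h3
              exact hfk ((ZMod.val_eq_zero _).mp (Nat.eq_zero_of_dvd_of_lt ((hζ.pow_eq_one_iff_dvd _).mp h3) (ZMod.val_lt _)))
            have h4 : e.coord k ∘ₗ Nx = 0 := e.ext fun m => by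
              rw [LinearMap.comp_apply, LinearMap.zero_apply]
              by_cases hm : f m = 0
              · rw [hNx, LinearMap.sub_apply, hl0 x _ (hf0 m hm), Module.End.one_apply, sub_self, map_zero]
              · exact repr_eq_zero_of_commute hζ e f hf (hlu' x) (fun h => hm (h.symm.trans hfk))
            rw [← hw]
            exact LinearMap.congr_fun h4 w
          have := Submodule.finrank_lt_finrank_of_lt hlt'
          rw [← hW] at h1
          omega
        have hDD : finrank K S * finrank K S = Nat.card ι := by
          rw [← Module.finrank_linearMap K K S S, Module.finrank_eq_card_basis b, Nat.card_eq_fintype_card]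
        obtain ⟨m, hm⟩ := hcard
        have hMF : M.card + Nat.card Fx = Nat.card ι := by
          have h1 : Nat.card Fx = (Finset.univ.filter fun g => τ x g = g).card := by
            rw [Nat.card_eq_fintype_card, ← Fintype.card_subtype]; rfl
          rw [h1, add_comm, Nat.card_eq_fintype_card]
          exact Finset.card_filter_add_card_filter_not _
        have hFeq := not_three_orbits (m := m) (m' := Fx.index) (F := Nat.card Fx) hq hqt
          (Subgroup.card_mul_index Fx) hm hDD ⟨Ω.card, by omega⟩ (by omega) hlt
        have hM0 : M.card = 0 := by omega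
        rw [Finset.card_eq_zero] at hM0
        exact Finset.notMem_empty g₀ (hM0 ▸ (hMmem g₀).mpr hg₀)
      · have hΔ3 : ∀ T, Δ (Δ (Δ T)) = 0 := fun T => by
          rw [hΔ2, hΔapply]
          have e1 : Nx * (Nx * T - T * Nx - Nx * T * Nx) = -(Nx * T * Nx) := by
            rw [mul_sub, mul_sub, ← mul_assoc, hz, zero_mul, ← mul_assoc, ← mul_assoc, ← mul_assoc, hz, zero_mul,
              zero_mul, sub_zero, zero_sub]
          rw [e1, neg_mul, mul_assoc _ Nx Nx, hz]
          simp only [mul_zero, neg_zero, add_zero]
        have h1 := congrArg (b.coord g₀) (hΔ3 (b g₀))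
        have hexp3 : Δ (Δ (Δ (b g₀))) = (conjEnd (lift x) N ^ 3) (b g₀) - (conjEnd (lift x) N ^ 2) (b g₀) -
            (conjEnd (lift x) N ^ 2) (b g₀) - (conjEnd (lift x) N ^ 2) (b g₀) + conjEnd (lift x) N (b g₀) +
            conjEnd (lift x) N (b g₀) + conjEnd (lift x) N (b g₀) - b g₀ := by
          simp only [hΔ, LinearMap.sub_apply, Module.End.one_apply, map_sub, pow_succ', pow_zero, mul_one,
            Module.End.mul_apply]
          abel
        have hz1 : b.coord g₀ (conjEnd (lift x) N (b g₀)) = 0 :=
          (congrArg (b.coord _) (by rw [pow_one])).trans (hΨi _ _ 1 (by rw [pow_one]; exact hg₀))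
        rw [hexp3, map_sub, map_add, map_add, map_add, map_sub, map_sub, map_sub,
          hΨi _ _ 3 (hmove _ hg₀ 3 (by norm_num) (by omega)),
          hΨi _ _ 2 (hmove _ hg₀ 2 (by norm_num) (by omega)), hz1, Basis.coord_apply, Basis.repr_self,
          Finsupp.single_eq_same, map_zero] at h1
        simp at h1
  · -- characteristic prime to the group
    have htK : (N : K) ≠ 0 := by
      obtain ⟨k, hk⟩ := hR.exists_card_eq
      rw [hN, hk, Nat.cast_pow]
      exact pow_ne_zero _ fun h => htp ((Nat.prime_dvd_prime_iff_eq hp ht).mp ((CharP.cast_eq_zero_iff K p t).mp h)).symm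
    let P : ZMod r → Module.End K S := fun i => e.constr K fun k => if f k = i then e k else 0
    have hP : ∀ i k, P i (e k) = if f k = i then e k else 0 := fun i k => Basis.constr_basis _ _ _ _
    have hPc : ∀ i (A : Module.End K S), u * A = A * u → P i * A = A * P i := by
      intro i A hA
      refine e.ext fun k => ?_
      rw [Module.End.mul_apply, Module.End.mul_apply, hP]
      conv_lhs => rw [← e.sum_repr (A (e k)), map_sum]
      by_cases hk : f k = i
      · rw [if_pos hk]
        conv_rhs => rw [← e.sum_repr (A (e k))]
        refine Finset.sum_congr rfl fun l _ => ?_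
        rw [map_smul, hP]
        by_cases hl : f l = i
        · rw [if_pos hl]
        · rw [if_neg hl, repr_eq_zero_of_commute hζ e f hf hA (fun h => hl (h.trans hk)), zero_smul, zero_smul]
      · rw [if_neg hk, map_zero]
        refine Finset.sum_eq_zero fun l _ => ?_
        rw [map_smul, hP]
        by_cases hl : f l = i
        · rw [repr_eq_zero_of_commute hζ e f hf hA (fun h => hk (h.symm.trans hl)), zero_smul]
        · rw [if_neg hl, smul_zero]
    have hPP : ∀ i, P i * P i = P i := fun i => e.ext fun k => by
      rw [Module.End.mul_apply, hP]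
      split_ifs with hk
      · rw [hP, if_pos hk]
      · exact map_zero _
    let δ : ZMod r → R → K := fun i x => LinearMap.det (lift x * P i + (1 - P i))
    have hδmul : ∀ i x y, δ i (x * y) = δ i x * δ i y := by
      intro i x y
      show LinearMap.det _ = LinearMap.det _ * LinearMap.det _
      rw [← map_mul]
      congr 1
      have hy := hPc i (lift y) (hlu y).symm
      rw [map_mul, add_mul, mul_add, mul_add, mul_assoc (lift x) (P i) (lift y * P i), ← mul_assoc (P i) (lift y) (P i),
        hy, mul_assoc (lift y) (P i) (P i), hPP, mul_sub (lift x * P i), mul_one, mul_assoc (lift x) (P i) (P i), hPP,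
        sub_self, add_zero, sub_mul, one_mul, ← mul_assoc (P i) (lift y), hy, mul_assoc (lift y) (P i) (P i), hPP,
        sub_self, zero_add, sub_mul, one_mul, mul_sub, mul_one, hPP, sub_self, sub_zero, mul_assoc]
    have hδC : ∀ i, ∀ c ∈ C, ∀ x, δ i (c x) = δ i x := by
      intro i c hc x
      obtain ⟨φ, φ', h1, h2, h3, h4⟩ := hC c hc
      have h5 : (lift (c x) * P i + (1 - P i)) * φ = φ * (lift x * P i + (1 - P i)) := by
        have hφP := hPc i φ h3.symm
        rw [add_mul, mul_add, sub_mul, mul_sub, one_mul, mul_one, mul_assoc, hφP, ← mul_assoc, h4, mul_assoc]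
      have h6 := congrArg LinearMap.det h5
      rw [map_mul, map_mul, mul_comm (LinearMap.det φ)] at h6
      refine mul_right_cancel₀ (fun h0 => ?_) h6
      have h7 := congrArg LinearMap.det h1
      rw [map_mul, h0, mul_zero, map_one] at h7
      exact zero_ne_one h7
    have hδ1 : ∀ i x, δ i x = 1 := by
      intro i
      have hδone : δ i 1 = 1 := by
        show LinearMap.det _ = 1
        rw [map_one, one_mul, add_sub_cancel, map_one]
      let Ker : Subgroup R :=
        { carrier := {x | δ i x = 1}
          one_mem' := hδone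
          mul_mem' := fun {a a'} ha ha' => by show δ i (a * a') = 1; rw [hδmul, ha, ha', one_mul]
          inv_mem' := fun {a} ha => by
            show δ i a⁻¹ = 1
            have h1 := hδmul i a⁻¹ a
            rwa [inv_mul_cancel, hδone, ha, mul_one, eq_comm] at h1 }
      have hle : Subgroup.closure {g : R | ∃ c ∈ C, ∃ x, g = c x * x⁻¹} ≤ Ker := by
        rw [Subgroup.closure_le]
        rintro _ ⟨c, hc, x, rfl⟩
        show δ i (c x * x⁻¹) = 1
        rw [hδmul, hδC i c hc, ← hδmul, mul_inv_cancel, hδone]
      exact fun x => hle (hgen (Subgroup.mem_top x))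
    intro x
    obtain ⟨J', hJ', e', f', g', hf', hg', -⟩ := exists_eigenbasis_pair hζ hr0 htK
      (hr.coprime_iff_not_dvd.mpr hrN) u (lift x) hu (hX x) (show Commute u (lift x) from (hlu x).symm)
    obtain ⟨c, hc⟩ := pair_count (1 : ι) σp (τp x) hr hN0 hrN hζ (map_one σ) (map_one (τ x)) (hcomm x) hσp (hτp x)
      hfree b hbo u (lift x) hu (hX x) hub (hXb x) e' f' g' hf' hg'
    have hg0 : ∀ k, f' k = 0 → g' k = 1 := fun k hk => by
      have h1 := hl0 x (e' k) (by rw [hf', hk, AddChar.map_zero_eq_one, one_smul])
      rw [hg'] at h1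
      exact smul_left_injective K (e'.ne_zero k) (h1.trans (one_smul K _).symm)
    refine e'.ext fun k => ?_
    rw [hg', Module.End.one_apply]
    by_contra hne
    have hk1 : g' k ≠ 1 := fun h => hne (by rw [h, one_smul])
    have hi : f' k ≠ 0 := fun h => hk1 (hg0 k h)
    obtain ⟨hA, hB⟩ := multiplicity_near f' g' hc hi
    have hzero : ∀ y, y ≠ 1 → Nat.card {l : J' // f' l = 0 ∧ g' l = y} = 0 := fun y hy => by
      rw [Nat.card_eq_zero]
      exact Or.inl ⟨fun l => hy (l.2.2 ▸ hg0 l l.2.1)⟩
    have hsingle : ∀ l, f' l = f' k → g' l ≠ 1 → l = k := by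
      intro l hl hl1
      have hpos : ∀ m, f' m = f' k → Nat.card {l : J' // f' l = f' k ∧ g' l = g' m} ≠ 0 := fun m hm => by
        haveI : Nonempty {l : J' // f' l = f' k ∧ g' l = g' m} := ⟨⟨m, hm, rfl⟩⟩
        exact Nat.card_pos.ne'
      have heq : g' l = g' k := hB _ _ (by rw [hzero _ hl1]; exact hpos l hl) (by rw [hzero _ hk1]; exact hpos k rfl)
      have h1 := hA (g' k)
      rw [hzero _ hk1, zero_add] at h1
      haveI := Finite.card_le_one_iff_subsingleton.mp h1
      exact congrArg Subtype.val (Subsingleton.elim
        (⟨l, hl, heq⟩ : {l : J' // f' l = f' k ∧ g' l = g' k}) ⟨k, rfl, rfl⟩)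
    have hPe : ∀ l, P (f' k) (e' l) = if f' l = f' k then e' l else 0 := by
      intro l
      conv_lhs => rw [← e.sum_repr (e' l), map_sum]
      have hsupp : ∀ m, e.repr (e' l) m ≠ 0 → f m = f' l := by
        intro m hm
        have h2 : e.coord m ∘ₗ u = χ (f m) • e.coord m := e.ext fun m' => by
          rw [LinearMap.comp_apply, hf, map_smul, LinearMap.smul_apply, Basis.coord_apply, Basis.repr_self,
            Finsupp.single_apply]
          by_cases hmm : m' = m
          · rw [if_pos hmm, hmm]
          · rw [if_neg hmm, smul_zero, smul_zero]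
        have h3 := LinearMap.congr_fun h2 (e' l)
        rw [LinearMap.comp_apply, hf', map_smul, LinearMap.smul_apply, smul_eq_mul, smul_eq_mul] at h3
        have h4 := (mul_right_cancel₀ hm h3).symm
        simp only [hχ, AddChar.zmodChar_apply] at h4
        exact ZMod.val_injective r (hζ.pow_inj (ZMod.val_lt _) (ZMod.val_lt _) h4)
      by_cases hl : f' l = f' k
      · rw [if_pos hl]
        conv_rhs => rw [← e.sum_repr (e' l)]
        refine Finset.sum_congr rfl fun m _ => ?_
        rw [map_smul, hP]
        by_cases hm : e.repr (e' l) m = 0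
        · rw [hm, zero_smul, zero_smul]
        · rw [if_pos ((hsupp m hm).trans hl)]
      · rw [if_neg hl]
        refine Finset.sum_eq_zero fun m _ => ?_
        rw [map_smul, hP]
        by_cases hm : e.repr (e' l) m = 0
        · rw [hm, zero_smul]
        · rw [if_neg (fun h => hl ((hsupp m hm).symm.trans h)), smul_zero]
    have hdet : δ (f' k) x = g' k := by
      show LinearMap.det _ = _
      rw [← LinearMap.det_toMatrix e']
      have hdiag : LinearMap.toMatrix e' e' (lift x * P (f' k) + (1 - P (f' k))) =
          Matrix.diagonal fun l => if f' l = f' k then g' l else 1 := by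
        refine Matrix.ext fun i j => ?_
        rw [LinearMap.toMatrix_apply, LinearMap.add_apply, Module.End.mul_apply, LinearMap.sub_apply,
          Module.End.one_apply, hPe, Matrix.diagonal_apply]
        by_cases hj : f' j = f' k
        · rw [if_pos hj, hg', sub_self, add_zero, map_smul, Basis.repr_self, Finsupp.smul_apply,
            Finsupp.single_apply, smul_eq_mul]
          by_cases hij : j = i
          · subst hij; rw [if_pos rfl, if_pos rfl, if_pos hj, mul_one]
          · rw [if_neg hij, if_neg (Ne.symm hij), mul_zero]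
        · rw [if_neg hj, map_zero, zero_add, sub_zero, Basis.repr_self, Finsupp.single_apply]
          by_cases hij : j = i
          · subst hij; rw [if_pos rfl, if_pos rfl, if_neg hj]
          · rw [if_neg hij, if_neg (Ne.symm hij)]
      rw [hdiag, Matrix.det_diagonal, Finset.prod_eq_single k, if_pos rfl]
      · intro l _ hl
        split_ifs with h
        · by_contra h1; exact hl (hsingle l h h1)
        · rfl
      · simp
    exact hk1 (hdet.symm.trans (hδ1 _ x))

end Cfsg.Agent.Grp.Turull
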