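import Mathlib
import Cfsg.Agent.Lib.Grp.TurullHeight.Rigid
import Cfsg.Agent.Lib.Grp.TurullHeight.Basic
import Cfsg.Agent.Lib.Grp.EndAlgebra

/-!
An irreducible module for a class two group extended by a coprime operator of prime order and a group
trivial on the fixed points of that operator.
-/

set_option autoImplicit false
set_option linter.unusedSectionVars false
set_option linter.style.haveILetI false

namespace Cfsg.Agent.Grp.Turull

open Module Subgroup
open scoped commutatorElement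

universe u v w

variable {Γ : Type w} [Group Γ]

/-- A character of an invariant group which is invariant and trivial on fixed elements is trivial. -/
theorem character_eq_one [Finite Γ] {r : ℕ} (hr : r.Prime) {a : Γ} (har : a ^ r = 1) {Z : Subgroup Γ}
    (haZ : a ∈ normalizer (Z : Set Γ)) (hcard : ¬ r ∣ Nat.card Z) {K : Type*} [Field K] (η : Γ → K)
    (hmul : ∀ z ∈ Z, ∀ z' ∈ Z, η (z * z') = η z * η z')
    (hinv : ∀ z ∈ Z, η (a * z * a⁻¹) = η z) (hfix : ∀ z ∈ Z, a * z = z * a → η z = 1) :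
    ∀ z ∈ Z, η z = 1 := by
  classical
  have hone : η 1 = 1 := hfix 1 Z.one_mem (by rw [mul_one, one_mul])
  have hunit : ∀ z ∈ Z, η z * η z⁻¹ = 1 := fun z hz => by
    rw [← hmul z hz _ (inv_mem hz), mul_inv_cancel, hone]
  let Ker : Subgroup Γ :=
    { carrier := {z | z ∈ Z ∧ η z = 1}
      one_mem' := ⟨Z.one_mem, hone⟩
      mul_mem' := fun {x y} hx hy => ⟨mul_mem hx.1 hy.1, by rw [hmul x hx.1 y hy.1, hx.2, hy.2, one_mul]⟩
      inv_mem' := fun {x} hx => ⟨inv_mem hx.1, by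
        have h1 := hunit x hx.1
        rwa [hx.2, one_mul] at h1⟩ }
  have hpow : ∀ (i : ℕ), ∀ z ∈ Z, η (a ^ i * z * (a ^ i)⁻¹) = η z := by
    intro i
    induction i with
    | zero => intro z _; simp
    | succ i ih =>
      intro z hz
      rw [pow_succ', show a * a ^ i * z * (a * a ^ i)⁻¹ = a * (a ^ i * z * (a ^ i)⁻¹) * a⁻¹ by group,
        hinv _ (mem_conj_normalizer (Subgroup.pow_mem _ haZ i) hz), ih z hz]
  have hle : ⁅Z, zpowers a⁆ ≤ Ker := by
    rw [Subgroup.commutator_le]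
    intro z hz t ht
    obtain ⟨i, rfl⟩ := mem_powers_iff_mem_zpowers.mpr ht
    have hm : a ^ i * z⁻¹ * (a ^ i)⁻¹ ∈ Z := mem_conj_normalizer (Subgroup.pow_mem _ haZ i) (inv_mem hz)
    have e : ⁅z, a ^ i⁆ = z * (a ^ i * z⁻¹ * (a ^ i)⁻¹) := by rw [commutatorElement_def]; group
    rw [e]
    exact ⟨mul_mem hz hm, by rw [hmul z hz _ hm, hpow i _ (inv_mem hz), hunit z hz]⟩
  intro z hz
  obtain ⟨m, hm, c, hc, rfl⟩ := exists_commutator_mul_fixed (zpowers a) Z (zpowers_le_normalizer haZ)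
    (coprime_zpowers har hr hcard) (Or.inl (Group.isSolvable_of_comm mul_comm')) hz
  obtain ⟨hcZ, hca⟩ := mem_fixed.mp hc
  rw [hmul m (hle hm).1 c hcZ, (hle hm).2, hfix c hcZ hca, one_mul]

theorem intertwine_inv {M : Type*} [Monoid M] {A A' P Q : M} (h1 : A * A' = 1) (h2 : A' * A = 1)
    (h : A * Q = P * A) : A' * P = Q * A' := by
  calc A' * P = A' * (P * A) * A' := by rw [mul_assoc, mul_assoc, h1, mul_one]
    _ = A' * (A * Q) * A' := by rw [h]
    _ = Q * A' := by rw [← mul_assoc A', h2, one_mul]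

variable {K : Type u} [Field K] [IsAlgClosed K] {U : Type v} [AddCommGroup U] [Module K U]
  [FiniteDimensional K U]

set_option maxHeartbeats 1600000 in
/-- The core of the theorem on groups trivial on the fixed points of an operator. -/
theorem theta_irreducible [Finite Γ] [Nontrivial U] (ρ : Γ →* Module.End K U)
    (hirr : ∀ W : Submodule K U, (∀ g, ∀ v ∈ W, ρ g v ∈ W) → W = ⊥ ∨ W = ⊤)
    {p q t r : ℕ} [CharP K p] (hp : p.Prime) (hq : q.Prime) (ht : t.Prime) (hr : r.Prime)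
    (hqp : q ≠ p) (hpr : p ≠ r) (htr : t ≠ r) (hqt : q ≠ t) (hqr : q ≠ r)
    {a : Γ} (har : a ^ r = 1) {Y Φ R : Subgroup Γ} (hY : IsPGroup q Y) (hR : IsPGroup t R)
    (haY : a ∈ normalizer (Y : Set Γ)) (hRY : R ≤ normalizer (Y : Set Γ)) (hRa : ∀ x ∈ R, a * x = x * a)
    (hΦY : Φ ≤ Y) (haΦ : a ∈ normalizer (Φ : Set Γ)) (hRΦ : ∀ x ∈ R, ∀ f ∈ Φ, x * f = f * x)
    (hΦc : ∀ f ∈ Φ, ∀ y ∈ Y, f * y = y * f) (hYY : ⁅Y, Y⁆ ≤ Φ)
    (hfix : ∀ y ∈ Y, a * y = y * a → y ∈ Φ)
    (hRfix : ∀ y ∈ Y, (∀ x ∈ R, x * y = y * x) → y ∈ Φ)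
    (hgenΓ : ⊤ ≤ Y ⊔ R ⊔ zpowers a)
    (hR0 : ∀ x ∈ R, ∀ v, ρ a v = v → ρ x v = v)
    (C : Set (MulAut Γ))
    (hC : (∀ v, ρ a v = v → v = 0) ∨
      (R ≤ Subgroup.closure {g | ∃ c ∈ C, ∃ x ∈ R, g = c x * x⁻¹} ∧
        ∀ c ∈ C, c a = a ∧ (∀ y ∈ Y, c y ∈ Y) ∧ (∀ f ∈ Φ, c f ∈ Φ) ∧ (∀ x ∈ R, c x ∈ R) ∧
          ∀ f ∈ Φ, a * f = f * a → ∀ v, ρ a v = v → ρ (c f) v = ρ f v)) :
    ∀ x ∈ R, ∀ y ∈ Y, ρ ⁅x, y⁆ = 1 := by
  classical
  haveI := Fact.mk hp
  haveI := Fact.mk hq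
  haveI := Fact.mk ht
  haveI : NeZero r := ⟨hr.ne_zero⟩
  have hr0 : (r : K) ≠ 0 := fun h => hpr ((Nat.prime_dvd_prime_iff_eq hp hr).mp ((CharP.cast_eq_zero_iff K p r).mp h))
  have hinvρ : ∀ g, ρ g⁻¹ * ρ g = 1 := fun g => by rw [← map_mul, inv_mul_cancel, map_one]
  have hinjρ : ∀ g v, ρ g v = 0 → v = 0 := fun g v h => by
    have h1 := LinearMap.congr_fun (hinvρ g) v
    rw [Module.End.mul_apply, h, map_zero] at h1
    exact h1.symm
  have hρinv1 : ∀ g, ρ g = 1 → ρ g⁻¹ = 1 := fun g h => by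
    have h1 := hinvρ g
    rwa [h, mul_one] at h1
  -- the elements central in the image of `Y`
  let Z0 : Subgroup Γ :=
    { carrier := {z | z ∈ Y ∧ ∀ y ∈ Y, ρ ⁅z, y⁆ = 1}
      one_mem' := ⟨Y.one_mem, fun y _ => by rw [commutatorElement_one_left, map_one]⟩
      mul_mem' := fun {x z} hx hz => ⟨mul_mem hx.1 hz.1, fun y hy => by
        rw [commutatorElement_mul_left_eq_conj_mul, map_mul, map_mul, map_mul, hz.2 y hy, hx.2 y hy, mul_one,
          mul_one, ← map_mul, mul_inv_cancel, map_one]⟩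
      inv_mem' := fun {x} hx => ⟨inv_mem hx.1, fun y hy => by
        rw [show ⁅x⁻¹, y⁆ = x⁻¹ * ⁅x, y⁆⁻¹ * x by simp only [commutatorElement_def]; group, map_mul, map_mul,
          hρinv1 _ (hx.2 y hy), mul_one, hinvρ]⟩ }
  have hZ0Y : Z0 ≤ Y := fun z hz => hz.1
  have hnormZ0 : normalizer (Y : Set Γ) ≤ normalizer (Z0 : Set Γ) := invariant_iff.mp fun g hg z hz =>
    ⟨mem_conj_normalizer hg hz.1, fun y hy => by
      rw [show ⁅g * z * g⁻¹, y⁆ = g * ⁅z, g⁻¹ * y * g⁆ * g⁻¹ by simp only [commutatorElement_def]; group,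
        map_mul, map_mul, hz.2 _ (mem_conj_normalizer' hg hy), mul_one, ← map_mul, mul_inv_cancel, map_one]⟩
  have haZ0 : a ∈ normalizer (Z0 : Set Γ) := hnormZ0 haY
  have hΦZ0 : Φ ≤ Z0 := fun f hf => ⟨hΦY hf, fun y hy => by
    rw [commutatorElement_eq_one_iff_mul_comm.mpr (hΦc f hf y hy), map_one]⟩
  have hcentral : ∀ z ∈ Z0, ∀ y ∈ Y, ρ (z * y) = ρ (y * z) := fun z hz y hy => by
    rw [show z * y = ⁅z, y⁆ * (y * z) by rw [commutatorElement_def]; group, map_mul, hz.2 y hy, one_mul]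
  have hqcard : ∀ H : Subgroup Γ, H ≤ Y → ¬ r ∣ Nat.card H := fun H hH =>
    not_dvd_card_of_pGroup hq hr hqr (hY.to_le hH)
  -- a minimal submodule for `Y`
  obtain ⟨S, ⟨hS0, hSinv⟩, hSmin⟩ :=
    (IsWellFounded.wf : WellFounded ((· < ·) : Submodule K U → Submodule K U → Prop)).has_min
      {W : Submodule K U | W ≠ ⊥ ∧ ∀ y ∈ Y, ∀ v ∈ W, ρ y v ∈ W} ⟨⊤, top_ne_bot, fun _ _ _ _ => trivial⟩
  haveI : Nontrivial S := Submodule.nontrivial_iff_ne_bot.mpr hS0
  let ρS : ↥Y →* Module.End K S :=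
    { toFun := fun y => (ρ (y : Γ)).restrict (fun v hv => hSinv y y.2 v hv)
      map_one' := LinearMap.ext fun v => Subtype.ext (by simp [LinearMap.restrict_apply])
      map_mul' := fun y y' => LinearMap.ext fun v => Subtype.ext (by simp [LinearMap.restrict_apply]) }
  have hρS : ∀ (y : ↥Y) (v : S), ((ρS y v : S) : U) = ρ (y : Γ) v := fun y v => rfl
  have hirrS : ∀ W : Submodule K S, (∀ y, ∀ v ∈ W, ρS y v ∈ W) → W = ⊥ ∨ W = ⊤ := by
    intro W hW
    by_cases hW0 : W = ⊥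
    · exact Or.inl hW0
    right
    by_contra hW1
    refine hSmin (W.map S.subtype) ⟨fun e => hW0 ?_, ?_⟩ ?_
    · exact Submodule.map_injective_of_injective S.injective_subtype (by rw [e, Submodule.map_bot])
    · rintro y hy _ ⟨v, hv, rfl⟩
      exact ⟨ρS ⟨y, hy⟩ v, hW _ v hv, rfl⟩
    · refine lt_of_le_of_ne (Submodule.map_subtype_le S W) fun e => hW1 ?_
      exact Submodule.map_injective_of_injective S.injective_subtype
        (by rw [e, Submodule.map_top, Submodule.range_subtype])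
  have hschur : ∀ T : Module.End K S, (∀ y, T * ρS y = ρS y * T) → ∃ c : K, T = c • 1 := by
    intro T hT
    obtain ⟨c, hc⟩ := Module.End.exists_eigenvalue T
    refine ⟨c, LinearMap.ext fun v => ?_⟩
    have htop : Module.End.eigenspace T c = ⊤ := by
      refine (hirrS _ fun y w hw => ?_).resolve_left hc
      rw [Module.End.mem_eigenspace_iff] at hw ⊢
      rw [← Module.End.mul_apply, hT, Module.End.mul_apply, hw, map_smul]
    exact Module.End.mem_eigenspace_iff.mp (htop ▸ Submodule.mem_top : v ∈ Module.End.eigenspace T c)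
  obtain ⟨v₀, hv₀⟩ := exists_ne (0 : S)
  have hscal0 : ∀ z : Γ, ∃ c : K, z ∈ Z0 → ∀ v : S, ρ z v = c • (v : U) := by
    intro z
    by_cases hz : z ∈ Z0
    · obtain ⟨c, hc⟩ := hschur (ρS ⟨z, hz.1⟩) fun y => LinearMap.ext fun v => Subtype.ext (by
        rw [Module.End.mul_apply, Module.End.mul_apply, hρS, hρS, hρS, hρS, ← Module.End.mul_apply,
          ← Module.End.mul_apply, ← map_mul, ← map_mul]
        exact LinearMap.congr_fun (hcentral z hz y y.2) (v : U))
      exact ⟨c, fun _ v => by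
        have h1 := congrArg Subtype.val (LinearMap.congr_fun hc v)
        exact h1⟩
    · exact ⟨0, fun h => absurd h hz⟩
  choose μ hμ using hscal0
  -- weight spaces
  let Wt : (Γ → K) → Submodule K U := fun ν =>
    { carrier := {v | ∀ z ∈ Z0, ρ z v = ν z • v}
      add_mem' := fun {v w} hv hw z hz => by rw [map_add, hv z hz, hw z hz, smul_add]
      zero_mem' := fun z _ => by simp
      smul_mem' := fun c v hv z hz => by rw [map_smul, hv z hz, smul_comm] }
  have hWt : ∀ (g : Γ) (ν : Γ → K) v, g ∈ normalizer (Z0 : Set Γ) → v ∈ Wt ν →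
      ρ g v ∈ Wt (fun z => ν (g⁻¹ * z * g)) := by
    intro g ν v hg hv z hz
    rw [← Module.End.mul_apply, ← map_mul, show z * g = g * (g⁻¹ * z * g) by group, map_mul, Module.End.mul_apply,
      hv _ (mem_conj_normalizer' hg hz), map_smul]
  have huniq : ∀ (c c' : K) (v : U), v ≠ 0 → c • v = c' • v → c = c' := fun c c' v hv e => smul_left_injective K hv e
  have hmult : ∀ (ν : Γ → K) v, v ∈ Wt ν → v ≠ 0 → ∀ z ∈ Z0, ∀ z' ∈ Z0, ν (z * z') = ν z * ν z' := by
    intro ν v hv hv0 z hz z' hz'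
    refine huniq _ _ v hv0 ?_
    rw [← hv _ (mul_mem hz hz'), map_mul, Module.End.mul_apply, hv _ hz', map_smul, hv _ hz, smul_smul, mul_comm]
  have hYfix : ∀ (ν : Γ → K) v, v ∈ Wt ν → v ≠ 0 → ∀ y ∈ Y, ∀ z ∈ Z0, ν (y⁻¹ * z * y) = ν z := by
    intro ν v hv hv0 y hy z hz
    refine huniq _ _ v hv0 ?_
    have hm : y⁻¹ * z * y ∈ Z0 := mem_conj_normalizer' (hnormZ0 (le_normalizer hy)) hz
    have e : ρ (y⁻¹ * z * y) = ρ z := by
      rw [mul_assoc, map_mul, hcentral z hz y hy, map_mul, ← mul_assoc, hinvρ, one_mul]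
    rw [← hv _ hm, ← hv _ hz, e]
  have hμ0 : (v₀ : U) ∈ Wt μ := fun z hz => hμ z hz v₀
  have hv₀' : (v₀ : U) ≠ 0 := fun h => hv₀ (Subtype.ext h)
  have hnormR : R ≤ normalizer (Z0 : Set Γ) := hRY.trans hnormZ0
  have hstable : ∀ W : Submodule K U, (∀ g, g ∈ Y ∨ g ∈ R ∨ g = a → ∀ v ∈ W, ρ g v ∈ W) →
      ∀ g, ∀ v ∈ W, ρ g v ∈ W := by
    intro W hW g
    let G0 : Subgroup Γ :=
      { carrier := {g | ∀ v ∈ W, ρ g v ∈ W}
        one_mem' := fun v hv => by rw [map_one]; exact hv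
        mul_mem' := fun {x y} hx hy v hv => by rw [map_mul]; exact hx _ (hy v hv)
        inv_mem' := fun {x} hx v hv => by
          obtain ⟨w, hw, hwv⟩ : v ∈ W.map (ρ x) := by
            have hle : W.map (ρ x) ≤ W := by rintro _ ⟨w, hw, rfl⟩; exact hx w hw
            have hfin : finrank K (W.map (ρ x)) = finrank K W :=
              (Submodule.equivMapOfInjective (ρ x) ((injective_iff_map_eq_zero _).mpr (hinjρ x)) W).finrank_eq.symm
            rw [Submodule.eq_of_le_of_finrank_eq hle hfin]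
            exact hv
          rw [← hwv, ← Module.End.mul_apply, hinvρ]
          exact hw }
    have hle : Y ⊔ R ⊔ zpowers a ≤ G0 := sup_le (sup_le (fun y hy => hW y (Or.inl hy))
      (fun x hx => hW x (Or.inr (Or.inl hx)))) (zpowers_le.mpr (hW a (Or.inr (Or.inr rfl))))
    exact hle (hgenΓ (Subgroup.mem_top g))
  by_cases hmoved : ∃ z ∈ Z0, μ (a⁻¹ * z * a) ≠ μ z
  · -- everything is moved by `a`
    intro x hx y hy
    suffices h : ∀ x ∈ R, ρ x = 1 by
      rw [commutatorElement_def, map_mul, map_mul, map_mul, h x hx, h x⁻¹ (inv_mem hx), one_mul, mul_one,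
        ← map_mul, mul_inv_cancel, map_one]
    let Mv : (Γ → K) → Prop := fun ν => ∃ z ∈ Z0, ν (a⁻¹ * z * a) ≠ ν z
    let W : Submodule K U := ⨆ ν : {ν : Γ → K // Mv ν}, Wt ν.1
    have hxfix : ∀ x ∈ R, ∀ (ν : Γ → K), Mv ν → ∀ v ∈ Wt ν, ρ x v = v := by
      intro x hx ν hν v hv
      by_cases hv0 : v = 0
      · rw [hv0, map_zero]
      have hcard0 : (Nat.card Z0 : K) ≠ 0 := by
        obtain ⟨k, hk⟩ := (hY.to_le hZ0Y).exists_card_eq
        rw [hk, Nat.cast_pow]
        exact pow_ne_zero _ fun h => hqp ((Nat.prime_dvd_prime_iff_eq hp hq).mp ((CharP.cast_eq_zero_iff K p q).mp h)).symm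
      -- powers of `a` moving a weight
      have hstab : ∀ (ν : Γ → K), Mv ν → ∀ i : ℕ, (∀ z ∈ Z0, ν ((a ^ i)⁻¹ * z * a ^ i) = ν z) → r ∣ i := by
        intro ν hν i hi
        by_contra hnd
        obtain ⟨j, hj⟩ : ∃ j, (a ^ i) ^ j = a := exists_pow_eq_self_of_coprime
          ((Nat.Coprime.symm (hr.coprime_iff_not_dvd.mpr hnd)).coprime_dvd_right (orderOf_dvd_of_pow_eq_one har))
        obtain ⟨z, hz, hne⟩ := hν
        refine hne ?_
        have h1 : ∀ j : ℕ, ν (((a ^ i) ^ j)⁻¹ * z * (a ^ i) ^ j) = ν z := by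
          intro j
          induction j with
          | zero => simp
          | succ j ih =>
            have hm : ((a ^ i) ^ j)⁻¹ * z * (a ^ i) ^ j ∈ Z0 :=
              mem_conj_normalizer' (Subgroup.pow_mem _ (Subgroup.pow_mem _ haZ0 i) j) hz
            rw [← ih, ← hi _ hm, pow_succ, mul_inv_rev]
            congr 1
            simp only [mul_assoc]
        have h2 := h1 j
        rwa [hj] at h2
      set w := ρ x v with hw
      set κ : Γ → K := fun z => ν (x⁻¹ * z * x) with hκ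
      have hwκ : w ∈ Wt κ := hWt x ν v (hnormR hx) hv
      have hw0 : w ≠ 0 := fun h => hv0 (hinjρ x v h)
      have hκMv : Mv κ := by
        obtain ⟨z, hz, hne⟩ := hν
        refine ⟨x * z * x⁻¹, mem_conj_normalizer (hnormR hx) hz, ?_⟩
        have e1 : x⁻¹ * (a⁻¹ * (x * z * x⁻¹) * a) * x = a⁻¹ * z * a := by
          have h1 : Commute a x := hRa x hx
          calc x⁻¹ * (a⁻¹ * (x * z * x⁻¹) * a) * x = (a * x)⁻¹ * (x * z * x⁻¹) * (a * x) := by group
            _ = (x * a)⁻¹ * (x * z * x⁻¹) * (x * a) := by rw [h1.eq]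
            _ = a⁻¹ * z * a := by group
        show ν _ ≠ ν _
        rw [e1, show x⁻¹ * (x * z * x⁻¹) * x = z by group]
        exact hne
      haveI : Fintype ↥Z0 := Fintype.ofFinite _
      let E : Module.End K U := ∑ z : ↥Z0, (κ (z : Γ))⁻¹ • ρ (z : Γ)
      have hκinv : ∀ z ∈ Z0, κ z ≠ 0 := fun z hz h => hw0 (hinjρ z w (by rw [hwκ z hz, h, zero_smul]))
      have hEeq : ∀ (ξ : Γ → K) u, u ∈ Wt ξ → (∀ z ∈ Z0, ξ z = κ z) → E u = (Nat.card Z0 : K) • u := by
        intro ξ u hu he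
        rw [LinearMap.sum_apply, Finset.sum_congr rfl fun (z : ↥Z0) _ => show ((κ (z : Γ))⁻¹ • ρ (z : Γ)) u = u by
          rw [LinearMap.smul_apply, hu _ z.2, he _ z.2, smul_smul, inv_mul_cancel₀ (hκinv _ z.2), one_smul]]
        rw [Finset.sum_const, Finset.card_univ, ← Nat.card_eq_fintype_card, Nat.cast_smul_eq_nsmul]
      have hEne : ∀ (ξ : Γ → K) u, u ∈ Wt ξ → u ≠ 0 → ¬ (∀ z ∈ Z0, ξ z = κ z) → E u = 0 := by
        intro ξ u hu hu0 he
        push Not at he
        obtain ⟨z₀, hz₀, hne⟩ := he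
        let F : ↥Z0 → K := fun z => (κ (z : Γ))⁻¹ * ξ (z : Γ)
        have hF : E u = (∑ z, F z) • u := by
          rw [LinearMap.sum_apply, Finset.sum_smul]
          exact Finset.sum_congr rfl fun z _ => by rw [LinearMap.smul_apply, hu _ z.2, smul_smul]
        have hF1 : ∑ z, F z = 0 := by
          have h1 : F ⟨z₀, hz₀⟩ * ∑ z, F z = ∑ z, F z := by
            rw [Finset.mul_sum]
            refine Fintype.sum_equiv (Equiv.mulLeft (⟨z₀, hz₀⟩ : ↥Z0)) _ _ fun z => ?_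
            show _ = (κ (z₀ * (z : Γ)))⁻¹ * ξ (z₀ * (z : Γ))
            rw [hmult κ w hwκ hw0 _ hz₀ _ z.2, hmult ξ u hu hu0 _ hz₀ _ z.2, mul_inv]
            simp only [F]
            ring
          by_contra h0
          have h2 := mul_eq_right₀ h0 |>.mp h1
          simp only [F] at h2
          exact hne (by
            rw [inv_mul_eq_one₀ (hκinv _ hz₀)] at h2
            exact h2.symm)
        rw [hF, hF1, zero_smul]
      let s : U := ∑ i ∈ Finset.range r, ρ (a ^ i) v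
      have has : ρ a s = s := by
        simp only [s, map_sum, ← Module.End.mul_apply, ← map_mul, ← pow_succ']
        have h1 := (Finset.sum_range_succ (fun i => ρ (a ^ i) v) r).symm.trans
          (Finset.sum_range_succ' (fun i => ρ (a ^ i) v) r)
        rw [har, pow_zero] at h1
        exact (add_right_cancel h1).symm
      have hxs := hR0 x hx s has
      have haiN : ∀ i : ℕ, a ^ i ∈ normalizer (Z0 : Set Γ) := fun i => Subgroup.pow_mem _ haZ0 i
      have hwt_i : ∀ i : ℕ, ρ (a ^ i) v ∈ Wt (fun z => ν ((a ^ i)⁻¹ * z * a ^ i)) := fun i =>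
        hWt _ ν v (haiN i) hv
      have hne_i : ∀ i : ℕ, ρ (a ^ i) v ≠ 0 := fun i h => hv0 (hinjρ _ v h)
      have hL : E (ρ x s) = (Nat.card Z0 : K) • w := by
        rw [map_sum, map_sum, Finset.sum_eq_single 0]
        · rw [pow_zero, map_one, Module.End.one_apply, hEeq κ _ hwκ fun _ _ => rfl]
        · intro i hi hi0
          have e1 : ρ x (ρ (a ^ i) v) = ρ (a ^ i) w := by
            rw [hw, ← Module.End.mul_apply, ← Module.End.mul_apply, ← map_mul, ← map_mul,
              ((show Commute a x from hRa x hx).pow_left i).eq]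
          rw [e1]
          refine hEne _ _ (hWt _ κ w (haiN i) hwκ) (fun h => hw0 (hinjρ _ w h)) fun hall => hi0 ?_
          exact Nat.eq_zero_of_dvd_of_lt (hstab κ hκMv i hall) (Finset.mem_range.mp hi)
        · intro h; exact absurd (Finset.mem_range.mpr hr.pos) h
      obtain ⟨k, hk⟩ : ∃ k : ℕ, ρ x v = ρ (a ^ k) v := by
        by_cases hex : ∃ k ∈ Finset.range r, ∀ z ∈ Z0, ν ((a ^ k)⁻¹ * z * a ^ k) = κ z
        · obtain ⟨k, hkr, hk⟩ := hex
          refine ⟨k, ?_⟩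
          have hR' : E s = (Nat.card Z0 : K) • ρ (a ^ k) v := by
            rw [map_sum, Finset.sum_eq_single k]
            · exact hEeq _ _ (hwt_i k) hk
            · intro i hi hik
              refine hEne _ _ (hwt_i i) (hne_i i) fun hall => hik ?_
              rcases le_total k i with hle | hle
              · have hd := hstab ν hν (i - k) fun z hz => by
                  have hm : a ^ k * z * (a ^ k)⁻¹ ∈ Z0 := mem_conj_normalizer (haiN k) hz
                  have h1 := (hall _ hm).trans (hk _ hm).symm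
                  rw [show a ^ i = a ^ k * a ^ (i - k) by rw [← pow_add, show k + (i - k) = i by omega]] at h1
                  convert h1 using 2 <;> group
                have := Finset.mem_range.mp hi
                have := Nat.eq_zero_of_dvd_of_lt hd (by omega)
                omega
              · have hd := hstab ν hν (k - i) fun z hz => by
                  have hm : a ^ i * z * (a ^ i)⁻¹ ∈ Z0 := mem_conj_normalizer (haiN i) hz
                  have h1 := (hk _ hm).trans (hall _ hm).symm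
                  rw [show a ^ k = a ^ i * a ^ (k - i) by rw [← pow_add, show i + (k - i) = k by omega]] at h1
                  convert h1 using 2 <;> group
                have := Finset.mem_range.mp hkr
                have := Nat.eq_zero_of_dvd_of_lt hd (by omega)
                omega
            · intro h; exact absurd hkr h
          have h3 := congrArg E hxs
          rw [hL, hR'] at h3
          exact smul_right_injective U hcard0 h3
        · exfalso
          push Not at hex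
          have hR' : E s = 0 := by
            rw [map_sum]
            refine Finset.sum_eq_zero fun i hi => hEne _ _ (hwt_i i) (hne_i i) fun hall => ?_
            obtain ⟨z, hz, hne⟩ := hex i hi
            exact hne (hall z hz)
          have h3 := congrArg E hxs
          rw [hL, hR'] at h3
          exact hw0 ((smul_eq_zero.mp h3).resolve_left hcard0)
      have hiter : ∀ m : ℕ, ρ (x ^ m) v = ρ (a ^ (k * m)) v := by
        intro m
        induction m with
        | zero => simp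
        | succ m ih =>
          rw [pow_succ', map_mul, Module.End.mul_apply, ih, ← Module.End.mul_apply, ← map_mul,
            ← ((show Commute a x from hRa x hx).pow_left (k * m)).eq, map_mul, Module.End.mul_apply, hk,
            ← Module.End.mul_apply, ← map_mul, ← pow_add, mul_add, mul_one]
      have hkN : r ∣ k * orderOf x := by
        refine hstab ν hν _ fun z hz => ?_
        refine huniq _ _ v hv0 ?_
        have h1 : ρ (a ^ (k * orderOf x)) v = v := by rw [← hiter, pow_orderOf_eq_one, map_one]; rfl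
        have h2 := hwt_i (k * orderOf x) z hz
        rw [h1] at h2
        exact h2.symm.trans (hv z hz)
      have hord : ¬ r ∣ orderOf x := fun h =>
        not_dvd_card_of_pGroup ht hr htr hR (h.trans (Subgroup.orderOf_dvd_natCard _ hx))
      obtain ⟨j, rfl⟩ := (hr.dvd_mul.mp hkN).resolve_right hord
      rw [hw, hk, mul_comm, pow_mul', har, one_pow, map_one]
      rfl
    have hWinv : ∀ g, g ∈ Y ∨ g ∈ R ∨ g = a → ∀ v ∈ W, ρ g v ∈ W := by
      intro g hg v hv
      refine Submodule.iSup_induction (motive := fun v => ρ g v ∈ W) _ hv ?_ (by simp) (fun v w hv hw => by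
        rw [map_add]; exact Submodule.add_mem _ hv hw)
      rintro ⟨ν, hν⟩ v hv
      by_cases hv0 : v = 0
      · rw [hv0, map_zero]; exact Submodule.zero_mem _
      rcases hg with hg | hg | rfl
      · refine Submodule.mem_iSup_of_mem (⟨fun z => ν (g⁻¹ * z * g), ?_⟩ : {ν : Γ → K // Mv ν})
          (hWt g ν v (hnormZ0 (le_normalizer hg)) hv)
        obtain ⟨z, hz, hne⟩ := hν
        refine ⟨z, hz, ?_⟩
        show ν _ ≠ ν _
        rwa [hYfix ν v hv hv0 g hg _ (mem_conj_normalizer' haZ0 hz), hYfix ν v hv hv0 g hg z hz]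
      · rw [hxfix g hg ν hν v hv]
        exact Submodule.mem_iSup_of_mem (⟨ν, hν⟩ : {ν : Γ → K // Mv ν}) hv
      · refine Submodule.mem_iSup_of_mem (⟨fun z => ν (g⁻¹ * z * g), ?_⟩ : {ν : Γ → K // Mv ν})
          (hWt g ν v haZ0 hv)
        obtain ⟨z, hz, hne⟩ := hν
        refine ⟨g * z * g⁻¹, mem_conj_normalizer haZ0 hz, ?_⟩
        show ν _ ≠ ν _
        rw [show g⁻¹ * (g⁻¹ * (g * z * g⁻¹) * g) * g = g⁻¹ * z * g by group,
          show g⁻¹ * (g * z * g⁻¹) * g = z by group]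
        exact hne
    have hWtop : W = ⊤ := (hirr W (hstable W hWinv)).resolve_left fun h => hv₀' (by
      have h1 : (v₀ : U) ∈ W := Submodule.mem_iSup_of_mem (⟨μ, hmoved⟩ : {ν : Γ → K // Mv ν}) hμ0
      rw [h, Submodule.mem_bot] at h1
      exact h1)
    intro x hx
    refine LinearMap.ext fun v => ?_
    refine Submodule.iSup_induction (motive := fun v => ρ x v = v) _
      (hWtop ▸ Submodule.mem_top : v ∈ W) (fun ν v hv => hxfix x hx ν.1 ν.2 v hv) (map_zero _)
      (fun v w hv hw => by rw [map_add, hv, hw])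
  -- `Z0` acts by scalars
  push Not at hmoved
  have hμmul : ∀ z ∈ Z0, ∀ z' ∈ Z0, μ (z * z') = μ z * μ z' := hmult μ _ hμ0 hv₀'
  have hμinv : ∀ z ∈ Z0, μ (a * z * a⁻¹) = μ z := fun z hz => by
    have h1 := hmoved (a * z * a⁻¹) (mem_conj_normalizer haZ0 hz)
    rw [show a⁻¹ * (a * z * a⁻¹) * a = z by group] at h1
    exact h1.symm
  have hμne : ∀ z ∈ Z0, μ z ≠ 0 := fun z hz h => hv₀' (hinjρ z _ (by rw [hμ0 z hz, h, zero_smul]))
  have hμone : μ 1 = 1 := huniq _ _ _ hv₀' (by rw [← hμ0 1 Z0.one_mem, map_one, one_smul]; rfl)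
  have hfixeq : ∀ θ : Γ → Γ, (∀ z ∈ Z0, θ z ∈ Z0) → (∀ z ∈ Z0, ∀ z' ∈ Z0, θ (z * z') = θ z * θ z') →
      (∀ z ∈ Z0, θ (a * z * a⁻¹) = a * θ z * a⁻¹) → (∀ z ∈ Z0, a * z = z * a → μ (θ z) = μ z) →
      ∀ z ∈ Z0, μ (θ z) = μ z := by
    intro θ hθ hθm hθa hθf z hz
    have h1 := character_eq_one hr har haZ0 (hqcard Z0 hZ0Y) (fun z => μ (θ z) * (μ z)⁻¹)
      (fun u hu u' hu' => by
        rw [hθm u hu u' hu', hμmul _ (hθ u hu) _ (hθ u' hu'), hμmul u hu u' hu', mul_inv]; ring)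
      (fun u hu => by rw [hθa u hu, hμinv _ (hθ u hu), hμinv u hu])
      (fun u hu hau => by rw [hθf u hu hau, mul_inv_cancel₀ (hμne u hu)]) z hz
    exact (mul_inv_eq_one₀ (hμne z hz)).mp h1
  have hWtop : Wt μ = ⊤ := by
    refine (hirr _ (hstable _ fun g hg v hv => ?_)).resolve_left fun h => hv₀' (by
      have h1 := hμ0
      rw [h, Submodule.mem_bot] at h1
      exact h1)
    have hgN : g ∈ normalizer (Z0 : Set Γ) := by
      rcases hg with hg | hg | rfl
      · exact hnormZ0 (le_normalizer hg)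
      · exact hnormR hg
      · exact haZ0
    intro z hz
    rw [hWt g μ v hgN hv z hz]
    congr 1
    rcases hg with hg | hg | rfl
    · exact hYfix μ _ hμ0 hv₀' g hg z hz
    · refine hfixeq (fun z => g⁻¹ * z * g) (fun z hz => mem_conj_normalizer' hgN hz) (fun z _ z' _ => by group)
        (fun z _ => ?_) (fun z hz hz' => ?_) z hz
      · have h1 : Commute a g := hRa g hg
        calc g⁻¹ * (a * z * a⁻¹) * g = (g⁻¹ * a) * z * (a⁻¹ * g) := by group
          _ = (a * g⁻¹) * z * (g * a⁻¹) := by rw [h1.inv_right.eq, h1.inv_left.eq]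
          _ = a * (g⁻¹ * z * g) * a⁻¹ := by group
      · show μ (g⁻¹ * z * g) = μ z
        rw [mul_assoc, ← hRΦ g hg z (hfix z hz.1 hz'), ← mul_assoc, inv_mul_cancel, one_mul]
    · exact hmoved z hz
  have hscal : ∀ z ∈ Z0, ρ z = μ z • 1 := fun z hz => LinearMap.ext fun v =>
    (hWtop ▸ Submodule.mem_top : v ∈ Wt μ) z hz
  -- the quotient and a basis of the endomorphisms of `S`
  set Z' := Z0.subgroupOf Y with hZ'
  haveI hZ'n : Z'.Normal :=
    (Subgroup.normal_subgroupOf_iff_le_normalizer hZ0Y).mpr (le_normalizer.trans hnormZ0)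
  set ι := ↥Y ⧸ Z' with hι
  haveI : Fintype ι := Fintype.ofFinite _
  have hUz : ∀ z : ↥Y, z ∈ Z' → ρS z = μ (z : Γ) • 1 := fun z hz => LinearMap.ext fun v => Subtype.ext (by
    rw [hρS, hscal _ (show (z : Γ) ∈ Z0 from hz)]; rfl)
  have hne0 : ∀ y : ↥Y, ρS y ≠ 0 := fun y h => hv₀' (hinjρ (y : Γ) _ (by rw [← hρS, h]; rfl))
  let rr : ι → ↥Y := fun g => if g = 1 then 1 else g.out
  have hrr : ∀ g : ι, ((rr g : ↥Y) : ι) = g := fun g => by by_cases hg : g = 1 <;> simp [rr, hg]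
  set B : ι → Module.End K S := fun g => ρS (rr g) with hB
  have hyB : ∀ y : ↥Y, ∃ c : K, ρS y = c • B (y : ι) := fun y => by
    have hz : (rr (y : ι))⁻¹ * y ∈ Z' := QuotientGroup.eq.mp (hrr _)
    refine ⟨μ (((rr (y : ι))⁻¹ * y : ↥Y) : Γ), ?_⟩
    conv_lhs => rw [← mul_inv_cancel_left (rr (y : ι)) y]
    rw [map_mul, hUz _ hz, mul_smul_comm, mul_one]
  have hspan : ⊤ ≤ Submodule.span K (Set.range B) := by
    rw [← span_eq_top_of_irreducible ρS hirrS, Submodule.span_le]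
    rintro _ ⟨y, rfl⟩
    obtain ⟨c, hc⟩ := hyB y
    rw [hc]
    exact Submodule.smul_mem _ _ (Submodule.subset_span ⟨_, rfl⟩)
  have hcommZ : ∀ g ∈ Y, ∀ g' ∈ Y, ⁅g, g'⁆ ∈ Z0 := fun g hg g' hg' => hΦZ0 (hYY (commutator_mem_commutator hg hg'))
  have hli : LinearIndependent K B := by
    rw [linearIndependent_iff']
    intro s
    induction hs : s.card using Nat.strong_induction_on generalizing s with
    | _ n ih =>
    intro α hsum g₁ hg₁
    by_cases hone : ∀ g ∈ s, g = g₁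
    · rw [Finset.sum_eq_single_of_mem g₁ hg₁ (fun g hg hne => absurd (hone g hg) hne)] at hsum
      exact (smul_eq_zero.mp hsum).resolve_right (hne0 _)
    push Not at hone
    obtain ⟨g₂, hg₂, hne⟩ := hone
    set e : ↥Y := (rr g₂)⁻¹ * rr g₁ with he
    have heZ : (e : Γ) ∉ Z0 := fun h1 => hne (by rw [← hrr g₁, ← hrr g₂]; exact QuotientGroup.eq.mpr h1)
    obtain ⟨t', ht', hte⟩ : ∃ t' ∈ Y, ρ ⁅(e : Γ), t'⁆ ≠ 1 := by
      by_contra h; push Not at h; exact heZ ⟨e.2, h⟩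
    set t : ↥Y := ⟨t', ht'⟩ with htdef
    set c : ι → K := fun g => μ ⁅(t : Γ), ((rr g : ↥Y) : Γ)⁆ with hc
    have hel : ∀ w : ↥Y, ρS ⁅t, w⁆ = μ ⁅(t : Γ), (w : Γ)⁆ • 1 := fun w => hUz _ (hcommZ _ t.2 _ w.2)
    have hcj : ∀ g, ρS t * B g * ρS t⁻¹ = c g • B g := by
      intro g
      calc ρS t * B g * ρS t⁻¹ = ρS (⁅t, rr g⁆ * rr g) := by
            rw [hB, ← map_mul, ← map_mul]; congr 1; rw [commutatorElement_def]; group
        _ = c g • B g := by rw [map_mul, hel, smul_mul_assoc, one_mul]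
    have hc12 : c g₁ ≠ c g₂ := by
      intro heq
      have hdec : (rr g₁ : ↥Y) = rr g₂ * e := by rw [he, mul_inv_cancel_left]
      have hce : μ ⁅(t : Γ), (e : Γ)⁆ = 1 := by
        have h1 : μ ⁅(t : Γ), ((rr g₁ : ↥Y) : Γ)⁆ = μ ⁅(t : Γ), ((rr g₂ : ↥Y) : Γ)⁆ * μ ⁅(t : Γ), (e : Γ)⁆ := by
          rw [← hμmul _ (hcommZ _ t.2 _ (rr g₂).2) _ (hcommZ _ t.2 _ e.2), hdec, Subgroup.coe_mul]
          congr 1
          rw [show ⁅(t : Γ), ((rr g₂ : ↥Y) : Γ) * (e : Γ)⁆ = ⁅(t : Γ), ((rr g₂ : ↥Y) : Γ)⁆ *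
            (((rr g₂ : ↥Y) : Γ) * ⁅(t : Γ), (e : Γ)⁆ * ((rr g₂ : ↥Y) : Γ)⁻¹) by
              simp only [commutatorElement_def]; group,
            ← hΦc _ (hYY (commutator_mem_commutator t.2 e.2)) _ (rr g₂).2, mul_inv_cancel_right]
        rw [show μ ⁅(t : Γ), ((rr g₁ : ↥Y) : Γ)⁆ = μ ⁅(t : Γ), ((rr g₂ : ↥Y) : Γ)⁆ from heq] at h1
        exact (mul_eq_left₀ (hμne _ (hcommZ _ t.2 _ (rr g₂).2))).mp h1.symm
      refine hte ?_
      have h2 : ρ ⁅(t : Γ), (e : Γ)⁆ = 1 := by rw [hscal _ (hcommZ _ t.2 _ e.2), hce, one_smul]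
      rw [← commutatorElement_inv]
      exact hρinv1 _ h2
    have hnew : ∑ g ∈ s.erase g₂, (α g * (c g - c g₂)) • B g = 0 := by
      rw [Finset.sum_erase _ (by rw [sub_self, mul_zero, zero_smul])]
      have h1 : ∑ g ∈ s, (α g * c g) • B g = 0 := by
        have h2 := congrArg (fun T => ρS t * T * ρS t⁻¹) hsum
        simp only [Finset.mul_sum, Finset.sum_mul, mul_smul_comm, smul_mul_assoc, hcj, mul_zero, zero_mul,
          smul_smul] at h2
        exact h2
      calc ∑ g ∈ s, (α g * (c g - c g₂)) • B g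
          = ∑ g ∈ s, ((α g * c g) • B g + (-c g₂) • (α g • B g)) := Finset.sum_congr rfl fun g _ => by
            rw [smul_smul]
            refine Eq.trans ?_ (add_smul _ _ _)
            congr 1
            ring
        _ = (∑ g ∈ s, (α g * c g) • B g) + (-c g₂) • ∑ g ∈ s, α g • B g := by
            rw [Finset.sum_add_distrib, Finset.smul_sum]
        _ = 0 := by rw [h1, hsum, smul_zero, add_zero]
    have h3 := ih (s.erase g₂).card (hs ▸ Finset.card_erase_lt_of_mem hg₂) (s.erase g₂) rfl _ hnew g₁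
      (Finset.mem_erase.mpr ⟨Ne.symm hne, hg₁⟩)
    exact (mul_eq_zero.mp h3).resolve_right (sub_ne_zero.mpr hc12)
  let b := Basis.mk hli hspan
  have hb : ∀ g, b g = B g := fun g => Basis.mk_apply hli hspan g
  have hbo : b 1 = 1 := by rw [hb, hB]; simp [rr]
  -- algebra maps
  have hext : ∀ {W : Type v} [AddCommGroup W] [Module K W] (η : ↥Y →* Module.End K W),
      (∀ z ∈ Z', η z = μ (z : Γ) • 1) →
      ∃ ψ : Module.End K S →ₐ[K] Module.End K W, ∀ y, ψ (ρS y) = η y := by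
    intro W _ _ η hη
    let ψ := b.constr K (fun g => η (rr g))
    have hψ : ∀ y, ψ (ρS y) = η y := by
      intro y
      have hz : (rr (y : ι))⁻¹ * y ∈ Z' := QuotientGroup.eq.mp (hrr _)
      conv_lhs => rw [← mul_inv_cancel_left (rr (y : ι)) y, map_mul, hUz _ hz, mul_smul_comm, mul_one, map_smul]
      conv_rhs => rw [← mul_inv_cancel_left (rr (y : ι)) y, map_mul, hη _ hz, mul_smul_comm, mul_one]
      congr 1
      show ψ (B _) = _
      rw [← hb, Basis.constr_basis]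
    refine ⟨AlgHom.ofLinearMap ψ (by rw [← map_one ρS, hψ, map_one]) ?_, hψ⟩
    intro A A'
    induction (b.span_eq ▸ Submodule.mem_top : A ∈ Submodule.span K (Set.range b)) using Submodule.span_induction with
    | mem A hA =>
      obtain ⟨g, rfl⟩ := hA
      induction (b.span_eq ▸ Submodule.mem_top : A' ∈ Submodule.span K (Set.range b)) using Submodule.span_induction with
      | mem A' hA' =>
        obtain ⟨k, rfl⟩ := hA'
        rw [hb, hb, hB, ← map_mul, hψ, hψ, hψ, map_mul]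
      | zero => simp
      | add _ _ _ _ h1 h2 => simp only [mul_add, map_add, h1, h2]
      | smul c _ _ h1 => simp only [mul_smul_comm, map_smul, h1]
    | zero => simp
    | add _ _ _ _ h1 h2 => simp only [add_mul, map_add, h1, h2]
    | smul c _ _ h1 => simp only [smul_mul_assoc, map_smul, h1]
  obtain ⟨ψU, hψU⟩ := hext (ρ.comp Y.subtype) (fun z hz => hscal _ hz)
  -- intertwining operators for automorphisms
  have htwist : ∀ θ : ↥Y →* ↥Y, (∀ z ∈ Z', θ z ∈ Z' ∧ μ (θ z : Γ) = μ (z : Γ)) →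
      ∃ A A' : Module.End K S, A * A' = 1 ∧ A' * A = 1 ∧ ∀ y, A * ρS y = ρS (θ y) * A := by
    intro θ hθ
    obtain ⟨ψ, hψ⟩ := hext (ρS.comp θ) (fun z hz => by rw [MonoidHom.comp_apply, hUz _ (hθ z hz).1, (hθ z hz).2])
    obtain ⟨φ, hφ, hφψ⟩ := exists_intertwine ψ
    let e := LinearEquiv.ofBijective φ ⟨hφ, LinearMap.injective_iff_surjective.mp hφ⟩
    exact ⟨φ, e.symm.toLinearMap, LinearMap.ext fun v => e.apply_symm_apply v,
      LinearMap.ext fun v => e.symm_apply_apply v, fun y => LinearMap.ext fun v => by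
        rw [Module.End.mul_apply, Module.End.mul_apply, hφψ, hψ]; rfl⟩
  have hsame : ∀ (θ : ↥Y → ↥Y) (A A' T : Module.End K S), A * A' = 1 → A' * A = 1 →
      (∀ y, A * ρS y = ρS (θ y) * A) → (∀ y, T * ρS y = ρS (θ y) * T) → ∃ c : K, T = c • A := by
    intro θ A A' T h1 h2 hA hT
    obtain ⟨c, hc⟩ := hschur (A' * T) fun y => by
      calc A' * T * ρS y = A' * (ρS (θ y) * T) := by rw [mul_assoc, hT]
        _ = A' * (ρS (θ y) * (A * A')) * T := by rw [h1, mul_one]; simp only [mul_assoc]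
        _ = A' * (A * ρS y) * A' * T := by rw [hA]; simp only [mul_assoc]
        _ = ρS y * (A' * T) := by rw [← mul_assoc A' A, h2, one_mul, mul_assoc]
    exact ⟨c, by rw [← one_mul T, ← h1, mul_assoc, hc, mul_smul_comm, mul_one]⟩
  have hconj : ∀ g, ∀ hg : g ∈ normalizer (Y : Set Γ), (∀ z ∈ Z0, μ (g * z * g⁻¹) = μ z) →
      ∃ A A' : Module.End K S, A * A' = 1 ∧ A' * A = 1 ∧
        ∀ y : ↥Y, A * ρS y = ρS ⟨g * y * g⁻¹, mem_conj_normalizer hg y.2⟩ * A := by
    intro g hg hgμ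
    exact htwist
      { toFun := fun y => ⟨g * y * g⁻¹, mem_conj_normalizer hg y.2⟩
        map_one' := Subtype.ext (by simp)
        map_mul' := fun y y' => Subtype.ext (by simp [mul_assoc]) }
      (fun z hz => ⟨mem_conj_normalizer (hnormZ0 hg) hz, hgμ _ hz⟩)
  let N0 : Subgroup Γ := normalizer (Y : Set Γ) ⊓ normalizer (Z0 : Set Γ)
  haveI : IsMulCommutative ι := ⟨⟨fun u v => by
    obtain ⟨y, rfl⟩ := QuotientGroup.mk_surjective u
    obtain ⟨y', rfl⟩ := QuotientGroup.mk_surjective v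
    rw [← commutatorElement_eq_one_iff_mul_comm]
    exact (QuotientGroup.eq_one_iff _).mpr (hcommZ _ y.2 _ y'.2)⟩⟩
  let act : Γ → ι → ι := fun g u => if hg : g ∈ normalizer (Y : Set Γ) then
    ((⟨g * (rr u : Γ) * g⁻¹, mem_conj_normalizer hg (rr u).2⟩ : ↥Y) : ι) else u
  have hact : ∀ g (hg : g ∈ normalizer (Y : Set Γ)) (y : ↥Y),
      act g (y : ι) = ((⟨g * y * g⁻¹, mem_conj_normalizer hg y.2⟩ : ↥Y) : ι) := by
    intro g hg y
    simp only [act, dif_pos hg]
    rw [QuotientGroup.eq]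
    have hz : (rr (y : ι))⁻¹ * y ∈ Z' := QuotientGroup.eq.mp (hrr _)
    show (g * (rr (y : ι) : Γ) * g⁻¹)⁻¹ * (g * y * g⁻¹) ∈ Z0
    have h1 := mem_conj_normalizer (hnormZ0 hg) (show ((rr (y : ι))⁻¹ * y : ↥Y).1 ∈ Z0 from hz)
    convert h1 using 1
    simp only [Subgroup.coe_mul, Subgroup.coe_inv]
    group
  let aut : ↥(normalizer (Y : Set Γ)) →* MulAut ι :=
    { toFun := fun g =>
        { toFun := act (g : Γ)
          invFun := act (g : Γ)⁻¹
          left_inv := fun u => by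
            obtain ⟨y, rfl⟩ := QuotientGroup.mk_surjective u
            rw [hact _ g.2, hact _ (inv_mem g.2)]
            congr 1
            exact Subtype.ext (by simp [mul_assoc])
          right_inv := fun u => by
            obtain ⟨y, rfl⟩ := QuotientGroup.mk_surjective u
            rw [hact _ (inv_mem g.2), hact _ g.2]
            congr 1
            exact Subtype.ext (by simp [mul_assoc])
          map_mul' := fun u v => by
            obtain ⟨y, rfl⟩ := QuotientGroup.mk_surjective u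
            obtain ⟨y', rfl⟩ := QuotientGroup.mk_surjective v
            rw [← QuotientGroup.mk_mul, hact _ g.2, hact _ g.2, hact _ g.2, ← QuotientGroup.mk_mul]
            congr 1
            exact Subtype.ext (by simp [mul_assoc]) }
      map_one' := MulEquiv.ext fun u => by
        obtain ⟨y, rfl⟩ := QuotientGroup.mk_surjective u
        show act (1 : Γ) _ = _
        rw [hact _ (one_mem _)]
        show _ = (y : ι)
        congr 1
        exact Subtype.ext (by simp)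
      map_mul' := fun g g' => MulEquiv.ext fun u => by
        obtain ⟨y, rfl⟩ := QuotientGroup.mk_surjective u
        show act ((g * g' : ↥(normalizer (Y : Set Γ))) : Γ) _ = act (g : Γ) (act (g' : Γ) _)
        rw [hact _ g'.2, hact _ g.2, hact _ (g * g').2]
        congr 1
        exact Subtype.ext (by simp [mul_assoc]) }
  have hautmk : ∀ (g : ↥(normalizer (Y : Set Γ))) (y : ↥Y),
      aut g (y : ι) = ((⟨g * y * (g : Γ)⁻¹, mem_conj_normalizer g.2 y.2⟩ : ↥Y) : ι) := fun g y => hact _ g.2 y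
  set σ : MulAut ι := aut ⟨a, haY⟩ with hσ
  have hσr : σ ^ r = 1 := by
    rw [hσ, ← map_pow, show (⟨a, haY⟩ : ↥(normalizer (Y : Set Γ))) ^ r = 1 from Subtype.ext har, map_one]
  have hfree : ∀ g, σ g = g → g = 1 := by
    intro g hg
    obtain ⟨y, rfl⟩ := QuotientGroup.mk_surjective g
    rw [hσ, hautmk, eq_comm, QuotientGroup.eq] at hg
    obtain ⟨c, hc, hca⟩ := exists_fixed_in_coset hr har Z0 haZ0 (hqcard Z0 hZ0Y)
      (show (y : Γ)⁻¹ * (a * y * a⁻¹) ∈ Z0 from hg)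
    have hcY : c ∈ Y := by
      have h1 := mul_mem y.2 (hZ0Y hc)
      rwa [mul_inv_cancel_left] at h1
    refine (QuotientGroup.eq_one_iff _).mpr ?_
    have h2 := mul_mem (hΦZ0 (hfix c hcY hca)) (inv_mem hc)
    rwa [mul_inv_rev, inv_inv, mul_inv_cancel_left] at h2
  let incl : ↥R →* ↥(normalizer (Y : Set Γ)) := Subgroup.inclusion hRY
  let τ : ↥R →* MulAut ι := aut.comp incl
  have hτmk : ∀ (x : ↥R) (y : ↥Y),
      τ x (y : ι) = ((⟨x * y * (x : Γ)⁻¹, mem_conj_normalizer (hRY x.2) y.2⟩ : ↥Y) : ι) := fun x y => hautmk _ y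
  have hτσ : ∀ x g, σ (τ x g) = τ x (σ g) := by
    intro x g
    obtain ⟨y, rfl⟩ := QuotientGroup.mk_surjective g
    rw [hτmk, hσ, hautmk, hautmk, hτmk]
    congr 1
    refine Subtype.ext ?_
    show a * ((x : Γ) * y * (x : Γ)⁻¹) * a⁻¹ = (x : Γ) * (a * y * a⁻¹) * (x : Γ)⁻¹
    calc a * ((x : Γ) * y * (x : Γ)⁻¹) * a⁻¹ = (a * x) * y * (a * x)⁻¹ := by group
      _ = ((x : Γ) * a) * y * ((x : Γ) * a)⁻¹ := by rw [hRa x x.2]
      _ = _ := by group
  have hcardι : ∃ m, Nat.card ι = q ^ m := (hY.to_quotient Z').exists_card_eq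
  have hτfix : ∀ g, (∀ x, τ x g = g) → g = 1 := by
    intro g hg
    obtain ⟨y, rfl⟩ := QuotientGroup.mk_surjective g
    obtain ⟨m, hm, c, hc, e⟩ := exists_commutator_mul_fixed R Y hRY
      (IsPGroup.coprime_card_of_ne t q hqt.symm _ _ hR hY)
      (Or.inl (haveI := hR.isNilpotent; inferInstance)) y.2
    have hc1 : c ∈ Φ := hRfix c hc.1 fun x hx => mem_centralizer_iff.mp hc.2 x hx
    letI : CommGroup ι := { (inferInstance : Group ι) with mul_comm := fun u v => IsMulCommutative.is_comm.comm u v }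
    haveI : Fintype ↥R := Fintype.ofFinite _
    let ν : ι →* ι := ∏ x : ↥R, (τ x).toMonoidHom
    have hν : ∀ u, ν u = ∏ x : ↥R, τ x u := fun u => MonoidHom.finsetProd_apply _ _ u
    have hRY' : ⁅Y, R⁆ ≤ (ν.ker.comap (QuotientGroup.mk' Z')).map Y.subtype := by
      rw [Subgroup.commutator_le]
      intro w hw x hx
      have hmem : ⁅w, x⁆ ∈ Y := commutator_le_left_of_le_normalizer hRY (commutator_mem_commutator hw hx)
      refine ⟨⟨_, hmem⟩, ?_, rfl⟩
      show ν ((⟨⁅w, x⁆, hmem⟩ : ↥Y) : ι) = 1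
      have e1 : ((⟨⁅w, x⁆, hmem⟩ : ↥Y) : ι) = ((⟨w, hw⟩ : ↥Y) : ι) * τ ⟨x, hx⟩ ((⟨w, hw⟩ : ↥Y) : ι)⁻¹ := by
        rw [← QuotientGroup.mk_inv, hτmk, ← QuotientGroup.mk_mul]
        congr 1
        exact Subtype.ext (by simp [commutatorElement_def, mul_assoc])
      rw [e1, map_mul, map_inv, map_inv, mul_inv_eq_one, hν, hν]
      refine (Fintype.prod_equiv (Equiv.mulRight (⟨x, hx⟩ : ↥R)) _ _ fun z => ?_).symm
      show τ z (τ ⟨x, hx⟩ _) = τ (z * ⟨x, hx⟩) _
      rw [map_mul]; rfl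
    obtain ⟨m', hm', hme⟩ := hRY' hm
    have hy : ((y : ↥Y) : ι) = (m' : ι) := by
      rw [QuotientGroup.eq]
      show (y : Γ)⁻¹ * (m' : Γ) ∈ Z0
      rw [e, show (m' : Γ) = m from hme, mul_inv_rev, mul_assoc, inv_mul_cancel, mul_one]
      exact inv_mem (hΦZ0 hc1)
    have h1 : (y : ι) ^ Nat.card ↥R = 1 := by
      have h2 : ν (y : ι) = 1 := by rw [hy]; exact hm'
      rwa [hν, Finset.prod_congr rfl fun x _ => hg x, Finset.prod_const, Finset.card_univ,
        ← Nat.card_eq_fintype_card] at h2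
    have hco : (Nat.card ↥R).Coprime (Nat.card ι) :=
      (IsPGroup.coprime_card_of_ne t q hqt.symm _ _ hR hY).coprime_dvd_right (Subgroup.card_quotient_dvd_card _)
    refine orderOf_eq_one_iff.mp (Nat.dvd_one.mp ?_)
    rw [← hco.gcd_eq_one]
    exact Nat.dvd_gcd (orderOf_dvd_of_pow_eq_one h1) (orderOf_dvd_natCard _)
  -- the operator for `a`
  obtain ⟨A₀, A₀', hA₁, hA₂, hA₀⟩ := hconj a haY hμinv
  obtain ⟨f, u, hu, hfinj, hfequiv, hfu⟩ : ∃ (f : S →ₗ[K] U) (u : Module.End K S), u ^ r = 1 ∧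
      Function.Injective f ∧ (∀ (y : ↥Y) w, f (ρS y w) = ρ (y : Γ) (f w)) ∧
      ∀ w, ρ a (f w) = f (u w) := by
    obtain ⟨φ₁, hφ₁, hφπ⟩ := exists_intertwine ψU
    let H : Submodule K (S →ₗ[K] U) :=
      { carrier := {φ | ∀ (y : ↥Y) w, φ (ρS y w) = ρ (y : Γ) (φ w)}
        add_mem' := fun {f g} hf hg y w => by simp only [LinearMap.add_apply, hf y w, hg y w, map_add]
        zero_mem' := fun y w => by simp
        smul_mem' := fun c f hf y w => by simp only [LinearMap.smul_apply, hf y w, map_smul] }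
    have hφ₁H : φ₁ ∈ H := fun y w => by rw [hφπ, hψU]; rfl
    have hA₀' : ∀ y : ↥Y, A₀' * ρS ⟨a * y * a⁻¹, mem_conj_normalizer haY y.2⟩ = ρS y * A₀' := fun y =>
      intertwine_inv hA₁ hA₂ (hA₀ y)
    let Ω : Module.End K H :=
      { toFun := fun f => ⟨ρ a ∘ₗ f.1 ∘ₗ A₀', fun y w => by
          simp only [LinearMap.comp_apply]
          obtain ⟨y', rfl⟩ : ∃ y' : ↥Y, (⟨a * y' * a⁻¹, mem_conj_normalizer haY y'.2⟩ : ↥Y) = y :=
            ⟨⟨a⁻¹ * y * a, mem_conj_normalizer' haY y.2⟩, Subtype.ext (by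
              show a * (a⁻¹ * (y : Γ) * a) * a⁻¹ = y; group)⟩
          have h1 := LinearMap.congr_fun (hA₀' y') w
          rw [Module.End.mul_apply, Module.End.mul_apply] at h1
          rw [h1, f.2 y', ← Module.End.mul_apply, ← map_mul]
          show _ = ρ (a * (y' : Γ) * a⁻¹) (ρ a _)
          rw [← Module.End.mul_apply, ← map_mul, inv_mul_cancel_right]⟩
        map_add' := fun f g => Subtype.ext (LinearMap.ext fun w => by simp)
        map_smul' := fun c f => Subtype.ext (LinearMap.ext fun w => by simp) }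
    haveI : Nontrivial H := ⟨⟨⟨φ₁, hφ₁H⟩, 0, fun e => by
      obtain ⟨w, hw⟩ := exists_ne (0 : S)
      exact hw (hφ₁ (by rw [show φ₁ = 0 from congrArg Subtype.val e]; simp))⟩⟩
    obtain ⟨κ, hκ⟩ := Module.End.exists_eigenvalue Ω
    obtain ⟨f, hf, hf0⟩ := hκ.exists_hasEigenvector
    have hinj : Function.Injective (f : S →ₗ[K] U) := by
      rw [← LinearMap.ker_eq_bot]
      refine (hirrS _ fun y w hw => ?_).resolve_right fun e => hf0 (Subtype.ext (LinearMap.ker_eq_top.mp e))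
      rw [LinearMap.mem_ker] at hw ⊢
      rw [f.2 y w, hw, map_zero]
    set u := κ • A₀ with hu
    have hfu : ∀ w, ρ a ((f : S →ₗ[K] U) w) = (f : S →ₗ[K] U) (u w) := by
      intro w
      have h1 : ρ a ((f : S →ₗ[K] U) (A₀' (A₀ w))) = κ • (f : S →ₗ[K] U) (A₀ w) :=
        LinearMap.congr_fun (congrArg Subtype.val (Module.End.mem_eigenspace_iff.mp hf)) (A₀ w)
      rw [← Module.End.mul_apply A₀', hA₂, Module.End.one_apply] at h1
      rw [h1, hu, LinearMap.smul_apply, map_smul]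
    have hfn : ∀ (n : ℕ) w, ρ (a ^ n) ((f : S →ₗ[K] U) w) = (f : S →ₗ[K] U) ((u ^ n) w) := by
      intro n
      induction n with
      | zero => intro w; simp
      | succ n ih => intro w; rw [pow_succ, map_mul, Module.End.mul_apply, hfu, ih, pow_succ]; rfl
    refine ⟨(f : S →ₗ[K] U), u, LinearMap.ext fun w => hinj ?_, hinj, f.2, hfu⟩
    rw [← hfn, har, map_one]
    rfl
  have huy : ∀ y : ↥Y, u * ρS y = ρS ⟨a * y * a⁻¹, mem_conj_normalizer haY y.2⟩ * u := fun y =>
    LinearMap.ext fun w => hfinj (by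
      rw [Module.End.mul_apply, Module.End.mul_apply, ← hfu, hfequiv, hfequiv, ← hfu, ← Module.End.mul_apply,
        ← Module.End.mul_apply, ← map_mul, ← map_mul]
      congr 2
      show a * (y : Γ) = a * y * a⁻¹ * a
      group)
  obtain ⟨hu1, hu2⟩ := pow_mul_pow_pred hr.ne_zero hu
  let σp : Equiv.Perm ι := σ.toEquiv
  have hub : ∀ g, ∃ c : K, conjEnd u r (b g) = c • b (σ g) := by
    intro g
    obtain ⟨c, hc⟩ := hyB ⟨a * (rr g : Γ) * a⁻¹, mem_conj_normalizer haY (rr g).2⟩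
    refine ⟨c, ?_⟩
    rw [conjEnd_apply, hb, hb, hB, huy, mul_assoc, hu1, mul_one, hc]
    congr 2
    conv_rhs => rw [← hrr g]
    rw [hσ, hautmk]
  have hD : ∀ T : Module.End K S, ∀ k : K, T * u = k • (u * T) → (∃ T', T * T' = 1) → k ^ finrank K S = 1 := by
    rintro T k h ⟨T', hT'⟩
    have h1 := congrArg LinearMap.det h
    rw [map_mul, LinearMap.det_smul, map_mul, mul_comm (LinearMap.det u)] at h1
    have h2 : LinearMap.det T * LinearMap.det u ≠ 0 := by
      refine mul_ne_zero (fun h0 => ?_) fun h0 => ?_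
      · have h3 := congrArg LinearMap.det hT'
        rw [map_mul, h0, zero_mul, map_one] at h3
        exact zero_ne_one h3
      · have h3 := congrArg LinearMap.det hu
        rw [map_pow, h0, zero_pow hr.ne_zero, map_one] at h3
        exact zero_ne_one h3
    exact mul_right_cancel₀ h2 ((one_mul _).trans h1).symm
  have hxμ : ∀ x ∈ R, ∀ z ∈ Z0, μ (x * z * x⁻¹) = μ z := fun x hx =>
    hfixeq (fun z => x * z * x⁻¹) (fun z hz => mem_conj_normalizer (hnormR hx) hz) (fun z _ z' _ => by group)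
      (fun z _ => by
        show x * (a * z * a⁻¹) * x⁻¹ = a * (x * z * x⁻¹) * a⁻¹
        calc x * (a * z * a⁻¹) * x⁻¹ = (x * a) * z * (x * a)⁻¹ := by group
          _ = (a * x) * z * (a * x)⁻¹ := by rw [hRa x hx]
          _ = _ := by group)
      (fun z hz hz' => by
        show μ (x * z * x⁻¹) = μ z
        rw [hRΦ x hx z (hfix z hz.1 hz'), mul_inv_cancel_right])
  choose X₀ X₀' hX₁ hX₂ hX₀ using fun x : ↥R => hconj (x : Γ) (hRY x.2) (hxμ x x.2)
  set N := Nat.card ↥R with hN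
  have hN0 : N ≠ 0 := Nat.card_pos.ne'
  have hrN : ¬ r ∣ N := not_dvd_card_of_pGroup ht hr htr hR
  have hpowtw : ∀ (x : ↥R) (T : Module.End K S),
      (∀ y : ↥Y, T * ρS y = ρS ⟨x * y * (x : Γ)⁻¹, mem_conj_normalizer (hRY x.2) y.2⟩ * T) →
      ∀ (m : ℕ) (y : ↥Y), T ^ m * ρS y =
        ρS ⟨(x : Γ) ^ m * y * ((x : Γ) ^ m)⁻¹, mem_conj_normalizer (hRY (pow_mem x.2 m)) y.2⟩ * T ^ m := by
    intro x T hT m
    induction m with
    | zero => intro y; simp
    | succ m ih =>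
      intro y
      rw [pow_succ', mul_assoc, ih, ← mul_assoc, hT, mul_assoc]
      congr 2
      refine Subtype.ext ?_
      show (x : Γ) * ((x : Γ) ^ m * y * ((x : Γ) ^ m)⁻¹) * (x : Γ)⁻¹ = (x : Γ) ^ (m + 1) * y * ((x : Γ) ^ (m + 1))⁻¹
      rw [pow_succ']; group
  have hxN : ∀ x : ↥R, (x : Γ) ^ N = 1 := fun x => congrArg Subtype.val (pow_card_eq_one' (x := x))
  have huX : ∀ (x : ↥R) (T : Module.End K S),
      (∀ y : ↥Y, T * ρS y = ρS ⟨x * y * (x : Γ)⁻¹, mem_conj_normalizer (hRY x.2) y.2⟩ * T) →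
      ∀ y : ↥Y, T * u * ρS y =
        ρS ⟨(x : Γ) * a * y * ((x : Γ) * a)⁻¹, mem_conj_normalizer (mul_mem (hRY x.2) haY) y.2⟩ * (T * u) := by
    intro x T hT y
    rw [mul_assoc, huy, ← mul_assoc, hT, mul_assoc]
    congr 2
    exact Subtype.ext (by group)
  have hXu : ∀ (x : ↥R) (T : Module.End K S),
      (∀ y : ↥Y, T * ρS y = ρS ⟨x * y * (x : Γ)⁻¹, mem_conj_normalizer (hRY x.2) y.2⟩ * T) →
      ∀ y : ↥Y, u * T * ρS y =
        ρS ⟨(x : Γ) * a * y * ((x : Γ) * a)⁻¹, mem_conj_normalizer (mul_mem (hRY x.2) haY) y.2⟩ * (u * T) := by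
    intro x T hT y
    rw [mul_assoc, hT, ← mul_assoc, huy, mul_assoc]
    congr 2
    refine Subtype.ext ?_
    show a * ((x : Γ) * y * (x : Γ)⁻¹) * a⁻¹ = (x : Γ) * a * y * ((x : Γ) * a)⁻¹
    rw [← hRa x x.2]
    group
  have hscalcomm : ∀ (x : ↥R) (T T' : Module.End K S), T * T' = 1 → T' * T = 1 →
      (∀ y : ↥Y, T * ρS y = ρS ⟨x * y * (x : Γ)⁻¹, mem_conj_normalizer (hRY x.2) y.2⟩ * T) →
      ∃ k : K, T * u = k • (u * T) := by
    intro x T T' h1 h2 hT
    refine hsame (fun y => ⟨(x : Γ) * a * y * ((x : Γ) * a)⁻¹, mem_conj_normalizer (mul_mem (hRY x.2) haY) y.2⟩)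
      (u * T) (T' * u ^ (r - 1)) (T * u) ?_ ?_ (hXu x T hT) (huX x T hT)
    · rw [mul_assoc, ← mul_assoc T, h1, one_mul, hu1]
    · rw [mul_assoc, ← mul_assoc (u ^ (r - 1)), hu2, one_mul, h2]
  have hfinS : ∃ m, finrank K S * finrank K S = q ^ m := by
    obtain ⟨m, hm⟩ := hcardι
    exact ⟨m, by rw [← Module.finrank_linearMap K K S S, Module.finrank_eq_card_basis b, ← Nat.card_eq_fintype_card, hm]⟩
  have hprimeTo : ∀ k : K, k ^ r = 1 → k ^ finrank K S = 1 → k = 1 := by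
    intro k h1 h2
    obtain ⟨m, hm⟩ := hfinS
    obtain ⟨i, -, hi⟩ := (Nat.dvd_prime_pow hq).mp (Dvd.intro (finrank K S) hm)
    have h3 := pow_gcd_eq_one.mpr ⟨h1, h2⟩
    rwa [hi, Nat.Coprime.pow_right i ((Nat.coprime_primes hr hq).mpr hqr.symm), pow_one] at h3
  have hkr : ∀ (T : Module.End K S) (k : K), (∃ T', T' * T = 1) → T * u = k • (u * T) → k ^ r = 1 := by
    rintro T k ⟨T', hT'⟩ h
    have h1 : ∀ n : ℕ, T * u ^ n = k ^ n • (u ^ n * T) := by
      intro n
      induction n with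
      | zero => simp
      | succ n ih => rw [pow_succ, ← mul_assoc, ih, smul_mul_assoc, mul_assoc, h, mul_smul_comm, smul_smul,
          ← mul_assoc, ← pow_succ k]
    have h2 := h1 r
    rw [hu, mul_one, one_mul] at h2
    have h3 : T' * T = k ^ r • (T' * T) := by
      conv_lhs => rw [h2, mul_smul_comm]
    rw [hT'] at h3
    obtain ⟨w, hw⟩ := exists_ne (0 : S)
    exact (smul_left_injective K hw (by simpa using (LinearMap.congr_fun h3 w).symm))
  haveI : NeZero (r : K) := ⟨hr0⟩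
  intro x hx y hy
  suffices h : ρS ⟨x * y * x⁻¹, mem_conj_normalizer (hRY hx) hy⟩ = ρS ⟨y, hy⟩ by
    have h1 := congrArg ψU h
    rw [hψU, hψU] at h1
    rw [show ⁅x, y⁆ = x * y * x⁻¹ * y⁻¹ from commutatorElement_def x y, map_mul,
      show ρ (x * y * x⁻¹) = ρ y from h1, ← map_mul, mul_inv_cancel, map_one]
  by_cases hu0 : ∀ w, u w = w → w = 0
  · -- `u` has no fixed vectors
    obtain ⟨ζ, hζ⟩ := HasEnoughRootsOfUnity.exists_primitiveRoot K r
    obtain ⟨J, hJ, e, fJ, -, hfJ, -, -⟩ := exists_eigenbasis_pair hζ hr0 (N := 1) (by simp)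
      (Nat.coprime_one_right r) u 1 hu (one_pow 1) (Commute.one_right u)
    obtain ⟨c, hc⟩ := pair_count (1 : ι) σp (1 : Equiv.Perm ι) hr one_ne_zero
      (fun h => hr.one_lt.ne' (Nat.dvd_one.mp h)) hζ (map_one σ) rfl (Commute.one_right _)
      (Equiv.ext fun g => by
        have h1 : ∀ m : ℕ, ∀ g, (σp ^ m) g = (σ ^ m) g := by
          intro m
          induction m with
          | zero => intro g; rfl
          | succ m ih => intro g; rw [pow_succ, pow_succ]; exact ih (σ g)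
        rw [h1, hσr]; rfl)
      (one_pow 1) hfree b hbo u 1 hu (one_pow 1) hub (fun g => ⟨1, by simp [conjEnd_apply]⟩) e fJ
      (fun _ => (1 : K)) hfJ (fun k => by simp)
    have hf0 : ∀ k, fJ k ≠ 0 := fun k hk => e.ne_zero k (hu0 _ (by rw [hfJ, hk, AddChar.map_zero_eq_one, one_smul]))
    have hone : ∀ k l, fJ k = fJ l → k = l := by
      intro k l hkl
      have h1 := (multiplicity_near fJ (fun _ => (1 : K)) hc (hf0 l)).1 1
      have h0 : Nat.card {m : J // fJ m = 0 ∧ (1 : K) = 1} = 0 :=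
        Nat.card_eq_zero.mpr (Or.inl ⟨fun m => hf0 m m.2.1⟩)
      rw [h0, zero_add] at h1
      haveI := Finite.card_le_one_iff_subsingleton.mp h1
      exact congrArg Subtype.val (Subsingleton.elim (⟨k, hkl, rfl⟩ : {m : J // fJ m = fJ l ∧ (1 : K) = 1}) ⟨l, rfl, rfl⟩)
    set x' : ↥R := ⟨x, hx⟩ with hx'
    obtain ⟨k₀, hk₀⟩ := hschur (X₀ x' ^ N) fun y => by
      rw [hpowtw x' _ (hX₀ x') N y]
      congr 2
      refine Subtype.ext ?_
      show (x' : Γ) ^ N * y * ((x' : Γ) ^ N)⁻¹ = y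
      rw [hxN]; group
    have hk₀0 : k₀ ≠ 0 := by
      rintro rfl
      rw [zero_smul] at hk₀
      have h2 : (X₀ x' * X₀' x') ^ N = 0 := by
        rw [(show Commute (X₀ x') (X₀' x') from (hX₁ x').trans (hX₂ x').symm).mul_pow, hk₀, zero_mul]
      rw [hX₁, one_pow] at h2
      exact one_ne_zero h2
    obtain ⟨ν, hν⟩ := IsAlgClosed.exists_pow_nat_eq k₀⁻¹ (Nat.pos_of_ne_zero hN0)
    set X := ν • X₀ x' with hX
    have hXN : X ^ N = 1 := by rw [hX, smul_pow, hν, hk₀, smul_smul, inv_mul_cancel₀ hk₀0, one_smul]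
    have hXy : ∀ y : ↥Y, X * ρS y = ρS ⟨x' * y * (x' : Γ)⁻¹, mem_conj_normalizer (hRY x'.2) y.2⟩ * X := fun y => by
      rw [hX, smul_mul_assoc, mul_smul_comm, hX₀]
    obtain ⟨hXa, hXb'⟩ := pow_mul_pow_pred hN0 hXN
    obtain ⟨k, hk⟩ := hscalcomm x' X (X ^ (N - 1)) hXa hXb' hXy
    have hk1 : k = 1 := hprimeTo k (hkr X k ⟨_, hXb'⟩ hk) (hD X k hk ⟨_, hXa⟩)
    rw [hk1, one_smul] at hk
    have hcen : ∀ T : Module.End K S, u * T = T * u → X * T = T * X := fun T hT =>
      commute_of_multiplicity_one hζ e fJ hfJ hone hk.symm hT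
    let τp : Equiv.Perm ι := (τ x').toEquiv
    have hτpow : ∀ m : ℕ, ∀ g, (τp ^ m) g = τ (x' ^ m) g := by
      intro m
      induction m with
      | zero => intro g; rw [pow_zero, pow_zero, map_one]; rfl
      | succ m ih => intro g; rw [pow_succ, pow_succ, map_mul]; exact ih (τ x' g)
    have hσpow : ∀ m : ℕ, ∀ g, (σp ^ m) g = (σ ^ m) g := by
      intro m
      induction m with
      | zero => intro g; rfl
      | succ m ih => intro g; rw [pow_succ, pow_succ]; exact ih (σ g)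
    have hτ1 := perm_eq_of_commute b (1 : ι) σp τp hr hN0 hrN (map_one (τ x'))
      (show Commute σp τp from Equiv.ext fun g => hτσ x' g)
      (Equiv.ext fun g => by rw [hσpow, hσr]; rfl)
      (Equiv.ext fun g => by rw [hτpow, pow_card_eq_one', map_one]; rfl)
      hfree u X hu hXN hub
      (fun g => by
        obtain ⟨c, hc⟩ := hyB ⟨x' * (rr g : Γ) * (x' : Γ)⁻¹, mem_conj_normalizer (hRY x'.2) (rr g).2⟩
        refine ⟨c, ?_⟩
        rw [conjEnd_apply, hb, hb, hB, hXy, mul_assoc, hXa, mul_one, hc]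
        congr 2
        show _ = τ x' g
        conv_rhs => rw [← hrr g]
        rw [hτmk]) hcen
    have hmem : ∀ w ∈ Y, ⁅x, w⁆ ∈ Z0 := by
      intro w hw
      have h1 := hτ1 ((⟨w, hw⟩ : ↥Y) : ι)
      change τ x' _ = _ at h1
      rw [hτmk, eq_comm, QuotientGroup.eq] at h1
      have h2 := mem_conj_normalizer (hnormZ0 (le_normalizer hw)) (show w⁻¹ * (x * w * x⁻¹) ∈ Z0 from h1)
      convert h2 using 1
      rw [commutatorElement_def]; group
    have hη : μ ⁅x, y⁆ = 1 := by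
      refine character_eq_one hr har haY (hqcard Y le_rfl) (fun w => μ ⁅x, w⁆) (fun w hw w' hw' => ?_) (fun w hw => ?_)
        (fun w hw haw => ?_) y hy
      · show μ ⁅x, w * w'⁆ = μ ⁅x, w⁆ * μ ⁅x, w'⁆
        rw [show ⁅x, w * w'⁆ = ⁅x, w⁆ * (w * ⁅x, w'⁆ * w⁻¹) by simp only [commutatorElement_def]; group,
          hμmul _ (hmem w hw) _ (mem_conj_normalizer (hnormZ0 (le_normalizer hw)) (hmem w' hw'))]
        congr 1
        have h1 := hYfix μ _ hμ0 hv₀' w⁻¹ (inv_mem hw) _ (hmem w' hw')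
        rwa [inv_inv] at h1
      · show μ ⁅x, a * w * a⁻¹⁆ = μ ⁅x, w⁆
        rw [← hμinv _ (hmem w hw)]
        congr 1
        have hax := hRa x hx
        simp only [commutatorElement_def]
        calc x * (a * w * a⁻¹) * x⁻¹ * (a * w * a⁻¹)⁻¹ = (x * a) * w * (x * a)⁻¹ * (a * w⁻¹ * a⁻¹) := by group
          _ = (a * x) * w * (a * x)⁻¹ * (a * w⁻¹ * a⁻¹) := by rw [hax]
          _ = a * (x * w * x⁻¹ * w⁻¹) * a⁻¹ := by group
      · show μ ⁅x, w⁆ = 1
        rw [commutatorElement_eq_one_iff_mul_comm.mpr (hRΦ x hx w (hfix w hw haw)), hμone]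
    have e : (⟨x * y * x⁻¹, mem_conj_normalizer (hRY hx) hy⟩ : ↥Y) = ⟨⁅x, y⁆, (hmem y hy).1⟩ * ⟨y, hy⟩ :=
      Subtype.ext (by simp [commutatorElement_def])
    rw [e, map_mul, hUz _ (hmem y hy), hη, one_smul, one_mul]
  -- `u` has fixed vectors
  push Not at hu0
  obtain ⟨w₀, hw₀, hw₀0⟩ := hu0
  have hfix0 : ρ a (f w₀) = f w₀ := by rw [hfu, hw₀]
  have hf0 : f w₀ ≠ 0 := fun h => hw₀0 (hfinj (h.trans (map_zero f).symm))
  obtain ⟨hgenR, hCprop⟩ := hC.resolve_left fun h => hf0 (h _ hfix0)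
  have hone : ∀ (x : ↥R), ∃ X X' : Module.End K S, X * X' = 1 ∧ X' * X = 1 ∧
      (∀ y : ↥Y, X * ρS y = ρS ⟨x * y * (x : Γ)⁻¹, mem_conj_normalizer (hRY x.2) y.2⟩ * X) ∧
      (∀ w, u w = w → X w = w) ∧ X * u = u * X := by
    intro x
    set X := X₀ x
    set X' := X₀' x
    have hX' : ∀ y : ↥Y, X' * ρS ⟨x * y * (x : Γ)⁻¹, mem_conj_normalizer (hRY x.2) y.2⟩ = ρS y * X' := fun y =>
      intertwine_inv (hX₁ x) (hX₂ x) (hX₀ x y)
    let g : S →ₗ[K] U := ρ (x : Γ) ∘ₗ f ∘ₗ X'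
    have hg : ∀ (y : ↥Y) w, g (ρS y w) = ρ (y : Γ) (g w) := by
      intro y w
      obtain ⟨y', rfl⟩ : ∃ y' : ↥Y, (⟨x * y' * (x : Γ)⁻¹, mem_conj_normalizer (hRY x.2) y'.2⟩ : ↥Y) = y :=
        ⟨⟨(x : Γ)⁻¹ * y * x, mem_conj_normalizer' (hRY x.2) y.2⟩, Subtype.ext (by
          show (x : Γ) * ((x : Γ)⁻¹ * (y : Γ) * x) * (x : Γ)⁻¹ = y; group)⟩
      show ρ (x : Γ) (f (X' (ρS _ w))) = ρ ((x : Γ) * (y' : Γ) * (x : Γ)⁻¹) (ρ (x : Γ) (f (X' w)))
      rw [← Module.End.mul_apply X', hX', Module.End.mul_apply, hfequiv, ← Module.End.mul_apply,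
        ← Module.End.mul_apply, ← map_mul, ← map_mul, inv_mul_cancel_right]
    have hginj : Function.Injective g := fun p q h => by
      have h1 : X' p = X' q := hfinj (by
        have := (injective_iff_map_eq_zero (ρ (x : Γ))).mpr (hinjρ _)
        exact this h)
      have h2 := congrArg X h1
      rwa [← Module.End.mul_apply, ← Module.End.mul_apply, hX₁] at h2
    have hgX : ∀ w, u w = w → g (X w) = f w := fun w hw => by
      show ρ (x : Γ) (f (X' (X w))) = f w
      rw [← Module.End.mul_apply X', hX₂, Module.End.one_apply]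
      exact hR0 x x.2 _ (by rw [hfu, hw])
    let Wc : Submodule K S := (LinearMap.range g).comap f
    have hWc : Wc = ⊤ := by
      refine (hirrS Wc fun y w hw => ?_).resolve_left fun h => hw₀0 ?_
      · obtain ⟨w', hw'⟩ := hw
        exact ⟨ρS y w', by rw [hg, hw', hfequiv]⟩
      · have h1 : w₀ ∈ Wc := ⟨X w₀, hgX w₀ hw₀⟩
        rwa [h, Submodule.mem_bot] at h1
    have hsur : ∀ w, ∃ w', g w' = f w := fun w => (hWc ▸ Submodule.mem_top : w ∈ Wc)
    choose F hF using hsur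
    let Fl : Module.End K S :=
      { toFun := F
        map_add' := fun p q => hginj (by rw [hF, map_add, map_add, hF, hF])
        map_smul' := fun c p => hginj (by simp only [RingHom.id_apply]; rw [hF, map_smul, map_smul, hF]) }
    obtain ⟨k, hk⟩ := hschur Fl fun y => LinearMap.ext fun w => hginj (by
      show g (F (ρS y w)) = g (ρS y (F w))
      rw [hF, hfequiv, hg, hF])
    have hXk : ∀ w, u w = w → X w = k • w := fun w hw => hginj (by
      rw [hgX w hw, ← hF]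
      exact congrArg g (LinearMap.congr_fun hk w))
    have hk0 : k ≠ 0 := by
      rintro rfl
      have h1 := hXk w₀ hw₀
      rw [zero_smul] at h1
      refine hw₀0 ?_
      have h2 := congrArg X' h1
      rwa [← Module.End.mul_apply, hX₂, map_zero] at h2
    have hXy : ∀ y : ↥Y, (k⁻¹ • X) * ρS y =
        ρS ⟨x * y * (x : Γ)⁻¹, mem_conj_normalizer (hRY x.2) y.2⟩ * (k⁻¹ • X) := fun y => by
      rw [smul_mul_assoc, mul_smul_comm, hX₀]
    have h1 : (k⁻¹ • X) * (k • X') = 1 := by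
      rw [smul_mul_smul_comm, inv_mul_cancel₀ hk0, hX₁, one_smul]
    have h2 : (k • X') * (k⁻¹ • X) = 1 := by
      rw [smul_mul_smul_comm, mul_inv_cancel₀ hk0, hX₂, one_smul]
    have h3 : ∀ w, u w = w → (k⁻¹ • X) w = w := fun w hw => by
      rw [LinearMap.smul_apply, hXk w hw, smul_smul, inv_mul_cancel₀ hk0, one_smul]
    refine ⟨k⁻¹ • X, k • X', h1, h2, hXy, h3, ?_⟩
    obtain ⟨c, hc⟩ := hscalcomm x _ _ h1 h2 hXy
    have h4 := LinearMap.congr_fun hc w₀
    rw [Module.End.mul_apply, hw₀, h3 w₀ hw₀, LinearMap.smul_apply, Module.End.mul_apply, h3 w₀ hw₀, hw₀] at h4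
    rw [hc, smul_left_injective K hw₀0 ((one_smul K w₀).trans h4).symm, one_smul]
  choose L L' hL1 hL2 hL3 hL4 hL5 using hone
  have hLuniq : ∀ (x : ↥R) (T : Module.End K S),
      (∀ y : ↥Y, T * ρS y = ρS ⟨x * y * (x : Γ)⁻¹, mem_conj_normalizer (hRY x.2) y.2⟩ * T) →
      T w₀ = w₀ → T = L x := by
    intro x T hT hTw
    obtain ⟨k, hk⟩ := hsame (fun y => ⟨x * y * (x : Γ)⁻¹, mem_conj_normalizer (hRY x.2) y.2⟩)
      (L x) (L' x) T (hL1 x) (hL2 x) (hL3 x) hT
    have h1 := LinearMap.congr_fun hk w₀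
    rw [hTw, LinearMap.smul_apply, hL4 x w₀ hw₀] at h1
    rw [hk, smul_left_injective K hw₀0 ((one_smul K w₀).trans h1).symm, one_smul]
  let lift : ↥R →* Module.End K S :=
    { toFun := L
      map_one' := (hLuniq 1 1 (fun y => by rw [one_mul, mul_one]; congr 1; exact Subtype.ext (by simp)) rfl).symm
      map_mul' := fun x x' => (hLuniq (x * x') _ (fun y => by
        rw [mul_assoc, hL3, ← mul_assoc, hL3, mul_assoc]
        congr 2
        exact Subtype.ext (by simp [mul_assoc])) (by rw [Module.End.mul_apply, hL4 x' w₀ hw₀, hL4 x w₀ hw₀])).symm }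
  have hgenR' : ⊤ ≤ Subgroup.closure
      {g : ↥R | ∃ c ∈ {c' : ↥R → ↥R | ∃ c ∈ C, ∀ z, (c' z : Γ) = c z}, ∃ z, g = c z * z⁻¹} := by
    intro z _
    have h1 : (z : Γ) ∈ (Subgroup.closure
        {g : ↥R | ∃ c ∈ {c' : ↥R → ↥R | ∃ c ∈ C, ∀ z, (c' z : Γ) = c z}, ∃ z, g = c z * z⁻¹}).map R.subtype := by
      rw [MonoidHom.map_closure]
      refine Subgroup.closure_mono ?_ (hgenR z.2)
      rintro g ⟨c, hc, w, hw, rfl⟩
      refine ⟨⟨c w * w⁻¹, mul_mem ((hCprop c hc).2.2.2.1 w hw) (inv_mem hw)⟩,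
        ⟨fun z => ⟨c z, (hCprop c hc).2.2.2.1 z z.2⟩, ⟨c, hc, fun _ => rfl⟩, ⟨w, hw⟩, Subtype.ext rfl⟩, rfl⟩
    obtain ⟨z', hz', e⟩ := h1
    exact Subtype.ext (e : (z' : Γ) = z) ▸ hz'
  have hrigid := rigid (p := p) (q := q) (t := t) hp hq ht hr hpr htr hqt hcardι hR σ hσr hfree τ hτσ hτfix b
    hbo u hu hub lift hL5
    (fun z g => by
      obtain ⟨c, hc⟩ := hyB ⟨z * (rr g : Γ) * (z : Γ)⁻¹, mem_conj_normalizer (hRY z.2) (rr g).2⟩
      refine ⟨c, ?_⟩
      show L z * b g = c • (b (τ z g) * L z)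
      rw [hb, hb, hB, hL3, hc, smul_mul_assoc]
      congr 3
      conv_rhs => rw [← hrr g]
      rw [hτmk])
    hL4 ⟨w₀, hw₀0, hw₀⟩ {c' : ↥R → ↥R | ∃ c ∈ C, ∀ z, (c' z : Γ) = c z}
    (fun c' hc' => by
      obtain ⟨c, hcC, hcc⟩ := hc'
      obtain ⟨hca, hcY, hcΦ, hcR, hcfix⟩ := hCprop c hcC
      have hcY' : ∀ w ∈ Y, ∃ w' ∈ Y, c w' = w := by
        have e : Y.map c.toMonoidHom = Y := Subgroup.eq_of_le_of_card_ge
          (Subgroup.map_le_iff_le_comap.mpr hcY)
          (by rw [Nat.card_congr (Subgroup.equivMapOfInjective Y c.toMonoidHom c.injective).toEquiv])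
        intro w hw
        rw [← e] at hw
        obtain ⟨w', h1, h2⟩ := hw
        exact ⟨w', h1, h2⟩
      have hcμΦ : ∀ f ∈ Φ, μ (c f) = μ f := by
        refine fun f₁ hf₁ => (mul_inv_eq_one₀ (hμne f₁ (hΦZ0 hf₁))).mp ?_
        refine character_eq_one hr har haΦ (hqcard Φ hΦY) (fun z => μ (c z) * (μ z)⁻¹) (fun z hz z' hz' => ?_)
          (fun z hz => ?_) (fun z hz haz => ?_) f₁ hf₁
        · show μ (c (z * z')) * _ = _
          rw [map_mul, hμmul _ (hΦZ0 (hcΦ z hz)) _ (hΦZ0 (hcΦ z' hz')), hμmul _ (hΦZ0 hz) _ (hΦZ0 hz'), mul_inv]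
          ring
        · show μ (c (a * z * a⁻¹)) * _ = _
          rw [map_mul, map_mul, map_inv, hca, hμinv _ (hΦZ0 (hcΦ z hz)), hμinv _ (hΦZ0 hz)]
        · show μ (c z) * (μ z)⁻¹ = 1
          have h1 := hcfix z hz haz _ hfix0
          rw [hscal _ (hΦZ0 (hcΦ z hz)), hscal _ (hΦZ0 hz)] at h1
          rw [huniq _ _ _ hf0 h1, mul_inv_cancel₀ (hμne z (hΦZ0 hz))]
      have hcZ0 : ∀ z ∈ Z0, c z ∈ Z0 := fun z hz => ⟨hcY z hz.1, fun w hw => by
        obtain ⟨w', hw', rfl⟩ := hcY' w hw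
        rw [show ⁅c z, c w'⁆ = c ⁅z, w'⁆ from (map_commutatorElement (c : Γ ≃* Γ).toMonoidHom z w').symm]
        have hmem : ⁅z, w'⁆ ∈ Φ := hYY (commutator_mem_commutator hz.1 hw')
        have h1 : μ ⁅z, w'⁆ = 1 := by
          refine huniq _ _ _ hv₀' ?_
          rw [← hμ0 _ (hΦZ0 hmem), hz.2 w' hw', one_smul]; rfl
        rw [hscal _ (hΦZ0 (hcΦ _ hmem)), hcμΦ _ hmem, h1, one_smul]⟩
      have hcμ : ∀ z ∈ Z0, μ (c z) = μ z := hfixeq (fun z => c z) hcZ0 (fun z _ z' _ => map_mul c z z')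
        (fun z _ => by rw [map_mul, map_mul, map_inv, hca])
        (fun z hz haz => hcμΦ z (hfix z hz.1 haz))
      obtain ⟨φ, φ', hφ1, hφ2, hφ⟩ := htwist
        { toFun := fun w => ⟨c w, hcY w w.2⟩
          map_one' := Subtype.ext (map_one c)
          map_mul' := fun w w' => Subtype.ext (map_mul c _ _) }
        (fun z hz => ⟨hcZ0 _ hz, hcμ _ hz⟩)
      have hφy : ∀ (w : ↥Y), φ * ρS w = ρS ⟨c w, hcY w w.2⟩ * φ := hφ
      obtain ⟨k, hk⟩ : ∃ k : K, φ * u = k • (u * φ) := by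
        refine hsame (fun w => ⟨c (a * w * a⁻¹), hcY _ (mem_conj_normalizer haY w.2)⟩) (u * φ) (φ' * u ^ (r - 1))
          (φ * u) (by rw [mul_assoc, ← mul_assoc φ, hφ1, one_mul, hu1])
          (by rw [mul_assoc, ← mul_assoc (u ^ (r - 1)), hu2, one_mul, hφ2]) (fun w => ?_) (fun w => ?_)
        · rw [mul_assoc, hφy, ← mul_assoc, huy, mul_assoc]
          congr 2
          exact Subtype.ext (by show a * c w * a⁻¹ = c (a * w * a⁻¹); rw [map_mul, map_mul, map_inv, hca])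
        · rw [mul_assoc, huy, ← mul_assoc, hφy, mul_assoc]
      have hk1 : k = 1 := hprimeTo k (hkr φ k ⟨φ', hφ2⟩ hk) (hD φ k hk ⟨φ', hφ1⟩)
      rw [hk1, one_smul] at hk
      refine ⟨φ, φ', hφ2, hφ1, hk, fun z => ?_⟩
      show L (c' z) * φ = φ * L z
      have hT : φ * L z * φ' = L (c' z) := by
        refine hLuniq (c' z) _ (fun w => ?_) ?_
        · obtain ⟨w', hw', hcw⟩ := hcY' w w.2
          have e1 : φ' * ρS w = ρS ⟨w', hw'⟩ * φ' := by
            calc φ' * ρS w = φ' * (ρS w * (φ * φ')) := by rw [hφ1, mul_one]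
              _ = φ' * (φ * ρS ⟨w', hw'⟩) * φ' := by
                rw [hφy, show (⟨c w', hcY w' hw'⟩ : ↥Y) = w from Subtype.ext hcw]
                simp only [mul_assoc]
              _ = ρS ⟨w', hw'⟩ * φ' := by rw [← mul_assoc φ', hφ2, one_mul]
          rw [mul_assoc, e1, ← mul_assoc, mul_assoc φ (L z), hL3, ← mul_assoc φ, hφy, mul_assoc, mul_assoc,
            ← mul_assoc φ (L z)]
          congr 2
          refine Subtype.ext ?_
          show c ((z : Γ) * w' * (z : Γ)⁻¹) = (c' z : Γ) * w * (c' z : Γ)⁻¹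
          rw [map_mul, map_mul, map_inv, hcc z, hcw]
        · have h5 : u (φ' w₀) = φ' w₀ := by
            calc u (φ' w₀) = ((φ' * φ) * u) (φ' w₀) := by rw [hφ2, one_mul]
              _ = φ' ((u * φ) (φ' w₀)) := by rw [mul_assoc, hk]; rfl
              _ = φ' w₀ := by rw [Module.End.mul_apply, ← Module.End.mul_apply φ, hφ1,
                  Module.End.one_apply, hw₀]
          rw [Module.End.mul_apply, Module.End.mul_apply, hL4 z _ h5, ← Module.End.mul_apply, hφ1]
          rfl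
      rw [← hT, mul_assoc, hφ2, mul_one])
    hgenR'
  have h1 := hL3 ⟨x, hx⟩ ⟨y, hy⟩
  rw [show L ⟨x, hx⟩ = 1 from hrigid ⟨x, hx⟩, one_mul, mul_one] at h1
  exact h1.symm

end Cfsg.Agent.Grp.Turull
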