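import Mathlib
import Cfsg.Agent.Lib.Grp.TurullHeight.Frame
import Cfsg.Agent.Lib.Grp.TurullHeight.Chain
import Cfsg.Agent.Lib.Grp.TurullHeight.Special

/-!
Descending a least tower along the fixed points.
-/

set_option autoImplicit false
set_option linter.unusedSectionVars false
set_option linter.style.haveILetI false

namespace Cfsg.Agent.Grp.Turull

open Subgroup
open Cfsg.Agent.Transfer.SFT.Height (Series)
open scoped commutatorElement

variable {G : Type*} [Group G]

theorem mem_normalizer_of_conj_mem [Finite G] {Y : Subgroup G} {d : G} (h : ∀ y ∈ Y, d * y * d⁻¹ ∈ Y) :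
    d ∈ normalizer (Y : Set G) := by
  suffices hh : zpowers d ≤ normalizer (Y : Set G) from hh (mem_zpowers d)
  refine invariant_iff.mp fun t ht y hy => ?_
  obtain ⟨i, rfl⟩ := mem_powers_iff_mem_zpowers.mpr ht
  show d ^ i * y * (d ^ i)⁻¹ ∈ Y
  induction i with
  | zero => simpa using hy
  | succ i ih =>
    have h2 := h _ (ih (Subgroup.pow_mem _ (mem_zpowers d) i))
    convert h2 using 1
    rw [pow_succ']; group

/-- The state at level `i` of the descent. -/
def Inv (a : G) (X : Subgroup G) (m : ℕ) (P : ℕ → Subgroup G) (q : ℕ → ℕ) (i : ℕ) : Prop :=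
  ∃ k R d, Reach (X ⊓ centralizer ({a} : Set G)) k R (q i) ∧ i ≤ k + 1 ∧
    R ≤ normalizer (P (i + 1) : Set G) ∧ d ∈ R ∧ d ∈ P i ∧
    ∃ Y ≤ P i, a ∈ normalizer (Y : Set G) ∧ kl P m i ≤ Y ∧ Y ≤ ⁅Y, zpowers a⁆ ⊔ kl P m i ∧
      (∀ c ∈ Y, a * c = c * a → ∀ y ∈ Y, ⁅c, y⁆ ∈ kl P m i) ∧ (∀ y ∈ Y, ⁅d, y⁆ ∈ kl P m i) ∧
      ∃ x ∈ P (i + 1), a * x = x * a ∧ x ∈ ⁅P (i + 1), Y⁆ ⊔ fl P m (i + 1) ∧ ⁅x, d⁆ ∉ fl P m (i + 1)

namespace MinTow

variable [Finite G] {a : G} {X : Subgroup G} {m r : ℕ} {P : ℕ → Subgroup G}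
  {q : ℕ → ℕ}

theorem inv_of_good (T : MinTow a X m P q) (hr : r.Prime) (har : a ^ r = 1) (hrX : ¬ r ∣ Nat.card X) {i : ℕ}
    (hi : i + 1 ≤ m) {k : ℕ} {R : Subgroup G} {z : G}
    (hR : Reach (X ⊓ centralizer ({a} : Set G)) k R (q i)) (hk : i ≤ k + 1)
    (hRn : R ≤ normalizer (P (i + 1) : Set G)) (hzR : z ∈ R) (hzP : z ∈ P i)
    (hgood : Good (fel P m i a (T.a_mem_hf hi)) (fimg P m i (P i)) (fimg P m i (P (i + 1)))
      (fel P m i z (T.P_le_hf hi (Nat.le_succ i) hzP))) : Inv a X m P q i := by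
  obtain ⟨Y, hY, haY, hKY, hYa, hYc, hYz, x, hx, hxa, hxz⟩ := T.lift_good hr har hrX hi hzP hgood
  exact ⟨k, R, z, hR, hk, hRn, hzR, hzP, Y, hY, haY, hKY, hYa, hYc, hYz, x,
    commutator_le_left_of_le_normalizer (hY.trans (T.norm i (i + 1) (by omega) hi)) hx, hxa,
    mem_sup_left hx, hxz⟩

/-- The descent cannot be continued to the bottom. -/
theorem inv_last (T : MinTow a X m P q) {n i : ℕ} (hm : m = n + 2)
    (hs : Series n (X ⊓ centralizer ({a} : Set G))) (hi : i + 1 = m) : ¬ Inv a X m P q i := by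
  rintro ⟨k, R, d, hR, hk, hRn, hdR, -, Y, -, -, -, -, -, -, x, hxP, hxa, -, hxd⟩
  have hRC : R ≤ centralizer ({a} : Set G) := hR.le.trans inf_le_right
  have h := (Reach.step hR (T.prime (i + 1) hi.le) (T.adj i (by omega)).symm
    (S := P (i + 1) ⊓ centralizer ({a} : Set G)) ((T.pgroup (i + 1) hi.le).to_le inf_le_left)
    (le_inf (inf_le_left.trans (T.le _ hi.le)) inf_le_right)
    (le_normalizer_inf' hRn (hRC.trans le_normalizer))).eq_bot hs (by omega)
  have h1 : ⁅x, d⁆ ∈ ⁅P (i + 1) ⊓ centralizer ({a} : Set G), R⁆ :=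
    commutator_mem_commutator (mem_inf_centralizer.mpr ⟨hxP, hxa⟩) hdR
  rw [h, mem_bot] at h1
  exact hxd (h1 ▸ one_mem _)

/-- One step down the tower. -/
theorem inv_step (T : MinTow a X m P q) (hr : r.Prime) (har : a ^ r = 1) (hrX : ¬ r ∣ Nat.card X) {i : ℕ}
    (hl : i + 1 + 1 ≤ m) (h : Inv a X m P q i) : Inv a X m P q (i + 1) := by
  obtain ⟨k, R, d, hR, hk, hRn, hdR, hdP, Y, hY, haY, hKY, hYa, hYc, hYd, x, hxP, hxa, hxY, hxd⟩ := h
  have hi : i + 1 ≤ m := by omega
  have hp := T.prime (i + 1) hi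
  have hq := T.prime i (by omega)
  have hs := T.prime (i + 1 + 1) hl
  have hRC : R ≤ centralizer ({a} : Set G) := hR.le.trans inf_le_right
  set S := P (i + 1) ⊓ centralizer ({a} : Set G) with hS
  have hR' : Reach (X ⊓ centralizer ({a} : Set G)) (k + 1) ⁅S, R⁆ (q (i + 1)) :=
    Reach.step hR hp (T.adj i (by omega)).symm ((T.pgroup (i + 1) hi).to_le inf_le_left)
      (le_inf (inf_le_left.trans (T.le _ hi)) inf_le_right) (le_normalizer_inf' hRn (hRC.trans le_normalizer))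
  have hRS : ⁅S, R⁆ ≤ S :=
    commutator_le_left_of_le_normalizer (le_normalizer_inf' hRn (hRC.trans le_normalizer))
  have hR'n : ⁅S, R⁆ ≤ normalizer (P (i + 1 + 1) : Set G) :=
    (hRS.trans inf_le_left).trans (T.norm (i + 1) (i + 1 + 1) (by omega) hl)
  have hda : a * d = d * a := (mem_centralizer_singleton_iff.mp (hRC hdR)).symm
  have hYH : Y ≤ hf P m (i + 1) := hY.trans (T.P_le_hf hl (by omega))
  have hdH : d ∈ hf P m (i + 1) := T.P_le_hf hl (by omega) hdP
  have haH := T.a_mem_hf hl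
  have hPH : P (i + 1) ≤ hf P m (i + 1) := T.P_le_hf hl (by omega)
  have hxH := hPH hxP
  have hdn : d ∈ normalizer (P (i + 1) : Set G) := T.norm i (i + 1) (by omega) hi hdP
  have hzmem : ∀ u ∈ P (i + 1), a * u = u * a → ⁅u, d⁆ ∈ P (i + 1) ∧ a * ⁅u, d⁆ = ⁅u, d⁆ * a ∧ ⁅u, d⁆ ∈ ⁅S, R⁆ := by
    intro u hu hua
    have h1 : ⁅u, d⁆ ∈ ⁅S, R⁆ := commutator_mem_commutator (mem_inf_centralizer.mpr ⟨hu, hua⟩) hdR
    exact ⟨(hRS h1).1, (mem_centralizer_singleton_iff.mp (hRS h1).2).symm, h1⟩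
  obtain ⟨hzP, hza, hzR⟩ := hzmem x hxP hxa
  have hzfl : fel P m (i + 1) ⁅x, d⁆ (hPH hzP) ≠ 1 := fun e =>
    hxd (kl_le_fl P m _ (T.mem_kl_of_nf hl hzP ((el_eq_one _).mp e)))
  have hYn : Y ≤ normalizer (P (i + 1) : Set G) := hY.trans (T.norm i (i + 1) (by omega) hi)
  have hcentK : ∀ u ∈ P i, ∀ hu : u ∈ hf P m (i + 1), u ∈ kl P m i →
      fel P m (i + 1) u hu ∈ centralizer (fimg P m (i + 1) (P (i + 1)) : Set _) := fun u huP hu huk =>
    (T.fel_centralizer hl hu (T.norm i (i + 1) (by omega) hi huP)).mpr ((mem_kl_iff (by omega)).mp huk).2.2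
  have hcd : ∀ y (hy : y ∈ Y), ⁅fel P m (i + 1) d hdH, fel P m (i + 1) y (hYH hy)⁆ ∈
      centralizer (fimg P m (i + 1) (P (i + 1)) : Set _) := by
    intro y hy
    rw [el_commutator]
    exact hcentK _ (mul_mem (mul_mem (mul_mem hdP (hY hy)) (inv_mem hdP)) (inv_mem (hY hy))) _ (hYd y hy)
  have hQa : fimg P m (i + 1) Y ≤ ⁅fimg P m (i + 1) Y, zpowers (fel P m (i + 1) a haH)⁆ ⊔
      (fimg P m (i + 1) Y ⊓ centralizer (fimg P m (i + 1) (P (i + 1)) : Set _)) := by
    intro g hg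
    obtain ⟨y, hyH, hy, rfl⟩ := exists_of_mem_img hg
    have hYA := commutator_le_left_of_le_normalizer (zpowers_le_normalizer haY)
    have hy' := hYa hy
    rw [← SetLike.mem_coe, Subgroup.coe_mul_of_left_le_normalizer_right _ _
      ((hYA.trans hY).trans (T.norm_kl le_rfl (by omega)))] at hy'
    obtain ⟨u, hu, v, hv, rfl⟩ := hy'
    have huH := hYH (hYA hu)
    have hvH := hYH (hKY hv)
    rw [el_mul huH hvH]
    refine mul_mem (mem_sup_left ?_) (mem_sup_right ⟨el_mem_img hvH (hKY hv), hcentK v (kl_le P m i hv) hvH hv⟩)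
    rw [← img_zpowers haH, ← img_commutator hYH (zpowers_le.mpr haH)]
    exact el_mem_img huH hu
  have hQP : fimg P m (i + 1) Y ≤ normalizer (fimg P m (i + 1) (P (i + 1)) : Set _) := img_le_normalizer hYn
  have hQV : fimg P m (i + 1) Y ≤ normalizer (fimg P m (i + 1) (P (i + 1 + 1)) : Set _) :=
    img_le_normalizer (hY.trans (T.norm i (i + 1 + 1) (by omega) hl))
  have hPV : fimg P m (i + 1) (P (i + 1)) ≤ normalizer (fimg P m (i + 1) (P (i + 1 + 1)) : Set _) :=
    img_le_normalizer (T.norm (i + 1) (i + 1 + 1) (by omega) hl)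
  have haP : fel P m (i + 1) a haH ∈ normalizer (fimg P m (i + 1) (P (i + 1)) : Set _) :=
    el_mem_normalizer haH (T.inv (i + 1) hi)
  have haV : fel P m (i + 1) a haH ∈ normalizer (fimg P m (i + 1) (P (i + 1 + 1)) : Set _) :=
    el_mem_normalizer haH (T.inv (i + 1 + 1) hl)
  have haQ : fel P m (i + 1) a haH ∈ normalizer (fimg P m (i + 1) Y : Set _) := el_mem_normalizer haH haY
  by_cases hab : ⁅P (i + 1), P (i + 1)⁆ ≤ kl P m (i + 1)
  · haveI := T.frame_abelian hab
    have hfl := T.fl_eq_kl hi hab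
    have hxmem : fel P m (i + 1) x hxH ∈ ⁅fimg P m (i + 1) (P (i + 1)), fimg P m (i + 1) Y⁆ := by
      have hx' := hxY
      rw [← SetLike.mem_coe, Subgroup.coe_mul_of_left_le_normalizer_right _ _
        ((commutator_le_left_of_le_normalizer hYn).trans (T.norm_fl le_rfl hi))] at hx'
      obtain ⟨u, hu, f, hf, rfl⟩ := hx'
      have huH := hPH (commutator_le_left_of_le_normalizer hYn hu)
      have hfH := hPH (fl_le P m _ hf)
      show fel P m (i + 1) (u * f) _ ∈ _
      rw [show fel P m (i + 1) (u * f) _ = fel P m (i + 1) u huH * fel P m (i + 1) f hfH from el_mul huH hfH,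
        show fel P m (i + 1) f hfH = 1 from (el_eq_one hfH).mpr
          (show f ∈ nf P m (i + 1) from mem_sup_left (hfl ▸ hf)), mul_one,
        ← img_commutator hPH hYH]
      exact el_mem_img huH hu
    obtain ⟨x', hx', hx'a, hgood⟩ := good_of_abelian (a := fel P m (i + 1) a haH) (d := fel P m (i + 1) d hdH)
      (x := fel P m (i + 1) x hxH) hp hq hs hr (T.adj (i + 1) (by omega)).symm
      (T.q_ne hr hrX hi) (T.q_ne hr hrX hl) (T.q_ne hr hrX (by omega)) (T.fel_pow_r hl har)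
      (img_isPGroup (T.pgroup (i + 1) hi)) (img_isPGroup ((T.pgroup i (by omega)).to_le hY))
      (T.frame_elemAb hl) haP haQ haV hQP hPV hQV (T.frame_faith hl) hQa
      (fun c hc hca g hg => by
        obtain ⟨c, hcH, hcY, rfl⟩ := exists_of_mem_img hc
        obtain ⟨y, hyH, hyY, rfl⟩ := exists_of_mem_img hg
        obtain ⟨c', hc'Y, hcc, hc'a⟩ := el_fixed_img hr har haH haY haH
          (T.not_dvd_card hr hrX (show i ≤ m by omega) (inf_le_left.trans hY)) hcY hcH hca
        rw [(el_eq_el hcH (hYH hc'Y)).mpr hcc, el_commutator]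
        exact hcentK _ (mul_mem (mul_mem (mul_mem (hY hc'Y) (hY hyY)) (inv_mem (hY hc'Y))) (inv_mem (hY hyY))) _
          (hYc c' hc'Y hc'a y hyY))
      (el_mem_normalizer hdH hdn) (el_commute haH hdH hda)
      (fun g hg => by
        obtain ⟨y, hyH, hy, rfl⟩ := exists_of_mem_img hg
        exact hcd y hy)
      hxmem (el_commute haH hxH hxa)
      (fun e => hzfl ((el_eq_one _).mpr ((el_commute_iff hxH hdH).mp e)))
    obtain ⟨x₀, hx₀H, hx₀P, rfl⟩ := exists_of_mem_img hx'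
    obtain ⟨c, hcP, hxc, hca⟩ := el_fixed_img hr har haH (T.inv (i + 1) hi) haH
      (T.not_dvd_card hr hrX hi inf_le_left) hx₀P hx₀H hx'a
    obtain ⟨hwP, -, hwR⟩ := hzmem c hcP hca
    refine T.inv_of_good hr har hrX hl hR' (by omega) hR'n hwR hwP ?_
    rw [(el_eq_el hx₀H (hPH hcP)).mpr hxc, el_commutator] at hgood
    exact hgood
  · have hdY : d ∈ normalizer (Y : Set G) := mem_normalizer_of_conj_mem fun y hy => by
      rw [show d * y * d⁻¹ = ⁅d, y⁆ * y by simp only [commutatorElement_def]; group]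
      exact mul_mem (hKY (hYd y hy)) hy
    refine T.inv_of_good hr har hrX hl hR' (by omega) hR'n hzR hzP ?_
    refine good_of_central hp hq hs hr (T.adj (i + 1) (by omega)).symm (T.q_ne hr hrX hi)
      (T.q_ne hr hrX hl) (T.q_ne hr hrX (by omega)) (T.adj i (by omega)).symm (T.fel_pow_r hl har)
      (img_isPGroup (T.pgroup (i + 1) hi)) (img_isPGroup ((T.pgroup i (by omega)).to_le hY))
      (T.frame_elemAb hl) haP haQ haV hQP hPV hQV (T.frame_faith hl) ?_ ?_ hQa
      (el_mem_img _ hzP) (el_commute haH (hPH hzP) hza) ?_ ?_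
    · intro u hu v hv
      obtain ⟨f, hfH, hf, rfl⟩ := exists_of_mem_img (T.frame_phi_le hl hu)
      obtain ⟨g, hgH, hg, rfl⟩ := exists_of_mem_img hv
      exact ((el_commute_iff hgH hfH).mpr
        (show _ ∈ nf P m (i + 1) from mem_sup_left (T.fl_central hi hf hg))).symm
    · intro u hu v hv
      obtain ⟨f, hfH, hf, rfl⟩ := exists_of_mem_img (T.frame_phi_le hl hu)
      obtain ⟨g, hgH, hg, rfl⟩ := exists_of_mem_img hv
      exact (el_commute_iff hfH hgH).mpr
        (show _ ∈ nf P m (i + 1) from mem_sup_left (T.fl_commutator hi (commutator_mem_commutator hf (hY hg))))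
    · set D := ⁅fimg P m (i + 1) (P (i + 1)), fimg P m (i + 1) Y⁆ ⊔ phi (fimg P m (i + 1) (P (i + 1))) with hD
      have hxD : fel P m (i + 1) x hxH ∈ D := by
        have hx' := hxY
        rw [← SetLike.mem_coe, Subgroup.coe_mul_of_left_le_normalizer_right _ _
          ((commutator_le_left_of_le_normalizer hYn).trans (T.norm_fl le_rfl hi))] at hx'
        obtain ⟨u, hu, f, hf, rfl⟩ := hx'
        have huH := hPH (commutator_le_left_of_le_normalizer hYn hu)
        have hfH := hPH (fl_le P m _ hf)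
        show fel P m (i + 1) (u * f) _ ∈ _
        rw [show fel P m (i + 1) (u * f) _ = fel P m (i + 1) u huH * fel P m (i + 1) f hfH from el_mul huH hfH]
        refine mul_mem (mem_sup_left ?_) (mem_sup_right (T.fimg_fl_le hl (el_mem_img hfH hf)))
        rw [← img_commutator hPH hYH]
        exact el_mem_img huH hu
      have hdD : fel P m (i + 1) d hdH ∈ normalizer (D : Set _) :=
        le_normalizer_sup' (normalizer_commutator (zpowers_le_normalizer (el_mem_normalizer hdH hdn))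
          (zpowers_le_normalizer (el_mem_normalizer hdH hdY)))
          (zpowers_le_normalizer (normalizer_le_phi _ (el_mem_normalizer hdH hdn))) (mem_zpowers _)
      show fel P m (i + 1) ⁅x, d⁆ _ ∈ D
      rw [show fel P m (i + 1) ⁅x, d⁆ _ = ⁅fel P m (i + 1) x hxH, fel P m (i + 1) d hdH⁆ from
        (el_commutator hxH hdH).symm, commutatorElement_def, mul_assoc, mul_assoc, ← mul_assoc (fel P m (i + 1) d hdH)]
      exact mul_mem hxD (mem_conj_normalizer hdD (inv_mem hxD))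
    · by_contra hc
      push Not at hc
      refine hxd (T.mem_fl_of_central hi hab hzP fun y hy => ?_)
      exact T.mem_kl_of_nf hl (mul_mem (mul_mem (mul_mem hzP hy) (inv_mem hzP)) (inv_mem hy))
        ((el_commute_iff (hPH hzP) (hPH hy)).mp (hc _ (el_mem_img _ hy)))

end MinTow

end Cfsg.Agent.Grp.Turull
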