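import Mathlib
import Cfsg.Prelude.Def_Transfer
import Cfsg.Agent.Lib.Grp.TurullHeight.Irreducible

/-!
A group commuting with an operator and trivial on its fixed points on an elementary abelian module
acts trivially on the class two group below.
-/

set_option autoImplicit false
set_option linter.unusedSectionVars false
set_option linter.style.haveILetI false

namespace Cfsg.Agent.Grp.Turull

open Module Subgroup
open scoped commutatorElement TensorProduct

variable {G : Type*} [Group G] [Finite G]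

theorem geom_fixed {K U : Type*} [Field K] [AddCommGroup U] [Module K U] {T : Module.End K U} {r : ℕ}
    (hT : T ^ r = 1) : T * (∑ i ∈ Finset.range r, T ^ i) = ∑ i ∈ Finset.range r, T ^ i := by
  have e := mul_geom_sum T r
  rw [hT, sub_self, sub_mul, one_mul, sub_eq_zero] at e
  exact e

set_option maxHeartbeats 1000000 in
/-- Triviality on all the factors of a representation. -/
theorem trivial_of_factors {Γ : Type*} [Group Γ] [Finite Γ] {K : Type*} [Field K] [IsAlgClosed K] {U : Type*}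
    [AddCommGroup U] [Module K U] [FiniteDimensional K U] (ρ : Γ →* Module.End K U)
    {p q t r : ℕ} [CharP K p] (hp : p.Prime) (hq : q.Prime) (ht : t.Prime) (hr : r.Prime) (hqp : q ≠ p)
    (hpr : p ≠ r) (htr : t ≠ r) (hqt : q ≠ t) (hqr : q ≠ r) (a : Γ) (har : a ^ r = 1) {Y Φ R : Subgroup Γ}
    (hY : IsPGroup q Y) (hR : IsPGroup t R)
    (haY : a ∈ normalizer (Y : Set Γ)) (hRY : R ≤ normalizer (Y : Set Γ)) (hRa : ∀ x ∈ R, a * x = x * a)
    (hΦY : Φ ≤ Y) (haΦ : a ∈ normalizer (Φ : Set Γ)) (hRΦ : ∀ x ∈ R, ∀ f ∈ Φ, x * f = f * x)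
    (hΦc : ∀ f ∈ Φ, ∀ y ∈ Y, f * y = y * f) (hYY : ⁅Y, Y⁆ ≤ Φ)
    (hfix : ∀ y ∈ Y, a * y = y * a → y ∈ Φ) (hRfix : ∀ y ∈ Y, (∀ x ∈ R, x * y = y * x) → y ∈ Φ)
    (hgenΓ : ⊤ ≤ Y ⊔ R ⊔ zpowers a)
    (hSx : ∀ x ∈ R, ρ x * (∑ i ∈ Finset.range r, ρ a ^ i) = ∑ i ∈ Finset.range r, ρ a ^ i)
    (C : Set (MulAut Γ))
    (hC : (∑ i ∈ Finset.range r, ρ a ^ i) = 0 ∨
      (R ≤ Subgroup.closure {g | ∃ c ∈ C, ∃ x ∈ R, g = c x * x⁻¹} ∧
        ∀ c ∈ C, c a = a ∧ (∀ y ∈ Y, c y ∈ Y) ∧ (∀ f ∈ Φ, c f ∈ Φ) ∧ (∀ x ∈ R, c x ∈ R) ∧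
          ∀ f ∈ Φ, a * f = f * a →
            ρ (c f) * (∑ i ∈ Finset.range r, ρ a ^ i) = ρ f * (∑ i ∈ Finset.range r, ρ a ^ i)))
    (x : Γ) (hx : x ∈ R) (y : Γ) (hy : y ∈ Y) : ρ ⁅x, y⁆ = 1 := by
  classical
  set S := ∑ i ∈ Finset.range r, ρ a ^ i with hSdef
  have hgY : ⁅x, y⁆ ∈ Y := mul_mem (mem_conj_normalizer (hRY hx) hy) (inv_mem hy)
  have hall : ∀ W : Submodule K U, (∀ g, ∀ v ∈ W, ρ g v ∈ W) → ∀ v ∈ W, ρ ⁅x, y⁆ v = v := by
    intro W
    induction W using (IsWellFounded.wf : WellFounded ((· < ·) : Submodule K U → Submodule K U → Prop)).induction with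
    | _ W ih =>
    intro hW v hv
    by_cases hW0 : W = ⊥
    · rw [hW0, Submodule.mem_bot] at hv
      rw [hv, map_zero]
    obtain ⟨W', ⟨hW'W, hW'inv⟩, hmax⟩ := (IsWellFounded.wf : WellFounded ((· > ·) :
      Submodule K U → Submodule K U → Prop)).has_min
        {W' | W' < W ∧ ∀ g, ∀ v ∈ W', ρ g v ∈ W'}
        ⟨⊥, bot_lt_iff_ne_bot.mpr hW0, fun g w hw => by
          rw [Submodule.mem_bot] at hw ⊢; rw [hw, map_zero]⟩
    have hfix' := ih W' hW'W hW'inv
    set N := W'.comap W.subtype with hN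
    let ρW : Γ →* Module.End K ↥W :=
      { toFun := fun g => (ρ g).restrict (hW g)
        map_one' := LinearMap.ext fun v => Subtype.ext (by simp [LinearMap.restrict_apply])
        map_mul' := fun g g' => LinearMap.ext fun v => Subtype.ext (by simp [LinearMap.restrict_apply]) }
    have hρW : ∀ g (w : ↥W), ((ρW g w : ↥W) : U) = ρ g w := fun g w => rfl
    have hNinv : ∀ g, N ≤ N.comap (ρW g) := fun g w hw => hW'inv g _ hw
    let ρQ : Γ →* Module.End K (↥W ⧸ N) :=
      { toFun := fun g => N.mapQ N (ρW g) (hNinv g)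
        map_one' := Submodule.linearMap_qext _ (LinearMap.ext fun w => by
          rw [LinearMap.comp_apply, LinearMap.comp_apply, Submodule.mkQ_apply, Submodule.mapQ_apply, map_one]
          rfl)
        map_mul' := fun g g' => Submodule.linearMap_qext _ (LinearMap.ext fun w => by
          rw [LinearMap.comp_apply, LinearMap.comp_apply, Submodule.mkQ_apply, Module.End.mul_apply,
            Submodule.mapQ_apply, Submodule.mapQ_apply, Submodule.mapQ_apply, map_mul]
          rfl) }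
    haveI : Nontrivial (↥W ⧸ N) := Submodule.Quotient.nontrivial_iff.mpr fun e => hW'W.not_ge fun w hw => by
      have h1 : (⟨w, hw⟩ : ↥W) ∈ N := e ▸ Submodule.mem_top
      exact h1
    have hirr : ∀ T : Submodule K (↥W ⧸ N), (∀ g, ∀ v ∈ T, ρQ g v ∈ T) → T = ⊥ ∨ T = ⊤ := by
      intro T hT
      set W'' := (T.comap N.mkQ).map W.subtype with hW''
      have h1 : W'' ≤ W := Submodule.map_subtype_le _ _
      have h2 : W' ≤ W'' := fun w hw => ⟨⟨w, hW'W.le hw⟩, by
        show N.mkQ _ ∈ T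
        rw [Submodule.mkQ_apply, (Submodule.Quotient.mk_eq_zero N).mpr hw]
        exact Submodule.zero_mem _, rfl⟩
      have h3 : ∀ g, ∀ v ∈ W'', ρ g v ∈ W'' := by
        rintro g _ ⟨w, hw, rfl⟩
        refine ⟨ρW g w, ?_, rfl⟩
        have := hT g _ hw
        rwa [Submodule.mkQ_apply] at this
      rcases h2.eq_or_lt with e | hlt
      · refine Or.inl ((Submodule.eq_bot_iff T).mpr fun u hu => ?_)
        obtain ⟨w, rfl⟩ := Submodule.Quotient.mk_surjective N u
        refine (Submodule.Quotient.mk_eq_zero N).mpr ?_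
        show (w : U) ∈ W'
        rw [e]
        exact ⟨w, hu, rfl⟩
      · refine Or.inr (top_le_iff.mp fun u _ => ?_)
        have e : W'' = W := h1.eq_or_lt.resolve_right fun hlt' => hmax W'' ⟨hlt', h3⟩ hlt
        obtain ⟨w, rfl⟩ := Submodule.Quotient.mk_surjective N u
        obtain ⟨w', hw', e'⟩ := e.ge w.2
        rw [← Subtype.ext e']
        exact hw'
    have hr0 : (r : K) ≠ 0 := fun h =>
      hpr ((Nat.prime_dvd_prime_iff_eq hp hr).mp ((CharP.cast_eq_zero_iff K p r).mp h))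
    have havg : ∀ u : ↥W ⧸ N, ρQ a u = u → ∃ w : ↥W, Submodule.Quotient.mk w = (r : K) • u ∧
        ∃ w', (w : U) = S w' := by
      intro u hu
      obtain ⟨w, rfl⟩ := Submodule.Quotient.mk_surjective N u
      have hi : ∀ i : ℕ, ρQ (a ^ i) (Submodule.Quotient.mk w) = Submodule.Quotient.mk w := by
        intro i
        induction i with
        | zero => rw [pow_zero, map_one]; rfl
        | succ i ih => rw [pow_succ', map_mul, Module.End.mul_apply, ih, hu]
      refine ⟨∑ i ∈ Finset.range r, ρW (a ^ i) w, ?_, (w : U), ?_⟩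
      · rw [← Submodule.mkQ_apply, map_sum, Finset.sum_congr rfl (fun i _ => show
          N.mkQ (ρW (a ^ i) w) = Submodule.Quotient.mk w from hi i), Finset.sum_const, Finset.card_range,
          Nat.cast_smul_eq_nsmul]
      · rw [Submodule.coe_sum, hSdef, LinearMap.sum_apply]
        exact Finset.sum_congr rfl fun i _ => by rw [hρW, map_pow]
    have hqt' := theta_irreducible ρQ hirr hp hq ht hr hqp hpr htr hqt hqr har hY hR haY hRY hRa hΦY haΦ hRΦ hΦc
      hYY hfix hRfix hgenΓ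
      (fun z hz u hu => by
        obtain ⟨w, hw, w', hw'⟩ := havg u hu
        have h1 : ρW z w = w := Subtype.ext (by rw [hρW, hw', ← Module.End.mul_apply, hSx z hz])
        have h2 : ρQ z ((r : K) • u) = (r : K) • u := by
          rw [← hw]
          show Submodule.Quotient.mk (ρW z w) = _
          rw [h1]
        rw [map_smul] at h2
        exact smul_right_injective _ hr0 h2)
      C
      (by
        rcases hC with hS0 | ⟨hgen, hprop⟩
        · refine Or.inl fun u hu => ?_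
          obtain ⟨w, hw, w', hw'⟩ := havg u hu
          have hw0 : w = 0 := Subtype.ext (by rw [hw', hS0]; rfl)
          rw [hw0, Submodule.Quotient.mk_zero, eq_comm, smul_eq_zero] at hw
          exact hw.resolve_left hr0
        · refine Or.inr ⟨hgen, fun c hc => ?_⟩
          obtain ⟨h1, h2, h3, h4, h5⟩ := hprop c hc
          refine ⟨h1, h2, h3, h4, fun f hf hfa u hu => ?_⟩
          obtain ⟨w, hw, w', hw'⟩ := havg u hu
          have h6 : ρW (c f) w = ρW f w := Subtype.ext (by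
            rw [hρW, hρW, hw', ← Module.End.mul_apply, h5 f hf hfa, Module.End.mul_apply])
          have h7 : ρQ (c f) ((r : K) • u) = ρQ f ((r : K) • u) := by
            rw [← hw]
            show Submodule.Quotient.mk (ρW (c f) w) = Submodule.Quotient.mk (ρW f w)
            rw [h6]
          rw [map_smul, map_smul] at h7
          exact smul_right_injective _ hr0 h7)
      x hx y hy
    -- a coprime element trivial on the two factors is trivial
    set d := ρ ⁅x, y⁆ v - v with hd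
    have hdW' : d ∈ W' := by
      have h1 := LinearMap.congr_fun hqt' (Submodule.Quotient.mk ⟨v, hv⟩)
      have h2 : Submodule.Quotient.mk (ρW ⁅x, y⁆ ⟨v, hv⟩) = (Submodule.Quotient.mk ⟨v, hv⟩ : ↥W ⧸ N) := h1
      exact (Submodule.Quotient.eq N).mp h2
    have hiter : ∀ n : ℕ, (ρ ⁅x, y⁆ ^ n) v = v + (n : K) • d := by
      intro n
      induction n with
      | zero => simp
      | succ n ih =>
        rw [pow_succ', Module.End.mul_apply, ih, map_add, map_smul, hfix' d hdW', Nat.cast_succ, add_smul, one_smul,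
          show ρ ⁅x, y⁆ v = v + d by rw [hd]; abel]
        abel
    obtain ⟨k, hk⟩ := hY ⟨⁅x, y⁆, hgY⟩
    have hgk : ⁅x, y⁆ ^ q ^ k = 1 := congrArg Subtype.val hk
    have h1 := hiter (q ^ k)
    rw [← map_pow, hgk, map_one, Module.End.one_apply, left_eq_add, smul_eq_zero, Nat.cast_pow] at h1
    have hq0 : (q : K) ≠ 0 := fun h =>
      hqp ((Nat.prime_dvd_prime_iff_eq hp hq).mp ((CharP.cast_eq_zero_iff K p q).mp h)).symm
    exact sub_eq_zero.mp (h1.resolve_left (pow_ne_zero _ hq0))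
  exact LinearMap.ext fun v => hall ⊤ (fun _ _ _ => trivial) v trivial

set_option maxHeartbeats 1000000 in
/-- The theorem on groups trivial on the fixed points of an operator. -/
theorem theta {p q t r : ℕ} (hp : p.Prime) (hq : q.Prime) (ht : t.Prime) (hr : r.Prime) (hqp : q ≠ p)
    (hpr : p ≠ r) (htr : t ≠ r) (hqt : q ≠ t) (hqr : q ≠ r) {a : G} (har : a ^ r = 1) {V Y Φ R L : Subgroup G}
    (hV : Cfsg.IsElementaryAbelian p V) (hY : IsPGroup q Y) (hR : IsPGroup t R)
    (haV : a ∈ normalizer (V : Set G)) (hYV : Y ≤ normalizer (V : Set G)) (hRV : R ≤ normalizer (V : Set G))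
    (haY : a ∈ normalizer (Y : Set G)) (hRY : R ≤ normalizer (Y : Set G)) (hRa : ∀ x ∈ R, a * x = x * a)
    (hΦY : Φ ≤ Y) (haΦ : a ∈ normalizer (Φ : Set G)) (hRΦ : ∀ x ∈ R, ∀ f ∈ Φ, x * f = f * x)
    (hΦc : ∀ f ∈ Φ, ∀ y ∈ Y, f * y = y * f) (hYY : ⁅Y, Y⁆ ≤ Φ)
    (hfix : ∀ y ∈ Y, a * y = y * a → y ∈ Φ) (hRfix : ∀ y ∈ Y, (∀ x ∈ R, x * y = y * x) → y ∈ Φ)
    (hR0 : ∀ x ∈ R, ∀ v ∈ V, a * v = v * a → x * v = v * x)
    (hL : (∀ v ∈ V, a * v = v * a → v = 1) ∨
      (R ≤ ⁅R, L⁆ ∧ (∀ l ∈ L, a * l = l * a) ∧ L ≤ normalizer (Y : Set G) ∧ L ≤ normalizer (Φ : Set G) ∧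
        L ≤ normalizer (R : Set G) ∧
        ∀ l ∈ L, ∀ f ∈ Φ, a * f = f * a → ∀ v ∈ V, a * v = v * a → ⁅l, f⁆ * v = v * ⁅l, f⁆)) :
    ∀ x ∈ R, ∀ y ∈ Y, ⁅x, y⁆ ∈ centralizer (V : Set G) := by
  classical
  haveI := Fact.mk hp
  haveI := Fact.mk hq
  haveI := hV.1
  intro x hx y hy
  set Γ : Subgroup G := Y ⊔ R ⊔ zpowers a with hΓ
  have hYΓ : Y ≤ Γ := le_sup_left.trans le_sup_left
  have hRΓ : R ≤ Γ := le_sup_right.trans le_sup_left
  have haΓ : a ∈ Γ := Subgroup.mem_sup_right (mem_zpowers a)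
  have hΓV : Γ ≤ normalizer (V : Set G) := sup_le (sup_le hYV hRV) (zpowers_le_normalizer haV)
  letI : CommGroup V := { (inferInstance : Group V) with mul_comm := fun u v => IsMulCommutative.is_comm.comm u v }
  haveI : Module (ZMod p) (Additive V) := AddCommGroup.zmodModule (fun w => by
    refine Additive.toMul.injective (Subtype.ext ?_)
    rw [toMul_nsmul, toMul_zero, SubmonoidClass.coe_pow, hV.2 _ (Additive.toMul w).2, Subgroup.coe_one])
  let ν : Γ →* MulAut V := V.normalizerMonoidHom.comp (Subgroup.inclusion hΓV)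
  let ρ : Γ →* Module.End (ZMod p) (Additive V) :=
    { toFun := fun g => (ν g).toMonoidHom.toAdditive.toZModLinearMap p
      map_one' := LinearMap.ext fun w => by
        show Additive.ofMul (ν 1 (Additive.toMul w)) = w
        rw [map_one]; rfl
      map_mul' := fun g g' => LinearMap.ext fun w => by
        show Additive.ofMul (ν (g * g') (Additive.toMul w)) = Additive.ofMul (ν g (ν g' (Additive.toMul w)))
        rw [map_mul]; rfl }
  have hρ : ∀ (g : Γ) (w : Additive V),
      ((Additive.toMul (ρ g w) : V) : G) = g * (Additive.toMul w : V) * (g : G)⁻¹ := fun g w => rfl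
  haveI : Module.Finite (ZMod p) (Additive V) := Module.Finite.of_finite
  let K := AlgebraicClosure (ZMod p)
  haveI : CharP K p := charP_of_injective_algebraMap (algebraMap (ZMod p) K).injective p
  let bc := (Module.End.baseChangeHom (ZMod p) K (Additive V))
  let ρK : Γ →* Module.End K (K ⊗[ZMod p] Additive V) := bc.toMonoidHom.comp ρ
  let ai : Γ := ⟨a, haΓ⟩
  have hair : ai ^ r = 1 := Subtype.ext har
  let S : Module.End (ZMod p) (Additive V) := ∑ i ∈ Finset.range r, ρ ai ^ i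
  have hSfix : ∀ w, a * ((Additive.toMul (S w) : V) : G) = ((Additive.toMul (S w) : V) : G) * a := by
    intro w
    have h1 : ρ ai (S w) = S w := by
      rw [← Module.End.mul_apply, geom_fixed (by rw [← map_pow, hair, map_one])]
    have h2 := hρ ai (S w)
    rw [h1] at h2
    exact mul_inv_eq_iff_eq_mul.mp h2.symm
  let SK : Module.End K (K ⊗[ZMod p] Additive V) := ∑ i ∈ Finset.range r, ρK ai ^ i
  have hSK : SK = bc S := by
    simp only [SK, S, map_sum, map_pow]
    rfl
  have hSx : ∀ z : Γ, (z : G) ∈ R → ρK z * SK = SK := by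
    intro z hz
    have e : ρ z * S = S := LinearMap.ext fun w => Additive.toMul.injective (Subtype.ext (by
      rw [Module.End.mul_apply, hρ, hR0 _ hz _ (Additive.toMul (S w)).2 (hSfix w), mul_inv_cancel_right]))
    rw [hSK]
    show bc (ρ z) * bc S = bc S
    rw [← map_mul, e]
  have hScomm : ∀ f f' : Γ, (∀ v ∈ V, a * v = v * a → (f : G) * v * (f : G)⁻¹ = (f' : G) * v * (f' : G)⁻¹) →
      ρK f * SK = ρK f' * SK := by
    intro f f' h
    have e : ρ f * S = ρ f' * S := LinearMap.ext fun w => Additive.toMul.injective (Subtype.ext (by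
      rw [Module.End.mul_apply, Module.End.mul_apply, hρ, hρ, h _ (Additive.toMul (S w)).2 (hSfix w)]))
    rw [hSK]
    show bc (ρ f) * bc S = bc (ρ f') * bc S
    rw [← map_mul, ← map_mul, e]
  let gi : Γ := ⟨⁅x, y⁆, mul_mem (mul_mem (mul_mem (hRΓ hx) (hYΓ hy)) (inv_mem (hRΓ hx))) (inv_mem (hYΓ hy))⟩
  have hgY : (gi : G) ∈ Y := mul_mem (mem_conj_normalizer (hRY hx) hy) (inv_mem hy)
  -- conjugations by `L`
  let C : Set (MulAut Γ) := {c | ∃ l ∈ L, ∀ g, (c g : G) = l * g * l⁻¹}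
  have hgenΓ : ⊤ ≤ Y.subgroupOf Γ ⊔ R.subgroupOf Γ ⊔ zpowers ai := by
    intro g _
    have hle : Γ ≤ (Y.subgroupOf Γ ⊔ R.subgroupOf Γ ⊔ zpowers ai).map Γ.subtype := by
      rw [Subgroup.map_sup, Subgroup.map_sup, map_subgroupOf_eq_of_le hYΓ, map_subgroupOf_eq_of_le hRΓ,
        MonoidHom.map_zpowers]
      exact le_rfl
    obtain ⟨g', hg', e⟩ := hle g.2
    exact Subtype.ext e ▸ hg'
  have hCC : SK = 0 ∨ (R.subgroupOf Γ ≤ Subgroup.closure {g : Γ | ∃ c ∈ C, ∃ z ∈ R.subgroupOf Γ, g = c z * z⁻¹} ∧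
      ∀ c ∈ C, c ai = ai ∧ (∀ z ∈ Y.subgroupOf Γ, c z ∈ Y.subgroupOf Γ) ∧
        (∀ z ∈ Φ.subgroupOf Γ, c z ∈ Φ.subgroupOf Γ) ∧ (∀ z ∈ R.subgroupOf Γ, c z ∈ R.subgroupOf Γ) ∧
        ∀ f ∈ Φ.subgroupOf Γ, ai * f = f * ai → ρK (c f) * SK = ρK f * SK) := by
    rcases hL with hfree | ⟨hRL, hLa, hLY, hLΦ, hLR, hLf⟩
    · refine Or.inl ?_
      have hS0 : S = 0 := LinearMap.ext fun v => Additive.toMul.injective (Subtype.ext
        (hfree _ (Additive.toMul (S v)).2 (hSfix v)))
      rw [hSK, hS0, map_zero]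
    · refine Or.inr ⟨fun z hz => ?_, ?_⟩
      · have hle : R ≤ (Subgroup.closure
            {g : Γ | ∃ c ∈ C, ∃ z ∈ R.subgroupOf Γ, g = c z * z⁻¹}).map Γ.subtype := by
          refine hRL.trans ?_
          rw [Subgroup.commutator_le]
          intro z hz l hl
          have hlΓ : Γ ≤ normalizer (Γ : Set G) := le_normalizer
          have hLΓ : L ≤ normalizer (Γ : Set G) := by
            intro l hl
            rw [hΓ]
            rw [mem_normalizer_iff_smul, ← map_conj_eq_smul, Subgroup.map_sup, Subgroup.map_sup,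
              map_conj_eq_smul, map_conj_eq_smul, map_conj_eq_smul, mem_normalizer_iff_smul.mp (hLY hl),
              mem_normalizer_iff_smul.mp (hLR hl), mem_normalizer_iff_smul.mp (le_normalizer_of_commute
                (H := zpowers l) (K := zpowers a) (fun g hg k hk =>
                  (commute_zpowers' (commute_zpowers' (hLa l hl) hk).symm hg)) (mem_zpowers l))]
          refine ⟨(Γ.normalizerMonoidHom ⟨l, hLΓ hl⟩ ⟨z, hRΓ hz⟩ * (⟨z, hRΓ hz⟩ : Γ)⁻¹)⁻¹,
            inv_mem (Subgroup.subset_closure ⟨Γ.normalizerMonoidHom ⟨l, hLΓ hl⟩, ⟨l, hl, fun _ => rfl⟩,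
              ⟨z, hRΓ hz⟩, hz, rfl⟩), ?_⟩
          show ((l * z * l⁻¹) * z⁻¹)⁻¹ = ⁅z, l⁆
          rw [commutatorElement_def]; group
        obtain ⟨z', hz', e⟩ := hle hz
        exact Subtype.ext e ▸ hz'
      · rintro c ⟨l, hl, hc⟩
        refine ⟨Subtype.ext ?_, fun z hz => ?_, fun z hz => ?_, fun z hz => ?_, fun f hf hfa => ?_⟩
        · rw [hc]
          show l * a * l⁻¹ = a
          rw [← hLa l hl, mul_inv_cancel_right]
        · show (c z : G) ∈ Y
          rw [hc]; exact mem_conj_normalizer (hLY hl) hz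
        · show (c z : G) ∈ Φ
          rw [hc]; exact mem_conj_normalizer (hLΦ hl) hz
        · show (c z : G) ∈ R
          rw [hc]; exact mem_conj_normalizer (hLR hl) hz
        have hfa' : a * (f : G) = f * a := congrArg Subtype.val hfa
        have h0 : ρK (c f) * SK = ρK f * SK := hScomm _ _ fun v hv hav => by
          have hfv : (f : G) * v * (f : G)⁻¹ ∈ V := mem_conj_normalizer (hΓV f.2) hv
          have hafv : a * ((f : G) * v * (f : G)⁻¹) = (f : G) * v * (f : G)⁻¹ * a :=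
            ((((show Commute a (f : G) from hfa').mul_right (show Commute a v from hav)).mul_right
              (show Commute a (f : G) from hfa').inv_right)).eq
          have h3 := hLf l hl f hf hfa' _ hfv hafv
          rw [hc]
          calc l * f * l⁻¹ * v * (l * f * l⁻¹)⁻¹ = ⁅l, (f : G)⁆ * ((f : G) * v * (f : G)⁻¹) * ⁅l, (f : G)⁆⁻¹ := by
                simp only [commutatorElement_def]; group
            _ = (f : G) * v * (f : G)⁻¹ := by rw [h3, mul_inv_cancel_right]
        exact h0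
  have hall := trivial_of_factors (K := K) (Γ := Γ) ρK hp hq ht hr hqp hpr htr hqt hqr ai hair
    (Y := Y.subgroupOf Γ) (Φ := Φ.subgroupOf Γ) (R := R.subgroupOf Γ) (hY.comap_subtype) (hR.comap_subtype)
    (Subgroup.mem_normalizer_iff.mpr fun g => Subgroup.mem_normalizer_iff.mp haY g)
    (fun z hz => Subgroup.mem_normalizer_iff.mpr fun g => Subgroup.mem_normalizer_iff.mp (hRY hz) g)
    (fun z hz => Subtype.ext (hRa _ hz)) (fun z hz => hΦY hz)
    (Subgroup.mem_normalizer_iff.mpr fun g => Subgroup.mem_normalizer_iff.mp haΦ g)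
    (fun z hz f hf => Subtype.ext (hRΦ _ hz _ hf)) (fun f hf z hz => Subtype.ext (hΦc _ hf _ hz))
    (by
      rw [Subgroup.commutator_le]
      exact fun z hz w hw => hYY (commutator_mem_commutator (show (z : G) ∈ Y from hz) (show (w : G) ∈ Y from hw)))
    (fun z hz h => hfix _ hz (congrArg Subtype.val h))
    (fun z hz h => hRfix _ hz fun w hw => congrArg Subtype.val (h ⟨w, hRΓ hw⟩ hw))
    hgenΓ (fun z hz => hSx z hz) C hCC ⟨x, hRΓ hx⟩ hx ⟨y, hYΓ hy⟩ hy
  rw [mem_centralizer_iff]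
  intro v hv
  have h1 := LinearMap.congr_fun hall ((1 : K) ⊗ₜ[ZMod p] Additive.ofMul ⟨v, hv⟩)
  have h2 : ρ gi (Additive.ofMul ⟨v, hv⟩) = Additive.ofMul ⟨v, hv⟩ := by
    refine sub_eq_zero.mp ?_
    have h3 : (1 : K) ⊗ₜ[ZMod p] (ρ gi (Additive.ofMul ⟨v, hv⟩) - Additive.ofMul (⟨v, hv⟩ : V)) = 0 := by
      rw [TensorProduct.tmul_sub, ← LinearMap.baseChange_tmul, sub_eq_zero]
      exact h1
    let b := Module.finBasis (ZMod p) (Additive V)
    refine b.repr.injective (Finsupp.ext fun i => (algebraMap (ZMod p) K).injective ?_)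
    have h4 := congrArg (fun t => (b.baseChange K).repr t i) h3
    simp only [Module.Basis.baseChange_repr_tmul, map_zero, Finsupp.coe_zero, Pi.zero_apply] at h4
    rw [map_zero, Finsupp.coe_zero, Pi.zero_apply, map_zero, Algebra.algebraMap_eq_smul_one]
    exact h4
  have h5 := hρ gi (Additive.ofMul ⟨v, hv⟩)
  rw [h2] at h5
  exact (mul_inv_eq_iff_eq_mul.mp h5.symm).symm

end Cfsg.Agent.Grp.Turull
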