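import Mathlib
import Cfsg.Agent.Lib.Grp.TurullHeight.Step
import Cfsg.Agent.Lib.Grp.TurullHeight.Fresh
import Cfsg.Agent.Lib.Grp.TurullHeight.Theta

/-!
The beginning of the descent and the bound on the length of a least tower.
-/

set_option autoImplicit false
set_option linter.unusedSectionVars false
set_option linter.style.haveILetI false

namespace Cfsg.Agent.Grp.Turull

open Subgroup
open Cfsg.Agent.Transfer.SFT.Height (Series)
open scoped commutatorElement

variable {G : Type*} [Group G]

namespace MinTow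

variable [Finite G] {a : G} {X : Subgroup G} {m r : ℕ} {P : ℕ → Subgroup G}
  {q : ℕ → ℕ}

/-- The levels above the first moved one are reached among the fixed points. -/
theorem reach_levels (T : MinTow a X m P q) : ∀ i ≤ m, (∀ l ≤ i, P l ≤ centralizer ({a} : Set G)) →
    Reach (X ⊓ centralizer ({a} : Set G)) (i + 1) (P i) (q i) := by
  intro i
  induction i with
  | zero => exact fun hi h => Reach.base (T.prime 0 hi) (T.pgroup 0 hi) (le_inf (T.le 0 hi) (h 0 le_rfl))
  | succ i ih =>
    intro hi h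
    have h1 := Reach.step (ih (by omega) fun l hl => h l (by omega)) (T.prime (i + 1) hi)
      (T.adj i (by omega)).symm (T.pgroup (i + 1) hi) (le_inf (T.le _ hi) (h _ le_rfl))
      (T.norm i (i + 1) (by omega) hi)
    rwa [T.eq_commutator hi] at h1

theorem commutator_mem_succ (T : MinTow a X m P q) {i j : ℕ} (hij : i ≤ j) (hj : j ≤ m) {c d : G}
    (hc : c ∈ P j) (hd : d ∈ P i) : ⁅c, d⁆ ∈ P j :=
  commutator_le_left_of_le_normalizer (T.norm i j hij hj) (commutator_mem_commutator hc hd)

/-- The level above the first moved one does not act trivially on the fixed points of the level below,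
unless the level two steps above moves the Frattini part. -/
theorem exists_of_theta (T : MinTow a X m P q) (hr : r.Prime) (har : a ^ r = 1) (hrX : ¬ r ∣ Nat.card X) {l : ℕ}
    (hl : l + 1 + 1 ≤ m) (hlow : ∀ k ≤ l, P k ≤ centralizer ({a} : Set G))
    (hcov : P (l + 1) ≤ ⁅P (l + 1), zpowers a⁆ ⊔ kl P m (l + 1))
    (hB : ∀ c ∈ P (l + 1 + 1), a * c = c * a → ∀ d ∈ P l, ⁅c, d⁆ ∈ fl P m (l + 1 + 1)) :
    (∃ c ∈ P (l + 1 + 1), a * c = c * a ∧ c ∉ fl P m (l + 1 + 1)) ∧
      ∀ l', l = l' + 1 → ∃ g ∈ P l', ∃ f ∈ P (l + 1), a * f = f * a ∧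
        ∃ c ∈ P (l + 1 + 1), a * c = c * a ∧ ⁅c, ⁅g, f⁆⁆ ∉ fl P m (l + 1 + 1) := by
  set i := l + 1 with hi
  have hlm : l ≤ m := by omega
  have hi1 : i ≤ m := by omega
  have haH := T.a_mem_hf hl
  have hVH : P (i + 1) ≤ hf P m i := T.P_le_hf hl le_rfl
  have hYH : P i ≤ hf P m i := T.P_le_hf hl (by omega)
  have hRH : P l ≤ hf P m i := T.P_le_hf hl (by omega)
  have hFH : fl P m i ≤ hf P m i := (fl_le P m i).trans hYH
  have hda : ∀ d ∈ P l, a * d = d * a := fun d hd => (mem_centralizer_singleton_iff.mp (hlow l le_rfl hd)).symm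
  have hfixV : ∀ v ∈ fimg P m i (P (i + 1)), fel P m i a haH * v = v * fel P m i a haH →
      ∃ c, ∃ hc : c ∈ P (i + 1), a * c = c * a ∧ v = fel P m i c (hVH hc) := by
    intro v hv hva
    obtain ⟨y, hyH, hy, rfl⟩ := exists_of_mem_img hv
    obtain ⟨c, hc, hyc, hca⟩ := el_fixed_img hr har haH (T.inv (i + 1) hl) haH
      (T.not_dvd_card hr hrX hl inf_le_left) hy hyH hva
    exact ⟨c, hc, hca, (el_eq_el hyH (hVH hc)).mpr hyc⟩
  have hcore : ∀ L : Subgroup (↥(hf P m i) ⧸ (nf P m i).subgroupOf (hf P m i)),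
      ((∀ v ∈ fimg P m i (P (i + 1)), fel P m i a haH * v = v * fel P m i a haH → v = 1) ∨
        (fimg P m i (P l) ≤ ⁅fimg P m i (P l), L⁆ ∧ (∀ g ∈ L, fel P m i a haH * g = g * fel P m i a haH) ∧
          L ≤ normalizer (fimg P m i (P i) : Set _) ∧ L ≤ normalizer (fimg P m i (fl P m i) : Set _) ∧
          L ≤ normalizer (fimg P m i (P l) : Set _) ∧
          ∀ g ∈ L, ∀ f ∈ fimg P m i (fl P m i), fel P m i a haH * f = f * fel P m i a haH →
            ∀ v ∈ fimg P m i (P (i + 1)), fel P m i a haH * v = v * fel P m i a haH →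
              ⁅g, f⁆ * v = v * ⁅g, f⁆)) → False := by
    intro L hL
    have hth := theta (T.prime (i + 1) hl) (T.prime i hi1) (T.prime l hlm) hr (T.adj i (by omega))
      (T.q_ne hr hrX hl) (T.q_ne hr hrX hlm) (T.adj l (by omega)).symm (T.q_ne hr hrX hi1) (T.fel_pow_r hl har)
      (V := fimg P m i (P (i + 1))) (Y := fimg P m i (P i)) (Φ := fimg P m i (fl P m i))
      (R := fimg P m i (P l)) (L := L)
      (T.frame_elemAb hl) (img_isPGroup (T.pgroup i hi1)) (img_isPGroup (T.pgroup l hlm))
      (el_mem_normalizer haH (T.inv _ hl)) (img_le_normalizer (T.norm _ _ (by omega) hl))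
      (img_le_normalizer (T.norm _ _ (by omega) hl)) (el_mem_normalizer haH (T.inv _ hi1))
      (img_le_normalizer (T.norm _ _ (by omega) hi1))
      (fun u hu => by
        obtain ⟨d, hdH, hd, rfl⟩ := exists_of_mem_img hu
        exact el_commute haH hdH (hda d hd))
      (img_mono (fl_le P m i)) (el_mem_normalizer haH (T.inv_fl hi1))
      (fun u hu v hv => by
        obtain ⟨d, hdH, hd, rfl⟩ := exists_of_mem_img hu
        obtain ⟨f, hfH, hf, rfl⟩ := exists_of_mem_img hv
        exact ((el_commute_iff hfH hdH).mpr (show _ ∈ nf P m i from mem_sup_left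
          (T.fl_commutator hi1 (commutator_mem_commutator hf hd)))).symm)
      (fun u hu v hv => by
        obtain ⟨f, hfH, hf, rfl⟩ := exists_of_mem_img hu
        obtain ⟨g, hgH, hg, rfl⟩ := exists_of_mem_img hv
        exact ((el_commute_iff hgH hfH).mpr
          (show _ ∈ nf P m i from mem_sup_left (T.fl_central hi1 hf hg))).symm)
      (by
        rw [← img_commutator hYH hYH]
        exact img_mono (T.commutator_le_fl hi1))
      (fun u hu hua => by
        obtain ⟨y, hyH, hy, rfl⟩ := exists_of_mem_img hu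
        obtain ⟨c, hc, hyc, hca⟩ := el_fixed_img hr har haH (T.inv i hi1) haH
          (T.not_dvd_card hr hrX hi1 inf_le_left) hy hyH hua
        have hcF : c ∈ fl P m i := T.fixed_mem_fl hr har hrX hi1 hcov hc (by
          rw [hca, mul_inv_cancel_right, inv_mul_cancel]; exact one_mem _)
        rw [(el_eq_el hyH (hYH hc)).mpr hyc]
        exact el_mem_img _ hcF)
      (fun u hu hux => by
        obtain ⟨y, hyH, hy, rfl⟩ := exists_of_mem_img hu
        refine el_mem_img hyH (T.mem_fl_of_fixed hi1 hy fun x hx => kl_le_fl P m _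
          (T.mem_kl_of_nf hl (T.commutator_mem_succ (by omega) hi1 hy hx) ?_))
        exact (el_commute_iff hyH (hRH hx)).mp (hux _ (el_mem_img _ hx)).symm)
      (fun u hu v hv hva => by
        obtain ⟨d, hdH, hd, rfl⟩ := exists_of_mem_img hu
        obtain ⟨c, hc, hca, rfl⟩ := hfixV v hv hva
        exact ((el_commute_iff (hVH hc) hdH).mpr
          (show _ ∈ nf P m i from mem_sup_right (hB c hc hca d hd))).symm)
      hL
    refine T.not_le_kl i hi1 ?_
    rw [← T.eq_commutator hi1, Subgroup.commutator_le]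
    intro y hy d hd
    have hm := T.commutator_mem_succ (show l ≤ i by omega) hi1 hy hd
    have h1 : fel P m i ⁅y, d⁆ (hYH hm) ∈ fimg P m i (P i) ⊓ centralizer (fimg P m i (P (i + 1)) : Set _) := by
      refine Subgroup.mem_inf.mpr ⟨el_mem_img _ hm, ?_⟩
      have h2 := inv_mem (hth _ (el_mem_img (hRH hd) hd) _ (el_mem_img (hYH hy) hy))
      rw [commutatorElement_inv, el_commutator] at h2
      exact h2
    rw [T.frame_faith hl, mem_bot] at h1
    exact T.mem_kl_of_nf hl hm ((el_eq_one _).mp h1)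
  refine ⟨?_, ?_⟩
  · by_contra hno
    refine hcore ⊥ (Or.inl fun v hv hva => ?_)
    obtain ⟨c, hc, hca, rfl⟩ := hfixV v hv hva
    by_contra hne
    exact hno ⟨c, hc, hca, fun h => hne ((el_eq_one _).mpr (show _ ∈ nf P m i from mem_sup_right h))⟩
  · intro l' hl'
    by_contra hno
    have hLH : P l' ≤ hf P m i := T.P_le_hf hl (by omega)
    refine hcore (fimg P m i (P l')) (Or.inr ⟨?_, ?_, img_le_normalizer (T.norm _ _ (by omega) hi1),
      img_le_normalizer (T.norm_fl (by omega) hi1), img_le_normalizer (T.norm _ _ (by omega) hlm), ?_⟩)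
    · rw [← img_commutator hRH hLH]
      refine img_mono ?_
      subst hl'
      exact (T.eq_commutator hlm).ge
    · intro u hu
      obtain ⟨g, hgH, hg, rfl⟩ := exists_of_mem_img hu
      exact el_commute haH hgH (mem_centralizer_singleton_iff.mp (hlow l' (by omega) hg)).symm
    · intro u hu w hw hwa v hv hva
      obtain ⟨g, hgH, hg, rfl⟩ := exists_of_mem_img hu
      obtain ⟨f₀, hf₀H, hf₀, rfl⟩ := exists_of_mem_img hw
      obtain ⟨f, hf, hff, hfa⟩ := el_fixed_img hr har haH (T.inv_fl hi1) haH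
        (T.not_dvd_card hr hrX hi1 (inf_le_left.trans (fl_le P m i))) hf₀ hf₀H hwa
      obtain ⟨c, hc, hca, rfl⟩ := hfixV v hv hva
      rw [(el_eq_el hf₀H (hFH hf)).mpr hff, el_commutator]
      by_contra hne
      refine hno ⟨g, hg, f, fl_le P m i hf, hfa, c, hc, hca, fun h => hne ?_⟩
      exact ((el_commute_iff (hVH hc) _).mpr (show _ ∈ nf P m i from mem_sup_right h)).symm

/-- A least tower starts the descent. -/
theorem exists_inv (T : MinTow a X m P q) (hr : r.Prime) (har : a ^ r = 1) (hrX : ¬ r ∣ Nat.card X) {n : ℕ}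
    (hm : m = n + 2) (hs : Series n (X ⊓ centralizer ({a} : Set G))) :
    ∃ i, i + 1 ≤ m ∧ Inv a X m P q i := by
  classical
  have hex : ∃ i, i ≤ n ∧ ¬ P i ≤ centralizer ({a} : Set G) := by
    by_contra h
    push Not at h
    have h1 := (T.reach_levels n (by omega) h).eq_bot hs le_rfl
    exact T.not_le_kl n (by omega) (h1.le.trans bot_le)
  set j := Nat.find hex with hj
  obtain ⟨hjn, hjne⟩ := Nat.find_spec hex
  rw [← hj] at hjn hjne
  have hlow : ∀ l < j, P l ≤ centralizer ({a} : Set G) := fun l hl => by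
    by_contra h
    exact Nat.find_min hex hl ⟨by omega, h⟩
  have hcov : P j ≤ ⁅P j, zpowers a⁆ ⊔ kl P m j :=
    T.moved_cover hr har hrX (by omega) hlow fun h =>
      hjne (T.le_centralizer_of_unmoved hr har hrX (by omega) hlow h)
  rcases Nat.eq_zero_or_pos j with h0 | hpos
  · rw [h0] at hcov hjn
    have hl : 0 + 1 + 1 ≤ m := by omega
    obtain ⟨z, hzP, hza, hz⟩ : ∃ z ∈ P (0 + 1), a * z = z * a ∧ z ∉ fl P m (0 + 1) := by
      by_contra hno
      push Not at hno
      have hl1 : 0 + 1 ≤ m := by omega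
      have hP0 := T.P_le_hf hl1 (show 0 ≤ 0 + 1 by omega)
      have hP1 := T.P_le_hf hl1 le_rfl
      have haH := T.a_mem_hf hl1
      have h1 := fpf_image_abelian_le (T.prime (0 + 1) hl1) (T.prime 0 (by omega)) hr (T.adj 0 (by omega)).symm
        (T.q_ne hr hrX hl1) (T.q_ne hr hrX (by omega)) (T.fel_pow_r hl1 har)
        (Q := fimg P m 0 (P 0)) (W := fimg P m 0 (P (0 + 1)))
        (img_isPGroup (T.pgroup 0 (by omega))) (el_mem_normalizer haH (T.inv 0 (by omega)))
        (T.frame_elemAb hl1) (el_mem_normalizer haH (T.inv _ hl1))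
        (img_le_normalizer (T.norm _ _ (by omega) hl1))
        (by
          rw [← img_commutator hP0 hP0]
          refine le_trans (img_mono T.commutator_le_kl_zero) fun u hu => ?_
          obtain ⟨k, hkH, hk, rfl⟩ := exists_of_mem_img hu
          rw [(el_eq_one hkH).mpr (show k ∈ nf P m 0 from mem_sup_left hk)]
          exact one_mem _)
        (fun w hw hwa => by
          obtain ⟨y, hyH, hy, rfl⟩ := exists_of_mem_img hw
          obtain ⟨c, hc, hyc, hca⟩ := el_fixed_img hr har haH (T.inv _ hl1) haH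
            (T.not_dvd_card hr hrX hl1 inf_le_left) hy hyH hwa
          rw [(el_eq_el hyH (hP1 hc)).mpr hyc, el_eq_one]
          exact mem_sup_right (hno c hc hca))
      refine T.not_le_kl 0 (by omega) (hcov.trans (sup_le ?_ le_rfl))
      rw [Subgroup.commutator_le]
      intro g hg t ht
      have hA := commutator_le_left_of_le_normalizer (zpowers_le_normalizer (T.inv 0 (by omega : (0:ℕ) ≤ m)))
      have hgm := hA (commutator_mem_commutator hg ht)
      have h2 : fel P m 0 ⁅g, t⁆ (hP0 hgm) ∈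
          fimg P m 0 (P 0) ⊓ centralizer (fimg P m 0 (P (0 + 1)) : Set _) := by
        refine Subgroup.mem_inf.mpr ⟨el_mem_img _ hgm, h1 ?_⟩
        rw [← img_zpowers haH, ← img_commutator hP0 (zpowers_le.mpr haH)]
        exact el_mem_img _ (commutator_mem_commutator hg ht)
      rw [T.frame_faith hl1, mem_bot] at h2
      exact T.mem_kl_of_nf hl1 hgm ((el_eq_one _).mp h2)
    have hR : Reach (X ⊓ centralizer ({a} : Set G)) 1 (P (0 + 1) ⊓ centralizer ({a} : Set G)) (q (0 + 1)) :=
      Reach.base (T.prime _ (by omega)) ((T.pgroup _ (by omega)).to_le inf_le_left)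
        (le_inf (inf_le_left.trans (T.le _ (by omega))) inf_le_right)
    exact ⟨0 + 1, hl, T.inv_of_good hr har hrX hl hR (by omega)
      (inf_le_left.trans (T.norm _ _ (by omega) hl))
      (mem_inf_centralizer.mpr ⟨hzP, hza⟩) hzP (T.fresh_top hr har hrX hl hcov hzP hza hz)⟩
  obtain ⟨l, hjl⟩ := Nat.exists_eq_add_of_le' hpos
  rw [hjl] at hcov hjn
  have hl : l + 1 + 1 + 1 ≤ m := by omega
  refine ⟨l + 1 + 1, hl, ?_⟩
  have hlow' : ∀ k ≤ l, P k ≤ centralizer ({a} : Set G) := fun k hk => hlow k (by omega)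
  have hreach := T.reach_levels l (by omega) hlow'
  set S0 := P (l + 1 + 1) ⊓ centralizer ({a} : Set G) with hS0
  have hS0C : S0 ≤ X ⊓ centralizer ({a} : Set G) :=
    le_inf (inf_le_left.trans (T.le _ (by omega))) inf_le_right
  have hS0p : IsPGroup (q (l + 1 + 1)) S0 := (T.pgroup _ (by omega)).to_le inf_le_left
  have hS0n : S0 ≤ normalizer (P (l + 1 + 1 + 1) : Set G) := inf_le_left.trans (T.norm _ _ (by omega) hl)
  have hnS0 : ∀ k ≤ l, P k ≤ normalizer (S0 : Set G) := fun k hk =>
    le_normalizer_inf' (T.norm k (l + 1 + 1) (by omega) (by omega)) ((hlow' k hk).trans le_normalizer)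
  have hdn : ∀ d ∈ P l, d ∈ normalizer (fl P m (l + 1 + 1) : Set G) := fun d hd =>
    T.norm_fl (by omega) (by omega) hd
  -- from a good element
  have finish : ∀ {k} {R : Subgroup G}, Reach (X ⊓ centralizer ({a} : Set G)) k R (q (l + 1 + 1)) →
      l + 1 + 1 ≤ k + 1 → R ≤ normalizer (P (l + 1 + 1 + 1) : Set G) → ∀ z ∈ P (l + 1 + 1), z ∈ R →
      z ∉ fl P m (l + 1 + 1) →
      (∀ c ∈ S0, ∀ d ∈ P l, ⁅c, d⁆ ∉ fl P m (l + 1 + 1) → ⁅c, d⁆ ∈ R) →
      Inv a X m P q (l + 1 + 1) := by
    intro k R hR hk hRn z hzP hzR hz hcd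
    have hza : a * z = z * a := (mem_centralizer_singleton_iff.mp (hR.le hzR).2).symm
    rcases T.fresh hr har hrX hl (hlow' l le_rfl) hcov hzP hza hz with hg | ⟨c, hc, hca, d, hd, hm, hne, hg⟩
    · exact T.inv_of_good hr har hrX hl hR hk hRn hzR hzP hg
    · exact T.inv_of_good hr har hrX hl hR hk hRn (hcd c (mem_inf_centralizer.mpr ⟨hc, hca⟩) d hd hne) hm hg
  by_cases hA : ∃ c ∈ S0, ∃ d ∈ P l, ⁅c, d⁆ ∉ fl P m (l + 1 + 1)
  · obtain ⟨x, hx, d, hd, hxd⟩ := hA
    have hxdP := T.commutator_mem_succ (show l ≤ l + 1 + 1 by omega) (by omega) hx.1 hd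
    by_cases hqq : q (l + 1 + 1) = q l
    swap
    · refine finish (Reach.step hreach (T.prime _ (by omega)) hqq hS0p hS0C (hnS0 l le_rfl)) (by omega)
        ((commutator_le_left_of_le_normalizer (hnS0 l le_rfl)).trans hS0n) _ hxdP
        (commutator_mem_commutator hx hd) hxd fun c hc d hd _ => commutator_mem_commutator hc hd
    · set S := P l ⊔ S0 with hS
      haveI := Fact.mk (T.prime (l + 1 + 1) (by omega))
      have hSp : IsPGroup (q (l + 1 + 1)) S :=
        IsPGroup.to_sup_of_normal_right' (hqq ▸ T.pgroup l (by omega)) hS0p (hnS0 l le_rfl)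
      have hSC : S ≤ X ⊓ centralizer ({a} : Set G) := sup_le hreach.le hS0C
      have hSn : S ≤ normalizer (P (l + 1 + 1 + 1) : Set G) := sup_le (T.norm _ _ (by omega) hl) hS0n
      rcases Nat.eq_zero_or_pos l with h0 | hl0
      · exact finish (Reach.base (T.prime _ (by omega)) hSp hSC) (by omega) hSn _ hxdP
          (mul_mem (mul_mem (mul_mem (mem_sup_right hx) (mem_sup_left hd)) (inv_mem (mem_sup_right hx)))
            (inv_mem (mem_sup_left hd))) hxd
          fun c hc d hd _ => mul_mem (mul_mem (mul_mem (mem_sup_right hc) (mem_sup_left hd))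
            (inv_mem (mem_sup_right hc))) (inv_mem (mem_sup_left hd))
      obtain ⟨l', rfl⟩ := Nat.exists_eq_add_of_le' hl0
      have hLS : P l' ≤ normalizer (S : Set G) :=
        le_normalizer_sup' (T.norm _ _ (by omega) (by omega)) (hnS0 l' (by omega))
      have hR' := Reach.step (T.reach_levels l' (by omega) fun k hk => hlow' k (by omega))
        (T.prime _ (by omega)) (fun e => T.adj l' (by omega) (e.symm.trans hqq)) hSp hSC hLS
      have hdR : ∀ d ∈ P (l' + 1), d ∈ ⁅S, P l'⁆ := fun d hd => by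
        rw [← T.eq_commutator (show l' + 1 ≤ m by omega)] at hd
        exact commutator_mono le_sup_left le_rfl hd
      have hcdR : ∀ c ∈ S0, ∀ d ∈ P (l' + 1), ⁅c, d⁆ ∈ ⁅S, P l'⁆ := fun c hc d hd => by
        rw [commutatorElement_def]
        exact mul_mem (mem_conj_normalizer (left_le_normalizer_commutator _ _ (mem_sup_right hc)) (hdR d hd))
          (inv_mem (hdR d hd))
      exact finish hR' (by omega) ((commutator_le_left_of_le_normalizer hLS).trans hSn) _ hxdP
        (hcdR x hx d hd) hxd fun c hc d hd _ => hcdR c hc d hd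
  push Not at hA
  obtain ⟨⟨z, hzP, hza, hz⟩, hmove⟩ := T.exists_of_theta hr har hrX (show l + 1 + 1 ≤ m by omega) hlow' hcov
    fun c hc hca d hd => hA c (mem_inf_centralizer.mpr ⟨hc, hca⟩) d hd
  rcases Nat.eq_zero_or_pos l with h0 | hl0
  · exact finish (Reach.base (T.prime _ (by omega)) hS0p hS0C) (by omega) hS0n z hzP
      (mem_inf_centralizer.mpr ⟨hzP, hza⟩) hz fun c hc d hd hne => absurd (hA c hc d hd) hne
  obtain ⟨l', rfl⟩ := Nat.exists_eq_add_of_le' hl0
  obtain ⟨g, hg, f, hf, hfa, x, hx, hxa, hxgf⟩ := hmove l' rfl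
  have hxS : x ∈ S0 := mem_inf_centralizer.mpr ⟨hx, hxa⟩
  have hreach' := T.reach_levels l' (show l' ≤ m by omega) fun k hk => hlow' k (by omega)
  have hgfl : g ∈ normalizer (fl P m (l' + 1 + 1 + 1) : Set G) := T.norm_fl (by omega) (by omega) hg
  have hffl : f ∈ normalizer (fl P m (l' + 1 + 1 + 1) : Set G) := T.norm_fl (by omega) (by omega) hf
  by_cases hqq : q (l' + 1 + 1 + 1) = q l'
  · set Sf := P (l' + 1 + 1) ⊓ centralizer ({a} : Set G) with hSf
    have hLf : P l' ≤ normalizer (Sf : Set G) :=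
      le_normalizer_inf' (T.norm _ _ (by omega) (by omega)) ((hlow' l' (by omega)).trans le_normalizer)
    have hR1 := Reach.step hreach' (T.prime (l' + 1 + 1) (by omega))
      (fun e => T.adj (l' + 1 + 1) (by omega) (e.trans hqq.symm))
      ((T.pgroup _ (by omega)).to_le inf_le_left) (le_inf (inf_le_left.trans (T.le _ (by omega))) inf_le_right) hLf
    have hR1f : ⁅Sf, P l'⁆ ≤ Sf := commutator_le_left_of_le_normalizer hLf
    have hR1n : ⁅Sf, P l'⁆ ≤ normalizer (S0 : Set G) :=
      le_normalizer_inf' ((hR1f.trans inf_le_left).trans (T.norm _ _ (by omega) (by omega)))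
        ((hR1f.trans inf_le_right).trans le_normalizer)
    have hR2 := Reach.step hR1 (T.prime (l' + 1 + 1 + 1) (by omega)) (T.adj (l' + 1 + 1) (by omega)).symm
      hS0p hS0C hR1n
    have hfg : ⁅f, g⁆ ∈ ⁅Sf, P l'⁆ := commutator_mem_commutator (mem_inf_centralizer.mpr ⟨hf, hfa⟩) hg
    have hzR := commutator_mem_commutator (H₁ := S0) hxS hfg
    have hzS := commutator_le_left_of_le_normalizer hR1n hzR
    refine finish hR2 (by omega) ((commutator_le_left_of_le_normalizer hR1n).trans hS0n) _ hzS.1 hzR ?_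
      fun c hc d hd hne => absurd (hA c hc d hd) hne
    intro h
    refine hxgf ?_
    have hgfn : ⁅g, f⁆ ∈ normalizer (fl P m (l' + 1 + 1 + 1) : Set G) :=
      mul_mem (mul_mem (mul_mem hgfl hffl) (inv_mem hgfl)) (inv_mem hffl)
    have h2 := mem_conj_normalizer hgfn (inv_mem h)
    convert h2 using 1
    simp only [commutatorElement_def]
    group
  · have hR := Reach.step hreach' (T.prime (l' + 1 + 1 + 1) (by omega)) hqq hS0p hS0C (hnS0 l' (by omega))
    obtain ⟨c, hc, d, hd, hne⟩ : ∃ c ∈ S0, ∃ d ∈ P l', ⁅c, d⁆ ∉ fl P m (l' + 1 + 1 + 1) := by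
      by_contra hno
      push Not at hno
      refine hxgf ?_
      have h1 : ⁅x, g⁆ ∈ fl P m (l' + 1 + 1 + 1) := hno x hxS g hg
      have hxf : f⁻¹ * x * f ∈ S0 := mem_inf_centralizer.mpr
        ⟨mem_conj_normalizer' (T.norm (l' + 1 + 1) _ (by omega) (by omega) hf) hx,
          (((show Commute a f from hfa).inv_right).mul_right (show Commute a x from hxa)).mul_right
            (show Commute a f from hfa) |>.eq⟩
      have h2 := mem_conj_normalizer hgfl (mem_conj_normalizer hffl (hno _ hxf g⁻¹ (inv_mem hg)))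
      have h3 := mul_mem h1 h2
      convert h3 using 1
      simp only [commutatorElement_def]
      group
    exact finish hR (by omega) ((commutator_le_left_of_le_normalizer (hnS0 l' (by omega))).trans hS0n) _
      (T.commutator_mem_succ (show l' ≤ l' + 1 + 1 + 1 by omega) (by omega) hc.1 hd)
      (commutator_mem_commutator hc hd) hne fun c hc d hd hne => absurd (hA c hc d hd) hne

/-- The bound on a least tower. -/
theorem absurd_of_series (T : MinTow a X m P q) (hr : r.Prime) (har : a ^ r = 1) (hrX : ¬ r ∣ Nat.card X) {n : ℕ}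
    (hm : m = n + 2) (hs : Series n (X ⊓ centralizer ({a} : Set G))) : False := by
  obtain ⟨i, hi, hinv⟩ := T.exists_inv hr har hrX hm hs
  obtain ⟨d, hd⟩ := Nat.exists_eq_add_of_le hi
  induction d generalizing i with
  | zero => exact T.inv_last hm hs (by omega) hinv
  | succ d ih => exact ih (i + 1) (by omega) (T.inv_step hr har hrX (by omega) hinv) (by omega)

end MinTow

end Cfsg.Agent.Grp.Turull
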