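import Mathlib
import Cfsg.Agent.Lib.Grp.TurullHeight.Start

/-!
The Fitting height exceeds that of the fixed points of a coprime operator of prime order by at most two.
-/

set_option autoImplicit false
set_option linter.unusedSectionVars false
set_option linter.style.haveILetI false

namespace Cfsg.Agent.Grp.Turull

open Subgroup
open Cfsg.Agent.Transfer.SFT.Height (Series exists_tower series_of_top)
open scoped commutatorElement

universe u

theorem series_add_two {W : Type u} [Group W] [Finite W] {a : W} {r : ℕ} (hr : r.Prime) (har : a ^ r = 1)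
    (X : Subgroup W) [X.Normal] (hX : Group.IsSolvable ↥X) (hrX : ¬ r ∣ Nat.card X) {n : ℕ}
    (hs : Series n (X ⊓ centralizer ({a} : Set W))) : Series (n + 2) X := by
  by_contra hns
  obtain ⟨P, q, T⟩ := exists_tower (n + 2) W (zpowers a) X hX (coprime_zpowers har hr hrX) hns
  obtain ⟨P', T'⟩ := exists_minTow (a := a) (X := X) (m := n + 2) (P := P) (q := q)
    { prime := T.prime
      pgroup := T.pgroup
      le := T.le
      inv := fun i hi => T.inv i hi (mem_zpowers a)
      norm := fun i j hij hj => by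
        rcases hij.eq_or_lt with rfl | hlt
        · exact le_normalizer
        · exact T.norm i j hlt hj
      adj := T.adj
      live := T.live }
  exact T'.absurd_of_series hr har hrX rfl hs

theorem series_of_automorphism {G : Type u} [Group G] [Finite G] (hG : Group.IsSolvable G) (σ : MulAut G)
    {r : ℕ} (hr : r.Prime) (hσ : orderOf σ = r) (hcop : ¬ r ∣ Nat.card G) (C : Subgroup G)
    (hC : ∀ g : G, g ∈ C ↔ σ g = g) {n : ℕ} (hn : Series n C) : Series (n + 2) (⊤ : Subgroup G) := by
  let φ : ↥(zpowers σ) →* MulAut G := (zpowers σ).subtype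
  haveI : Finite (G ⋊[φ] ↥(zpowers σ)) := Finite.of_equiv _ SemidirectProduct.equivProd.symm
  let ι : G →* G ⋊[φ] ↥(zpowers σ) := SemidirectProduct.inl
  let s : ↥(zpowers σ) := ⟨σ, mem_zpowers σ⟩
  let a : G ⋊[φ] ↥(zpowers σ) := SemidirectProduct.inr s
  have hι : Function.Injective ι := SemidirectProduct.inl_injective
  haveI : (ι.range).Normal := by
    show (SemidirectProduct.inl : G →* G ⋊[φ] ↥(zpowers σ)).range.Normal
    rw [SemidirectProduct.range_inl_eq_ker_rightHom]
    infer_instance
  have har : a ^ r = 1 := by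
    show (SemidirectProduct.inr s : G ⋊[φ] ↥(zpowers σ)) ^ r = 1
    rw [← map_pow, show s ^ r = 1 from Subtype.ext (by
      rw [SubmonoidClass.coe_pow, Subgroup.coe_one, ← hσ]; exact pow_orderOf_eq_one σ), map_one]
  have hcard : Nat.card ↥ι.range = Nat.card G := Nat.card_congr (MonoidHom.ofInjective hι).toEquiv.symm
  have hsol : Group.IsSolvable ↥ι.range := by
    haveI := hG
    rw [MonoidHom.range_eq_map]
    exact Grp.isSolvable_map (Grp.isSolvable_of_le le_rfl inferInstance) ι
  have hconj : ∀ g : G, a * ι g * a⁻¹ = ι (σ g) := fun g => by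
    show SemidirectProduct.inr s * SemidirectProduct.inl g * (SemidirectProduct.inr s)⁻¹ =
      SemidirectProduct.inl (φ s g)
    rw [SemidirectProduct.inl_aut, map_inv]
  have hCmap : C.map ι = ι.range ⊓ centralizer ({a} : Set _) := by
    refine le_antisymm ?_ ?_
    · rintro _ ⟨g, hg, rfl⟩
      refine mem_inf_centralizer.mpr ⟨⟨g, rfl⟩, ?_⟩
      have h1 := hconj g
      rw [(hC g).mp hg] at h1
      exact mul_inv_eq_iff_eq_mul.mp h1
    · intro x hx
      obtain ⟨⟨g, rfl⟩, hxa⟩ := mem_inf_centralizer.mp hx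
      refine ⟨g, (hC g).mpr (hι ?_), rfl⟩
      rw [← hconj g, hxa, mul_inv_cancel_right]
  have hs : Series n (ι.range ⊓ centralizer ({a} : Set _)) := hCmap ▸ hn.map ι
  obtain ⟨F, h0, hl, hm, hnorm, hk⟩ :=
    series_add_two hr har ι.range hsol (by rwa [hcard]) hs
  have hle : ∀ i, F i ≤ ι.range := fun i => hl ▸ hm (Fin.le_last i)
  refine ⟨fun i => (F i).comap ι, ?_, ?_, fun i j h => comap_mono (hm h), fun i => ?_, fun i => ?_⟩
  · show (F 0).comap ι = ⊥
    rw [h0, MonoidHom.comap_bot, (MonoidHom.ker_eq_bot_iff ι).mpr hι]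
  · show (F (Fin.last (n + 2))).comap ι = ⊤
    rw [hl, MonoidHom.range_eq_map, Subgroup.comap_map_eq_self_of_injective hι]
  · refine invariant_iff.mp fun g _ x hx => ?_
    rw [mem_comap, map_mul, map_mul, map_inv]
    exact mem_conj_normalizer (hnorm i ⟨g, rfl⟩) hx
  · obtain ⟨k, hk'⟩ := hk i
    refine ⟨k, ?_⟩
    rw [← Subgroup.map_le_iff_le_comap, Subgroup.map_lowerCentralSeries]
    exact le_trans (Subgroup.lowerCentralSeries_mono k (map_comap_le _ _)) hk'

end Cfsg.Agent.Grp.Turull
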